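import Mathlib

/-!
# The counting inequality

The characters with coefficient `-1` are few and of large degree, so the index is at most `3q`.
-/

set_option autoImplicit false

namespace CfsgLib.AbelianSolv

open Finset

/-- The condition on `P = ∑_{x ∈ E#} |C_T(x)|`. -/
def Good (e q P : ℤ) : Prop :=
  6 * (e * P - (e - 1) ^ 2) + P < q + 2 ∨ ((e * P - (e - 1) ^ 2) + P < q + 2 ∧
    ∀ a : ℤ, 1 ≤ a → 2 ∣ a + e → (a + e) ^ 2 ≤ e * P - (e - 1) ^ 2 →
      5 * a ^ 2 + 4 * a ≤ 2 * e + 2 * e * a + e ^ 2)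

theorem count_bound {ι : Type*} (s : Finset ι) (a d ν : ι → ℤ) (f : ι → ℕ) {e q P : ℤ} {n k : ℕ}
    (he : 1 ≤ e) (hk : (k : ℤ) = q - 1) (h7 : 7 ≤ k) (h3 : ¬ (3 : ℤ) ∣ q) (hn : 1 ≤ n)
    (hd : ∀ i ∈ s, -1 ≤ d i) (hν : ∀ i ∈ s, -1 ≤ ν i ∧ ν i ≤ 1) (hN : ∀ i ∈ s, d i = -1 → ν i = 1)
    (hνd : ∑ i ∈ s, ν i * d i = -1) (hνa : ∑ i ∈ s, ν i * a i = -1) (hda : ∑ i ∈ s, d i * a i = q - 1)
    (hdd : e * (1 + ∑ i ∈ s, d i * d i) = q + P) (haa : ∑ i ∈ s, a i * a i = q * e - 1)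
    (heven : ∀ i ∈ s, ν i ≠ 0 → 2 ∣ e * d i - a i)
    (hf : ∀ i ∈ s, (k : ℤ) ≤ f i ∧ (k : ℤ) * (-a i) ≤ f i)
    (hpairs : 1 + ∑ i ∈ s, (d i : ℝ) * ((a i : ℝ) * a i / f i) =
      (q : ℝ) * ((k : ℝ) - 1) / ((n : ℝ) * k))
    (hgood : Good e q P) : (n : ℤ) ≤ 3 * q := by
  classical
  obtain ⟨u, hu⟩ : ∃ u : ι → ℤ, u = fun i => e * d i - a i := ⟨_, rfl⟩
  obtain ⟨U, hU⟩ : ∃ U : ℤ, U = e * P - (e - 1) ^ 2 := ⟨_, rfl⟩
  have huu : ∑ i ∈ s, u i * u i = U := by
    rw [hu, sum_congr rfl (g := fun i => e * e * (d i * d i) - 2 * e * (d i * a i) + a i * a i)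
      fun i _ => by ring, sum_add_distrib, sum_sub_distrib, ← mul_sum, ← mul_sum, hda, haa, hU]
    linear_combination e * hdd
  have hdn : ∑ i ∈ s, (d i - ν i) * a i = q := by
    rw [sum_congr rfl (g := fun i => d i * a i - ν i * a i) fun i _ => by ring, sum_sub_distrib, hda, hνa]
    ring
  have heven' : ∀ i ∈ s, ν i ≠ 0 → u i ≤ u i * u i ∧ -u i ≤ u i * u i ∧
      2 * u i ≤ u i * u i ∧ -(2 * u i) ≤ u i * u i := by
    intro i hi h
    obtain ⟨w, hw⟩ := heven i hi h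
    rw [hu]
    simp only [hw]
    rcases le_or_gt w 0 with h0 | h0
    · refine ⟨?_, ?_, ?_, ?_⟩ <;> rcases eq_or_lt_of_le h0 with h1 | h1 <;>
        first | (subst h1; norm_num) | nlinarith
    · refine ⟨?_, ?_, ?_, ?_⟩ <;> nlinarith
  -- the characters of coefficient `-1`
  obtain ⟨N, hNdef⟩ : ∃ N, N = s.filter (fun i => d i = -1) := ⟨_, rfl⟩
  obtain ⟨O, hOdef⟩ : ∃ O, O = s.filter (fun i => ¬ d i = -1) := ⟨_, rfl⟩
  have hsplit : ∀ F : ι → ℤ, ∑ i ∈ s, F i = ∑ i ∈ N, F i + ∑ i ∈ O, F i := fun F => by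
    rw [hNdef, hOdef, sum_filter_add_sum_filter_not]
  have hNmem : ∀ i ∈ N, i ∈ s ∧ d i = -1 ∧ ν i = 1 ∧ u i = -e - a i := fun i hi => by
    rw [hNdef, mem_filter] at hi
    exact ⟨hi.1, hi.2, hN i hi.1 hi.2, by rw [hu]; simp only [hi.2]; ring⟩
  have hOmem : ∀ i ∈ O, i ∈ s ∧ 0 ≤ d i := fun i hi => by
    rw [hOdef, mem_filter] at hi
    exact ⟨hi.1, by have := hd i hi.1; omega⟩
  -- the first bound
  have hO : ∀ i ∈ O, -(2 * ((d i - ν i) * a i)) ≤ u i * u i := by
    intro i hi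
    obtain ⟨his, hd0⟩ := hOmem i hi
    obtain ⟨hν1, hν2⟩ := hν i his
    have ha : a i = e * d i - u i := by rw [hu]; ring
    rw [ha]
    rcases eq_or_lt_of_le hd0 with h0 | h0
    · rw [← h0]
      by_cases hν0 : ν i = 0
      · rw [hν0]; nlinarith [mul_self_nonneg (u i)]
      · obtain ⟨-, -, hp, hm⟩ := heven' i his hν0
        rcases (show ν i = 1 ∨ ν i = -1 by omega) with h | h <;> rw [h] <;> linarith
    · nlinarith [mul_self_nonneg (u i - (d i - ν i)),
        mul_nonneg (show (0 : ℤ) ≤ d i - ν i by omega)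
          (show (0 : ℤ) ≤ 2 * (e * d i) - (d i - ν i) by nlinarith)]
  have h1 : 4 * ∑ i ∈ N, -a i ≤ 2 * q + ∑ i ∈ O, u i * u i := by
    have h := sum_le_sum hO
    rw [sum_neg_distrib, ← mul_sum] at h
    have h' := hsplit fun i => (d i - ν i) * a i
    rw [hdn, sum_congr rfl (s₁ := N) (g := fun i => 2 * -a i) fun i hi => by
      obtain ⟨-, hd', hν', -⟩ := hNmem i hi; rw [hd', hν']; ring, ← mul_sum] at h'
    linarith
  -- the second bound
  have h2 : 2 * ∑ i ∈ N, -a i ≤ q + P + 2 * ∑ i ∈ N, u i := by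
    have hcard : 2 * (N.card : ℤ) ≤ ∑ i ∈ s, d i * d i + 1 := by
      have h := hsplit fun i => ν i * d i
      rw [hνd, sum_congr rfl (s₁ := N) (g := fun _ => (-1 : ℤ)) fun i hi => by
        obtain ⟨-, hd', hν', -⟩ := hNmem i hi; rw [hd', hν']; ring, sum_const, nsmul_eq_mul] at h
      have h' := hsplit fun i => d i * d i
      rw [sum_congr rfl (s₁ := N) (g := fun _ => (1 : ℤ)) fun i hi => by
        obtain ⟨-, hd', -, -⟩ := hNmem i hi; rw [hd']; ring, sum_const, nsmul_eq_mul, mul_one] at h'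
      have hle : ∑ i ∈ O, ν i * d i ≤ ∑ i ∈ O, d i * d i := sum_le_sum fun i hi => by
        obtain ⟨his, hd0⟩ := hOmem i hi
        obtain ⟨hν1, hν2⟩ := hν i his
        rcases eq_or_lt_of_le hd0 with h0 | h0
        · rw [← h0]; simp
        · exact mul_le_mul_of_nonneg_right (by omega) hd0
      linarith
    rw [sum_congr rfl (g := fun i => e + u i) fun i hi => by rw [(hNmem i hi).2.2.2]; ring,
      sum_add_distrib, sum_const, nsmul_eq_mul]
    nlinarith [mul_le_mul_of_nonneg_left hcard (show (0 : ℤ) ≤ e by omega)]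
  -- the bound for the sum of squares over degrees
  obtain ⟨b, hb⟩ : ∃ b : ι → ℤ, b = fun i => if a i < 0 then -a i else a i * a i := ⟨_, rfl⟩
  have hB : 3 * ∑ i ∈ N, b i ≤ 2 * q - 1 := by
    have hsingle : ∀ i ∈ N, u i * u i ≤ U := fun i hi => huu ▸
      single_le_sum (f := fun i => u i * u i) (fun i _ => mul_self_nonneg _) (hNmem i hi).1
    have hO0 : 0 ≤ ∑ i ∈ O, u i * u i := sum_nonneg fun i _ => mul_self_nonneg _
    have hN0 : 0 ≤ ∑ i ∈ N, u i * u i := sum_nonneg fun i _ => mul_self_nonneg _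
    have hUsplit := huu ▸ hsplit fun i => u i * u i
    have key : ∀ c : ℤ, 1 ≤ c → (∀ i ∈ N, 2 * u i + 6 * (b i + a i) ≤ c * (u i * u i)) →
        c * U + P < q + 2 → 3 * ∑ i ∈ N, b i ≤ 2 * q - 1 := by
      intro c hc hterm hlt
      have h := sum_le_sum hterm
      simp only [sum_add_distrib, ← mul_sum] at h
      rw [sum_neg_distrib] at h1 h2
      have : c * ∑ i ∈ N, u i * u i + ∑ i ∈ O, u i * u i ≤ c * U := by nlinarith
      have h6 : 6 * ∑ i ∈ N, b i < 4 * q + 2 := by linarith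
      have hne : 3 * ∑ i ∈ N, b i ≠ 2 * q := fun e' => h3 (by
        have h2q : (3 : ℤ) ∣ 2 * q := ⟨_, e'.symm⟩
        exact (Int.Prime.dvd_mul' Nat.prime_three h2q).resolve_left (by norm_num))
      omega
    rcases hgood with h | ⟨h, hbad⟩
    · refine key 6 (by norm_num) (fun i hi => ?_) (hU ▸ h)
      obtain ⟨his, -, hν', hui⟩ := hNmem i hi
      obtain ⟨-, -, hp, hm⟩ := heven' i his (by omega)
      have hsq := mul_self_nonneg (u i)
      rcases lt_or_ge (a i) 0 with ha | ha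
      · rw [hb]; simp only [if_pos ha]; linarith
      · rw [hb]; simp only [if_neg (not_lt.2 ha), hui]; nlinarith
    · refine key 1 le_rfl (fun i hi => ?_) (by rw [one_mul, hU]; exact h)
      obtain ⟨his, -, hν', hui⟩ := hNmem i hi
      obtain ⟨-, -, hp, hm⟩ := heven' i his (by omega)
      rw [one_mul]
      rcases lt_or_ge (a i) 0 with ha | ha
      · rw [hb]; simp only [if_pos ha]; linarith
      · rw [hb]; simp only [if_neg (not_lt.2 ha)]
        rcases eq_or_lt_of_le ha with ha0 | ha0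
        · rw [← ha0]; linarith
        · have h5 := hbad (a i) (by omega) (by
            obtain ⟨w, hw⟩ := heven i his (by omega)
            refine ⟨-w, ?_⟩
            have : u i = 2 * w := by rw [hu]; exact hw
            linarith) (by
            have := hsingle i hi
            rw [hui, hU] at this
            linarith [this, show (a i + e) ^ 2 = (-e - a i) * (-e - a i) by ring])
          rw [hui]; nlinarith
  -- the real inequality
  have hk0 : (0 : ℝ) < k := by exact_mod_cast (show 0 < k by omega)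
  have hterm : ∀ i ∈ s, -((if d i = -1 then (b i : ℝ) else 0) / k) ≤
      (d i : ℝ) * ((a i : ℝ) * a i / f i) := by
    intro i hi
    obtain ⟨hf1, hf2⟩ := hf i hi
    have hfpos : (0 : ℝ) < f i := by
      have : 0 < f i := by omega
      exact_mod_cast this
    split_ifs with h
    · rw [h, Int.cast_neg, Int.cast_one, neg_one_mul, neg_le_neg_iff, div_le_div_iff₀ hfpos hk0, hb]
      simp only
      rcases lt_or_ge (a i) 0 with ha | ha
      · rw [if_pos ha]
        have h' : ((k : ℝ)) * -(a i : ℝ) ≤ f i := by exact_mod_cast hf2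
        have ha' : (0 : ℝ) ≤ -(a i : ℝ) := by
          have : (0 : ℤ) ≤ -a i := by omega
          exact_mod_cast this
        push_cast
        nlinarith [mul_le_mul_of_nonneg_left h' ha']
      · rw [if_neg (not_lt.2 ha)]
        have h' : (k : ℝ) ≤ f i := by exact_mod_cast hf1
        push_cast
        exact mul_le_mul_of_nonneg_left h' (mul_self_nonneg _)
    · rw [zero_div, neg_zero]
      have h0 : (0 : ℤ) ≤ d i := by have := hd i hi; omega
      exact mul_nonneg (by exact_mod_cast h0) (div_nonneg (mul_self_nonneg _) hfpos.le)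
  have hsum := sum_le_sum hterm
  rw [sum_neg_distrib, ← sum_div, ← sum_filter, ← hNdef] at hsum
  have hBr : 3 * ∑ i ∈ N, (b i : ℝ) ≤ 2 * (q : ℝ) - 1 := by exact_mod_cast hB
  have hkq : (k : ℝ) = (q : ℝ) - 1 := by exact_mod_cast hk
  have hk7 : (7 : ℝ) ≤ k := by exact_mod_cast h7
  have hn' : (1 : ℝ) ≤ n := by exact_mod_cast hn
  have hmain : (k : ℝ) - ∑ i ∈ N, (b i : ℝ) ≤ (q : ℝ) * ((k : ℝ) - 1) / n := by
    have := mul_le_mul_of_nonneg_left (show 1 - (∑ i ∈ N, (b i : ℝ)) / k ≤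
      (q : ℝ) * ((k : ℝ) - 1) / ((n : ℝ) * k) by linarith [hpairs]) hk0.le
    field_simp at this ⊢
    linarith
  rw [le_div_iff₀ (by linarith)] at hmain
  have h3n : ((k : ℝ) - 1) * n ≤ ((k : ℝ) - 1) * (3 * q) := by nlinarith
  have := le_of_mul_le_mul_left h3n (by linarith)
  exact_mod_cast this

end CfsgLib.AbelianSolv
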