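import Cfsg.Agent.Lib.OddConseq.AbelianSolv.Frame
import Cfsg.Agent.Lib.Char.TransLinear.Main
import Cfsg.Agent.Lib.OddConseq.Basic
import Mathlib.GroupTheory.Commutator.Basic

/-!
# The automizer is semilinear

The stabilizer of an involution in a complement of `T` acts as a group of field automorphisms.
-/

set_option autoImplicit false
set_option linter.unusedSectionVars false
set_option linter.style.haveILetI false

namespace CfsgLib.AbelianSolv

open Subgroup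
open scoped commutatorElement

universe u

namespace Frame

variable {Γ : Type u} [Group Γ] [Finite Γ] (Φ : Frame Γ)

include Φ in
/-- An element of odd order centralizing the involutions centralizes `T`. -/
theorem commute_of_fix {x : Γ} (hx : ¬ 2 ∣ orderOf x) (hfix : ∀ s ∈ Φ.Om, x * s = s * x) :
    ∀ s ∈ Φ.T, x * s = s * x := by
  have key : ∀ k : ℕ, ∀ s ∈ Φ.T, s ^ 2 ^ k = 1 → x * s = s * x := by
    intro k
    induction k with
    | zero => intro s _ hs; rw [pow_zero, pow_one] at hs; subst hs; simp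
    | succ k ih =>
      intro s hs hk
      haveI := Φ.normal
      obtain ⟨c, hc⟩ : ∃ c, c = x * s * x⁻¹ * s⁻¹ := ⟨_, rfl⟩
      have hcT : c ∈ Φ.T := hc ▸ mul_mem (Φ.normal.conj_mem _ hs x) (inv_mem hs)
      have h2 := ih (s * s) (mul_mem hs hs) (by rw [← pow_two, ← pow_mul, ← pow_succ', hk])
      have hcc : c * c = 1 := by
        have e : x * s * x⁻¹ * (x * s * x⁻¹) = s * s := by
          rw [conj_mul, h2, mul_inv_cancel_right]
        have hcm := Φ.comm s⁻¹ (inv_mem hs) (x * s * x⁻¹) (Φ.normal.conj_mem _ hs x)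
        calc c * c = x * s * x⁻¹ * (s⁻¹ * (x * s * x⁻¹)) * s⁻¹ := by rw [hc]; group
          _ = x * s * x⁻¹ * (x * s * x⁻¹) * (s⁻¹ * s⁻¹) := by rw [hcm]; group
          _ = 1 := by rw [e]; group
      have hxc : x * c = c * x := hfix c ⟨hcT, hcc⟩
      have hj : ∀ j : ℕ, x ^ j * s * (x ^ j)⁻¹ = c ^ j * s := by
        intro j
        induction j with
        | zero => simp
        | succ j ihj =>
          calc x ^ (j + 1) * s * (x ^ (j + 1))⁻¹ = x * (x ^ j * s * (x ^ j)⁻¹) * x⁻¹ := by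
                rw [pow_succ']; group
            _ = x * (c ^ j * s) * x⁻¹ := by rw [ihj]
            _ = c ^ j * (x * s * x⁻¹) := by
                rw [← mul_assoc, ((show Commute x c from hxc).pow_right j).eq]; group
            _ = c ^ (j + 1) * s := by rw [pow_succ, hc]; group
      have h1 := hj (orderOf x)
      rw [pow_orderOf_eq_one, inv_one, one_mul, mul_one] at h1
      have hcm1 : c ^ orderOf x = 1 := mul_eq_right.1 h1.symm
      obtain ⟨i, hi⟩ : Odd (orderOf x) := by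
        rw [← Nat.not_even_iff_odd, even_iff_two_dvd]; exact hx
      rw [hi, pow_succ, pow_mul, pow_two, hcc, one_pow, one_mul] at hcm1
      rw [hcm1] at hc
      exact mul_inv_eq_iff_eq_mul.1 (mul_inv_eq_one.1 hc.symm)
  intro s hs
  obtain ⟨k, hk⟩ := Φ.two ⟨s, hs⟩
  exact key k s hs (congrArg Subtype.val hk)

/-- The stabilizer of an involution in a complement `A` of `T` is a group of field automorphisms,
and `A'` is semiregular on the involutions. -/
theorem stab_semilinear (hFT : CfsgLib.OddConseq.OddSolvable.{u}) {A : Subgroup Γ}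
    (hA : IsComplement' Φ.T A) {t : Γ} (ht : orderOf t = 2) :
    ∃ (E : Stab Φ t) (r : ℕ), Nat.card ↥Φ.Om = 2 ^ r ∧ Nat.card ↥E.E ∣ r ∧ IsCyclic ↥E.E ∧
      (∀ x ∈ E.E, Nat.card {s : Γ // s ∈ Φ.Om ∧ Commute s x} ^ orderOf x = 2 ^ r) ∧
      ∀ x ∈ ⁅A, A⁆, Commute x t → x = 1 := by
  classical
  haveI := Φ.normal
  haveI : Fact (Nat.Prime 2) := ⟨Nat.prime_two⟩
  haveI : Φ.Om.Normal := ⟨fun s hs g => ⟨Φ.normal.conj_mem _ hs.1 g, by rw [conj_mul, hs.2]; group⟩⟩
  have hAodd : ∀ a ∈ A, ¬ 2 ∣ orderOf a := by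
    intro a ha h
    obtain ⟨k, hk⟩ := exists_invol_pow h
    have h1 : a ^ k = 1 :=
      mem_bot.1 (hA.disjoint.le_bot ⟨Φ.mem_T_of_invol (orderOf_two_iff.1 hk).1, pow_mem ha k⟩)
    rw [h1, orderOf_one] at hk
    norm_num at hk
  haveI : Group.IsSolvable ↥A := hFT.subgroup (Nat.not_even_iff_odd.1 fun h => by
    obtain ⟨x, hx⟩ := exists_prime_orderOf_dvd_card' (G := ↥A) 2 (even_iff_two_dvd.1 h)
    exact hAodd x x.2 (by rw [Subgroup.orderOf_coe, hx]))
  letI : CommGroup ↥Φ.Om :=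
    { (inferInstance : Group ↥Φ.Om) with mul_comm := fun a b => Subtype.ext (Φ.comm _ a.2.1 _ b.2.1) }
  letI : Module (ZMod 2) (Additive ↥Φ.Om) := AddCommGroup.zmodModule fun v => by
    rw [two_nsmul]
    show Additive.ofMul (Additive.toMul v * Additive.toMul v) = Additive.ofMul 1
    exact congrArg Additive.ofMul (Subtype.ext (Additive.toMul v).2.2)
  haveI : Nontrivial (Additive ↥Φ.Om) := by
    refine ⟨Additive.ofMul ⟨t, Φ.mem_Om.2 (orderOf_two_iff.1 ht).1⟩, 0, fun e => ?_⟩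
    exact (orderOf_two_iff.1 ht).2 (congrArg (fun v => ((Additive.toMul v : ↥Φ.Om) : Γ)) e)
  let ρ : ↥A →* (Additive ↥Φ.Om ≃ₗ[ZMod 2] Additive ↥Φ.Om) :=
    { toFun := fun a =>
        { MulEquiv.toAdditive (MulAut.conjNormal (a : Γ) : ↥Φ.Om ≃* ↥Φ.Om) with
          map_smul' := fun c v => ZMod.map_smul
            (MulEquiv.toAdditive (MulAut.conjNormal (a : Γ) : ↥Φ.Om ≃* ↥Φ.Om)).toAddMonoidHom c v }
      map_one' := LinearEquiv.ext fun v => congrArg Additive.ofMul (Subtype.ext (by simp))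
      map_mul' := fun a b => LinearEquiv.ext fun v => congrArg Additive.ofMul (Subtype.ext (by
        simp [mul_assoc])) }
  have hρ_apply : ∀ (a : ↥A) (s : ↥Φ.Om),
      ((Additive.toMul (ρ a (Additive.ofMul s)) : ↥Φ.Om) : Γ) = (a : Γ) * (s : Γ) * (a : Γ)⁻¹ := fun a s => by
    simp [ρ]
  have hinj : Function.Injective ρ := by
    refine (injective_iff_map_eq_one ρ).2 fun a ha => Subtype.ext ?_
    have hfix : ∀ s ∈ Φ.Om, (a : Γ) * s = s * (a : Γ) := fun s hs => by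
      have := hρ_apply a ⟨s, hs⟩
      rw [ha] at this
      exact mul_inv_eq_iff_eq_mul.1 this.symm
    exact mem_bot.1 (hA.disjoint.le_bot ⟨Φ.self _ (Φ.commute_of_fix (hAodd a a.2) hfix), a.2⟩)
  have htr : ∀ v w : Additive ↥Φ.Om, v ≠ 0 → w ≠ 0 → ∃ a : ↥A, ρ a v = w := by
    intro v w hv hw
    obtain ⟨u, hu⟩ : ∃ u : ↥Φ.Om, u = Additive.toMul v := ⟨_, rfl⟩
    obtain ⟨z, hz⟩ : ∃ z : ↥Φ.Om, z = Additive.toMul w := ⟨_, rfl⟩
    obtain ⟨g, hg⟩ := isConj_iff.1 (Φ.trans (u : Γ) (z : Γ)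
      (orderOf_two_iff.2 ⟨u.2.2, fun e => hv (congrArg Additive.ofMul ((hu.symm.trans (Subtype.ext e)) : Additive.toMul v = 1))⟩)
      (orderOf_two_iff.2 ⟨z.2.2, fun e => hw (congrArg Additive.ofMul ((hz.symm.trans (Subtype.ext e)) : Additive.toMul w = 1))⟩))
    obtain ⟨⟨⟨s, hs⟩, ⟨a, ha⟩⟩, rfl⟩ := hA.2 g
    refine ⟨⟨a, ha⟩, congrArg Additive.ofMul (Subtype.ext ?_ :
      (Additive.toMul (ρ ⟨a, ha⟩ v) : ↥Φ.Om) = Additive.toMul w)⟩
    rw [show v = Additive.ofMul u by rw [hu]; rfl, hρ_apply, ← hz]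
    have hm : a * (u : Γ) * a⁻¹ ∈ Φ.T := Φ.normal.conj_mem _ u.2.1 a
    calc a * (u : Γ) * a⁻¹ = s⁻¹ * (s * a * (u : Γ) * (s * a)⁻¹) * s := by group
      _ = s⁻¹ * (z : Γ) * s := by rw [hg]
      _ = z := by rw [mul_assoc, Φ.comm _ z.2.1 _ hs, inv_mul_cancel_left]
  obtain ⟨m, hm⟩ := IsPGroup.iff_card.1 (Φ.two.to_le (fun s hs => hs.1 : Φ.Om ≤ Φ.T))
  have hVcard : Nat.card (Additive ↥Φ.Om) = 2 ^ m := hm
  rcases CfsgLib.Char.solvable_transitive_linear ρ hinj htr with hsem | h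
  swap
  · exfalso
    simp only [Set.mem_insert_iff, Set.mem_singleton_iff, hVcard] at h
    have h2 : ∀ k, k % 2 = 1 → 2 ^ m = k → k = 1 := fun k hk e => by
      rcases m with _ | m
      · simpa using e.symm
      · rw [pow_succ] at e; omega
    rcases h with e | e | e | e | e | e <;> have := h2 _ (by norm_num) e <;> norm_num at this
  obtain ⟨F, iF, iFF, e, hsemi⟩ := hsem
  choose α σ hσ using hsemi
  let E : Stab Φ t :=
    { E := A ⊓ centralizer ({t} : Set Γ)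
      le := inf_le_right
      disj := fun x hx hxT => mem_bot.1 (hA.disjoint.le_bot ⟨hxT, (mem_inf.1 hx).1⟩)
      split := fun y hy => by
        obtain ⟨⟨⟨s, hs⟩, ⟨a, ha⟩⟩, rfl⟩ := hA.2 y
        refine ⟨s, hs, a, mem_inf.2 ⟨ha, ?_⟩, rfl⟩
        have := mul_mem (inv_mem (Φ.T_le_centralizer ht hs)) hy
        rwa [inv_mul_cancel_left] at this }
  obtain ⟨v0, hv0⟩ : ∃ v0 : Additive ↥Φ.Om, v0 = Additive.ofMul ⟨t, Φ.mem_Om.2 (orderOf_two_iff.1 ht).1⟩ :=
    ⟨_, rfl⟩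
  have hv0ne : v0 ≠ 0 := fun h => by
    rw [hv0] at h
    exact (orderOf_two_iff.1 ht).2 (congrArg (fun v => ((Additive.toMul v : ↥Φ.Om) : Γ)) h :)
  obtain ⟨t0, ht0⟩ : ∃ t0 : F, t0 = e v0 := ⟨_, rfl⟩
  have ht0ne : t0 ≠ 0 := fun h => hv0ne (e.injective (by rw [map_zero, ← ht0, h]))
  let ι : ↥E.E → ↥A := fun x => ⟨x, (mem_inf.1 x.2).1⟩
  have hfixv : ∀ x : ↥E.E, ρ (ι x) v0 = v0 := fun x => by
    refine congrArg Additive.ofMul (Subtype.ext ?_ : (Additive.toMul (ρ (ι x) v0) : ↥Φ.Om) = Additive.toMul v0)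
    rw [hv0, hρ_apply]
    show (x : Γ) * t * (x : Γ)⁻¹ = t
    rw [mem_centralizer_singleton_iff.1 (mem_inf.1 x.2).2, mul_inv_cancel_right]
  have hform : ∀ (x : ↥E.E) (c : F), e (ρ (ι x) (e.symm (t0 * c))) = t0 * σ (ι x) c := by
    intro x c
    have h1 := hσ (ι x) v0
    rw [hfixv, ← ht0] at h1
    rw [hσ, AddEquiv.apply_symm_apply, map_mul, ← mul_assoc, ← h1]
  haveI : CharP F 2 := by
    rw [CharP.charP_iff_prime_eq_zero Nat.prime_two]
    obtain ⟨w, hw⟩ := e.surjective 1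
    have h2 : w + w = 0 := congrArg Additive.ofMul (Subtype.ext (Additive.toMul w).2.2 :
      Additive.toMul w * Additive.toMul w = 1)
    have := congrArg e h2
    rw [map_add, hw, map_zero] at this
    rw [Nat.cast_ofNat, ← one_add_one_eq_two]; exact this
  letI := ZMod.algebra F 2
  have hα : ∀ g : ↥A, α g ≠ 0 := fun g h0 => hv0ne ((ρ g).injective (e.injective (by
    rw [hσ, h0, zero_mul, map_zero, map_zero])))
  let τA : ↥A →* (F ≃ₐ[ZMod 2] F) :=
    MonoidHom.mk' (fun g => AlgEquiv.ofRingEquiv (f := σ g) fun c =>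
        RingHom.congr_fun (RingHom.ext_zmod ((σ g).toRingHom.comp (algebraMap (ZMod 2) F)) (algebraMap (ZMod 2) F)) c)
      fun g h => AlgEquiv.ext fun c => by
        have key : ∀ c : F, α (g * h) * σ (g * h) c = α g * σ g (α h) * σ g (σ h c) := fun c => by
          obtain ⟨v, rfl⟩ := e.surjective c
          rw [← hσ, map_mul, LinearEquiv.mul_apply, hσ, hσ, map_mul]
          ring
        have h1 := key 1
        rw [map_one, map_one, map_one, mul_one, mul_one] at h1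
        show σ (g * h) c = σ g (σ h c)
        exact mul_left_cancel₀ (hα (g * h)) ((key c).trans (by rw [← h1]))
  have hcommA : ∀ g : ↥A, g ∈ ⁅(⊤ : Subgroup ↥A), (⊤ : Subgroup ↥A)⁆ → τA g = 1 := by
    intro g hg
    have hle : ⁅(⊤ : Subgroup ↥A), (⊤ : Subgroup ↥A)⁆ ≤ τA.ker := by
      refine commutator_le.2 fun a _ b _ => MonoidHom.mem_ker.2 ?_
      rw [map_commutatorElement, commutatorElement_eq_one_iff_mul_comm]
      letI := IsCyclic.commGroup (α := F ≃ₐ[ZMod 2] F)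
      exact mul_comm _ _
    exact hle hg
  let ιh : ↥E.E →* ↥A := Subgroup.inclusion (inf_le_left : A ⊓ centralizer ({t} : Set Γ) ≤ A)
  let τ : ↥E.E →* (F ≃ₐ[ZMod 2] F) := τA.comp ιh
  have hτ : Function.Injective τ := by
    refine (injective_iff_map_eq_one τ).2 fun x hx => ?_
    have h1 : ρ (ι x) = 1 := LinearEquiv.ext fun v => e.injective (by
      obtain ⟨c, hc⟩ : ∃ c, e v = t0 * c := ⟨t0⁻¹ * e v, by rw [mul_inv_cancel_left₀ ht0ne]⟩
      rw [show v = e.symm (t0 * c) by rw [← hc, e.symm_apply_apply], hform,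
        show σ (ι x) c = c from AlgEquiv.congr_fun hx c]
      exact (e.apply_symm_apply _).symm)
    have h2 : ι x = 1 := hinj (h1.trans (map_one ρ).symm)
    exact Subtype.ext (congrArg (fun a : ↥A => (a : Γ)) h2)
  have hFcard : Nat.card F = 2 ^ m := by rw [← hVcard]; exact Nat.card_congr e.toEquiv.symm
  have hrank : Module.finrank (ZMod 2) F = m := by
    have h := Module.natCard_eq_pow_finrank (K := ZMod 2) (V := F)
    rw [hFcard, Nat.card_zmod] at h
    exact (Nat.pow_right_injective (le_refl 2) h).symm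
  have hgal : Nat.card (F ≃ₐ[ZMod 2] F) = m := by rw [IsGalois.card_aut_eq_finrank, hrank]
  refine ⟨E, m, hm, hgal ▸ Subgroup.card_dvd_of_injective τ hτ, isCyclic_of_injective τ hτ, fun x hx => ?_,
    fun x hx hxt => ?_⟩
  swap
  · have hxA : x ∈ A := commutator_le_self A hx
    have hmap : (⁅(⊤ : Subgroup ↥A), (⊤ : Subgroup ↥A)⁆).map A.subtype = ⁅A, A⁆ := by
      rw [map_commutator, ← MonoidHom.range_eq_map, range_subtype]
    rw [← hmap] at hx
    obtain ⟨g, hg, hgx⟩ := hx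
    have hxE : x ∈ E.E := mem_inf.2 ⟨hxA, mem_centralizer_singleton_iff.2 hxt.eq⟩
    have h1 : τ ⟨x, hxE⟩ = 1 := by
      show τA (ιh ⟨x, hxE⟩) = 1
      rw [show ιh ⟨x, hxE⟩ = g from Subtype.ext hgx.symm]
      exact hcommA g hg
    exact congrArg Subtype.val (hτ (h1.trans (map_one τ).symm))
  obtain ⟨H, hH⟩ : ∃ H : Subgroup (F ≃ₐ[ZMod 2] F), H = zpowers (τ ⟨x, hx⟩) := ⟨_, rfl⟩
  have hd : Nat.card ↥H = orderOf x := by
    rw [hH, Nat.card_zpowers, orderOf_injective τ hτ, ← Subgroup.orderOf_coe]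
  obtain ⟨K, hK⟩ : ∃ K, K = FixedPoints.subfield ↥H F := ⟨_, rfl⟩
  letI := Fintype.ofFinite ↥H
  have hfin : Nat.card F = Nat.card ↥K ^ orderOf x := by
    rw [hK, Module.natCard_eq_pow_finrank (K := FixedPoints.subfield ↥H F) (V := F),
      FixedPoints.finrank_eq_card, ← Nat.card_eq_fintype_card, hd]
  rw [← hFcard, hfin]
  congr 1
  have hmemK : ∀ c : F, c ∈ K ↔ σ (ι ⟨x, hx⟩) c = c := by
    intro c
    rw [hK]
    constructor
    · intro h; exact h ⟨τ ⟨x, hx⟩, hH ▸ mem_zpowers _⟩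
    · rintro h ⟨g, hg⟩
      rw [hH, mem_zpowers_iff] at hg
      obtain ⟨i, rfl⟩ := hg
      exact MulAction.mem_stabilizer_iff.1 (zpow_mem
        (MulAction.mem_stabilizer_iff.2 (h : τ ⟨x, hx⟩ • c = c) : τ ⟨x, hx⟩ ∈ MulAction.stabilizer _ c) i)
  refine Nat.card_congr (Equiv.ofBijective (fun s : {s : Γ // s ∈ Φ.Om ∧ Commute s x} =>
    (⟨t0⁻¹ * e (Additive.ofMul ⟨s.1, s.2.1⟩), ?_⟩ : ↥K)) ⟨fun a b h => ?_, fun c => ?_⟩)
  · rw [hmemK]
    refine mul_left_cancel₀ ht0ne ?_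
    rw [← hform, mul_inv_cancel_left₀ ht0ne, e.symm_apply_apply]
    congr 1
    refine congrArg Additive.ofMul (Subtype.ext ?_ :
      (Additive.toMul (ρ (ι ⟨x, hx⟩) (Additive.ofMul ⟨s.1, s.2.1⟩)) : ↥Φ.Om) = ⟨s.1, s.2.1⟩)
    rw [hρ_apply]
    show x * s.1 * x⁻¹ = s.1
    rw [← s.2.2.eq, mul_inv_cancel_right]
  · have h1 := e.injective (mul_left_cancel₀ (inv_ne_zero ht0ne) (congrArg Subtype.val h))
    exact Subtype.ext (congrArg (fun v => ((Additive.toMul v : ↥Φ.Om) : Γ)) h1 :)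
  · obtain ⟨u, hu⟩ : ∃ u : ↥Φ.Om, u = Additive.toMul (e.symm (t0 * c.1)) := ⟨_, rfl⟩
    have hfix : ρ (ι ⟨x, hx⟩) (e.symm (t0 * c.1)) = e.symm (t0 * c.1) := e.injective (by
      rw [hform, (hmemK _).1 c.2, e.apply_symm_apply])
    have hc := hρ_apply (ι ⟨x, hx⟩) u
    rw [show Additive.ofMul u = e.symm (t0 * c.1) by rw [hu]; rfl, hfix, ← hu] at hc
    refine ⟨⟨u, u.2, (mul_inv_eq_iff_eq_mul.1 hc.symm).symm⟩, Subtype.ext ?_⟩
    show t0⁻¹ * e (Additive.ofMul u) = c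
    rw [show Additive.ofMul u = e.symm (t0 * c.1) by rw [hu]; rfl, e.apply_symm_apply,
      inv_mul_cancel_left₀ ht0ne]

/-- The stabilizer of an involution in some complement of `T`. -/
theorem exists_stab_semilinear (hFT : CfsgLib.OddConseq.OddSolvable.{u}) {t : Γ} (ht : orderOf t = 2) :
    ∃ (E : Stab Φ t) (r : ℕ), Nat.card ↥Φ.Om = 2 ^ r ∧ Nat.card ↥E.E ∣ r ∧ IsCyclic ↥E.E ∧
      ∀ x ∈ E.E, Nat.card {s : Γ // s ∈ Φ.Om ∧ Commute s x} ^ orderOf x = 2 ^ r := by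
  obtain ⟨A, hA⟩ := Φ.exists_complement
  obtain ⟨E, r, h1, h2, h3, h4, -⟩ := Φ.stab_semilinear hFT hA ht
  exact ⟨E, r, h1, h2, h3, h4⟩

end Frame

end CfsgLib.AbelianSolv
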