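import Cfsg.Agent.Lib.OddConseq.AbelianSolv.Values
import Cfsg.Agent.Lib.OddConseq.AbelianSolv.Arith
import Cfsg.Agent.Lib.OddConseq.AbelianSolv.Semi
import Cfsg.Agent.Lib.OddConseq.ElemEight.Automizer

/-!
# An elementary Sylow subgroup bounds the index
-/

set_option autoImplicit false
set_option linter.unusedSectionVars false
set_option linter.style.haveILetI false

open Finset
open scoped ComplexConjugate

namespace CfsgLib.AbelianSolv

open Cfsg CfsgLib.Char CfsgLib.Block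

universe u

section Numbers

/-- The sum of `|C_T(x)|` over the stabilizer, less `|T|`. -/
def stabSum (r e : ℕ) : ℤ := (∑ d ∈ e.divisors, (d.totient * 2 ^ (r / d) : ℕ) : ℕ) - 2 ^ r

/-- A decidable form of `Good`. -/
def goodBool (r e : ℕ) : Bool :=
  let P := stabSum r e
  let U := (e : ℤ) * P - ((e : ℤ) - 1) ^ 2
  decide (6 * U + P < 2 ^ r + 2) || (decide (U + P < 2 ^ r + 2 ∧ U < 32 ^ 2) &&
    (List.range 32).all fun a => decide (a = 0 ∨ ¬ (2 : ℤ) ∣ a + e ∨ ¬ ((a : ℤ) + e) ^ 2 ≤ U ∨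
      5 * (a : ℤ) ^ 2 + 4 * a ≤ 2 * (e : ℤ) + 2 * (e : ℤ) * a + (e : ℤ) ^ 2))

theorem good_table : ∀ r ∈ List.range 21, ∀ e ∈ List.range 21,
    (3 ≤ r ∧ 1 ≤ e ∧ e ∣ r ∧ e % 2 = 1 ∧ (r = 3 → e = 1)) → goodBool r e = true := by decide +kernel

theorem good_of_bool {r e : ℕ} (h : goodBool r e = true) : Good e (2 ^ r) (stabSum r e) := by
  simp only [goodBool, Bool.or_eq_true, decide_eq_true_eq, Bool.and_eq_true, List.all_eq_true,
    List.mem_range] at h
  rcases h with h | ⟨⟨h1, h2⟩, h3⟩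
  · exact Or.inl h
  · refine Or.inr ⟨h1, fun a ha hev hle => ?_⟩
    obtain ⟨a, rfl⟩ := Int.eq_ofNat_of_zero_le (show 0 ≤ a by omega)
    have hlt : a < 32 := by
      by_contra hge
      have : (32 : ℤ) ≤ (a : ℤ) + e := by omega
      nlinarith
    rcases h3 a hlt with h | h | h | h
    · omega
    · exact absurd hev h
    · exact absurd hle h
    · exact h

theorem four_pow_bound : ∀ k : ℕ, 7 ≤ k → 7 * (3 * k + 2) ^ 2 < 4 ^ k := by
  intro k hk
  induction k, hk using Nat.le_induction with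
  | base => norm_num
  | succ k hk ih => rw [pow_succ 4]; nlinarith

theorem good_large {r e : ℕ} (hr : 21 ≤ r) (he : 1 ≤ e) (her : e ≤ r) (hodd : e % 2 = 1) :
    Good e (2 ^ r) (stabSum r e) := by
  left
  obtain ⟨k, hk⟩ : ∃ k, k = r / 3 := ⟨_, rfl⟩
  have h1 : (∑ d ∈ e.divisors, (d.totient * 2 ^ (r / d) : ℕ)) ≤ 2 ^ r + e * 2 ^ k := by
    rw [← add_sum_erase _ _ (Nat.one_mem_divisors.2 (by omega))]
    refine add_le_add (by simp) ?_
    calc ∑ d ∈ e.divisors.erase 1, d.totient * 2 ^ (r / d)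
        ≤ ∑ d ∈ e.divisors.erase 1, d.totient * 2 ^ k := by
          refine sum_le_sum fun d hd => Nat.mul_le_mul_left _ (Nat.pow_le_pow_right (by norm_num) ?_)
          obtain ⟨hd1, hd2⟩ := mem_erase.1 hd
          obtain ⟨hde, -⟩ := Nat.mem_divisors.1 hd2
          have hd3 : 3 ≤ d := by
            have h0 : 0 < d := Nat.pos_of_mem_divisors hd2
            by_contra h
            have : d = 2 := by omega
            subst this
            omega
          exact hk ▸ Nat.div_le_div_left hd3 (by norm_num)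
      _ ≤ ∑ d ∈ e.divisors, d.totient * 2 ^ k :=
          sum_le_sum_of_subset (erase_subset _ _)
      _ = e * 2 ^ k := by rw [← sum_mul, Nat.sum_totient]
  have hP : stabSum r e ≤ (e : ℤ) * 2 ^ k := by
    rw [stabSum]
    have : ((∑ d ∈ e.divisors, (d.totient * 2 ^ (r / d) : ℕ) : ℕ) : ℤ) ≤ ((2 ^ r + e * 2 ^ k : ℕ) : ℤ) := by
      exact_mod_cast h1
    push_cast at this ⊢
    linarith
  have h2 : 7 * (e * e * 2 ^ k) < 2 ^ r := by
    calc 7 * (e * e * 2 ^ k) ≤ 7 * (3 * k + 2) ^ 2 * 2 ^ k := by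
          rw [← mul_assoc, pow_two]
          exact Nat.mul_le_mul_right _ (Nat.mul_le_mul_left _ (Nat.mul_le_mul (by omega) (by omega)))
      _ < 4 ^ k * 2 ^ k := Nat.mul_lt_mul_of_pos_right (four_pow_bound k (by omega)) (by positivity)
      _ = 2 ^ (3 * k) := by rw [← Nat.mul_pow, pow_mul]; norm_num
      _ ≤ 2 ^ r := Nat.pow_le_pow_right (by norm_num) (by omega)
  have h2' : 7 * ((e : ℤ) * e * 2 ^ k) < 2 ^ r := by exact_mod_cast h2
  have he' : (1 : ℤ) ≤ e := by exact_mod_cast he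
  have hpos : (0 : ℤ) ≤ (2 : ℤ) ^ k := by positivity
  nlinarith [mul_le_mul_of_nonneg_left hP (show (0 : ℤ) ≤ 6 * e + 1 by omega),
    mul_self_nonneg ((e : ℤ) - 1), mul_nonneg (mul_nonneg (show (0 : ℤ) ≤ e by omega) hpos)
      (show (0 : ℤ) ≤ (e : ℤ) - 1 by omega)]

end Numbers

open scoped Classical

/-- A sum over the nontrivial elements of a group of odd order invariant under inversion is twice a
partial sum. -/
theorem exists_half {H : Type u} [Group H] [Fintype H] (hodd : ¬ 2 ∣ Nat.card H) (g : H → ℂ)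
    (hg : ∀ x, g x⁻¹ = g x) (hint : ∀ x, IsIntegral ℤ (g x)) :
    ∃ z : ℂ, IsIntegral ℤ z ∧ ∑ x ∈ univ.erase (1 : H), g x = 2 * z := by
  obtain ⟨ι, hι⟩ : ∃ ι : H → ℕ, ι = fun x => (Fintype.equivFin H x : ℕ) := ⟨_, rfl⟩
  have hne : ∀ x : H, x ≠ 1 → ι x ≠ ι x⁻¹ := by
    intro x hx e
    rw [hι] at e
    have e' : x = x⁻¹ := (Fintype.equivFin H).injective (Fin.val_injective e)
    have h2 : x ^ 2 = 1 := by rw [pow_two]; nth_rewrite 2 [e']; exact mul_inv_cancel x
    exact hodd ((orderOf_eq_prime (hp := ⟨Nat.prime_two⟩) h2 hx).symm.dvd.trans (orderOf_dvd_natCard x))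
  refine ⟨∑ x ∈ (univ.erase (1 : H)).filter (fun x => ι x < ι x⁻¹), g x, IsIntegral.sum _ fun x _ => hint x, ?_⟩
  rw [← sum_filter_add_sum_filter_not _ (fun x => ι x < ι x⁻¹), two_mul]
  congr 1
  refine sum_nbij' (·⁻¹) (·⁻¹) (fun x hx => ?_) (fun x hx => ?_) (fun x _ => inv_inv x)
    (fun x _ => inv_inv x) (fun x _ => (hg x).symm)
  · obtain ⟨hx1, hlt⟩ := mem_filter.1 hx
    have := hne x (mem_erase.1 hx1).1
    refine mem_filter.2 ⟨mem_erase.2 ⟨inv_ne_one.2 (mem_erase.1 hx1).1, mem_univ _⟩, ?_⟩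
    rw [inv_inv]; omega
  · obtain ⟨hx1, hlt⟩ := mem_filter.1 hx
    refine mem_filter.2 ⟨mem_erase.2 ⟨inv_ne_one.2 (mem_erase.1 hx1).1, mem_univ _⟩, ?_⟩
    rw [inv_inv]; omega

namespace Setup

variable {G : Type u} [Group G] [Fintype G] [IsSimpleGroup G] (P : Setup G)

/-- For `|S| = 8` the automizer has order 7. -/
theorem stab_card_eq_one (hFT : CfsgLib.OddConseq.OddSolvable.{u}) (hel : ∀ s ∈ (P.S : Subgroup G), s * s = 1)
    (h8 : Nat.card ↥(P.S : Subgroup G) = 8) (Φ : Frame P.Quo) (hΦ : Φ.T = P.TQ) {τ : P.Quo}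
    (hτ : orderOf τ = 2) (E : Frame.Stab Φ τ) : Nat.card ↥E.E = 1 := by
  haveI := Φ.normal
  have hS : Cfsg.IsElementaryAbelian 2 (P.S : Subgroup G) :=
    ⟨⟨⟨fun a b => Subtype.ext (P.comm _ a.2 _ b.2)⟩⟩, fun s hs => by rw [pow_two]; exact hel s hs⟩
  have h7 := CfsgLib.ElemEight.relIndex_eq_seven hFT P.nonab P.S hS h8 P.solvable
  obtain ⟨f, hf⟩ : ∃ f : ↥(Subgroup.normalizer ((P.S : Subgroup G) : Set G)) →* P.Quo ⧸ Φ.T,
      f = (QuotientGroup.mk' Φ.T).comp (P.proj.comp (Subgroup.inclusion P.N_le_M)) := ⟨_, rfl⟩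
  have hsurj : Function.Surjective f := by
    intro γ
    obtain ⟨δ, rfl⟩ := QuotientGroup.mk'_surjective Φ.T γ
    obtain ⟨g, rfl⟩ := P.proj_surjective δ
    obtain ⟨w, hw, h, hh, he⟩ := CfsgLib.ElemEight.mem_split P.norm (show (g : G) ∈ P.W ⊔ _ from g.2)
    refine ⟨⟨h, hh⟩, ?_⟩
    rw [hf, show g = ⟨w, P.W_le_M hw⟩ * ⟨h, P.N_le_M hh⟩ from Subtype.ext he, map_mul P.proj,
      (P.proj_eq_one (y := ⟨w, P.W_le_M hw⟩)).2 hw, one_mul]
    rfl
  have hker : (Subgroup.centralizer ((P.S : Subgroup G) : Set G)).subgroupOf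
      (Subgroup.normalizer ((P.S : Subgroup G) : Set G)) ≤ f.ker := by
    intro x hx
    rw [MonoidHom.mem_ker, hf]
    refine (QuotientGroup.eq_one_iff _).2 (Φ.self _ fun s hs => ?_)
    rw [hΦ] at hs
    obtain ⟨s', hs', rfl⟩ := P.mem_TQ.1 hs
    show P.proj _ * P.proj _ = P.proj _ * P.proj _
    rw [← map_mul, ← map_mul]
    exact congrArg P.proj (Subtype.ext ((Subgroup.mem_centralizer_iff.1 (Subgroup.mem_subgroupOf.1 hx)) s' hs').symm)
  have hdvd : Φ.T.index ∣ 7 := by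
    rw [← h7, Subgroup.relIndex]
    refine dvd_trans (dvd_of_eq ?_) (Subgroup.index_dvd_of_le hker)
    rw [Subgroup.index_ker, MonoidHom.range_eq_top.2 hsurj, Subgroup.card_top, Subgroup.index_eq_card]
  have h1 := Φ.card_centralizer_mul hτ
  rw [← E.card_mul hτ, ← Φ.T.card_mul_index] at h1
  have hq : Nat.card ↥Φ.T = 8 := by rw [hΦ, P.card_TQ, h8]
  have hκ := Φ.seven_le_numInvol
  rw [hq] at h1
  have hle := Nat.le_of_dvd (by norm_num) hdvd
  have hpos : 0 < Nat.card ↥E.E := Nat.card_pos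
  have : numInvol P.Quo * Nat.card ↥E.E ≤ 7 := by nlinarith
  nlinarith

theorem sum_stab {Φ : Frame P.Quo} {τ : P.Quo} (E : Frame.Stab Φ τ) (hel : ∀ s ∈ Φ.T, s * s = 1) {r : ℕ}
    (hr : Nat.card ↥Φ.Om = 2 ^ r) (her : Nat.card ↥E.E ∣ r) (hcyc : IsCyclic ↥E.E)
    (hfix : ∀ x ∈ E.E, Nat.card {s : P.Quo // s ∈ Φ.Om ∧ Commute s x} ^ orderOf x = 2 ^ r) :
    ∑ x : ↥E.E, (Φ.fixCount x : ℂ) = ((stabSum r (Nat.card ↥E.E) + 2 ^ r : ℤ) : ℂ) := by
  haveI := hcyc
  rw [stabSum, sub_add_cancel, Int.cast_natCast, Nat.cast_sum,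
    ← sum_fiberwise_of_maps_to (t := (Nat.card ↥E.E).divisors) (g := fun x : ↥E.E => orderOf x)
      fun x _ => Nat.mem_divisors.2 ⟨orderOf_dvd_natCard x, Nat.card_pos.ne'⟩]
  refine sum_congr rfl fun d hd => ?_
  obtain ⟨hde, -⟩ := Nat.mem_divisors.1 hd
  have hd0 : d ≠ 0 := (Nat.pos_of_mem_divisors hd).ne'
  rw [sum_congr rfl (g := fun _ => ((2 ^ (r / d) : ℕ) : ℂ)) fun x hx => ?_, sum_const,
    IsCyclic.card_orderOf_eq_totient (by rwa [← Nat.card_eq_fintype_card]), nsmul_eq_mul, Nat.cast_mul]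
  have ho : orderOf (x : P.Quo) = d := by rw [Subgroup.orderOf_coe]; exact (mem_filter.1 hx).2
  have h := hfix x x.2
  rw [ho, show 2 ^ r = (2 ^ (r / d)) ^ d by rw [← pow_mul, Nat.div_mul_cancel (hde.trans her)]] at h
  rw [← Nat.pow_left_injective hd0 h, Frame.fixCount]
  congr 1
  exact Nat.card_congr (Equiv.subtypeEquivRight fun s =>
    and_congr_left' ⟨fun hs => ⟨hs, hel s hs⟩, fun hs => hs.1⟩)

/-- An elementary Sylow subgroup bounds the index. -/
theorem index_le_of_elementary (hFT : CfsgLib.OddConseq.OddSolvable.{u})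
    (hel : ∀ s ∈ (P.S : Subgroup G), s * s = 1) :
    P.M.index ≤ 3 * Nat.card ↥(P.S : Subgroup G) := by
  obtain ⟨I, hI⟩ := exists_pModular (p := 2) Nat.prime_two
  haveI := hI.2.1
  letI := Fintype.ofFinite (IrrCharacter G)
  obtain ⟨t, htS, ht⟩ := P.exists_invol
  obtain ⟨Φ, hΦ⟩ := P.nonempty_frame
  obtain ⟨τ, hτdef⟩ : ∃ τ, τ = P.proj ⟨t, P.S_le_M htS⟩ := ⟨_, rfl⟩
  have hτ : orderOf τ = 2 := hτdef ▸ P.orderOf_proj_invol htS ht
  obtain ⟨E, r, hr, her, hcyc, hfix⟩ := Φ.exists_stab_semilinear hFT hτ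
  have helT : ∀ s ∈ Φ.T, s * s = 1 := fun s hs => by
    rw [hΦ] at hs
    obtain ⟨s', hs', rfl⟩ := P.mem_TQ.1 hs
    rw [← map_mul, show (⟨s', P.S_le_M hs'⟩ : ↥P.M) * ⟨s', P.S_le_M hs'⟩ = 1 from Subtype.ext (hel s' hs'), map_one]
  obtain ⟨q, hq⟩ : ∃ q, q = Nat.card ↥(P.S : Subgroup G) := ⟨_, rfl⟩
  obtain ⟨e, he⟩ : ∃ e, e = Nat.card ↥E.E := ⟨_, rfl⟩
  obtain ⟨k, hk⟩ : ∃ k, k = numInvol P.Quo := ⟨_, rfl⟩
  rw [← hq]
  have hTq : Nat.card ↥Φ.T = q := by rw [hΦ, P.card_TQ, hq]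
  have hOT : Φ.Om = Φ.T := le_antisymm (fun s hs => hs.1) fun s hs => ⟨hs, helT s hs⟩
  have hqr : q = 2 ^ r := by rw [← hTq, ← hOT, hr]
  have hkq : k + 1 = q := by rw [hk, Φ.numInvol_add_one, hOT, hTq]
  have h7 : 7 ≤ k := hk ▸ Φ.seven_le_numInvol
  have hr3 : 3 ≤ r := by
    by_contra h
    have : 2 ^ r ≤ 2 ^ 2 := Nat.pow_le_pow_right (by norm_num) (by omega)
    omega
  have heodd : e % 2 = 1 := by have := E.odd_card; rw [← he] at this; omega
  have he1 : 1 ≤ e := by omega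
  have her' : e ≤ r := he ▸ Nat.le_of_dvd (by omega) her
  have hgood : Good e ((2 : ℤ) ^ r) (stabSum r e) := by
    rcases Nat.lt_or_ge r 21 with h | h
    · refine good_of_bool (good_table r (List.mem_range.2 h) e (List.mem_range.2 (by omega))
        ⟨hr3, he1, he ▸ her, heodd, fun h3 => ?_⟩)
      exact he ▸ P.stab_card_eq_one hFT hel (by rw [← hq, hqr, h3]; norm_num) Φ hΦ hτ E
    · exact good_large h he1 her' heodd
  -- the characters
  obtain ⟨B, hB⟩ : ∃ B, B = (univ.filter (· ∈ principalBlock I G)).erase (oneChar G) := ⟨_, rfl⟩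
  have hBmem : ∀ χ, χ ∈ B ↔ χ ≠ oneChar G ∧ χ ∈ principalBlock I G := fun χ => by simp [hB]
  have hsplit : ∀ F : IrrCharacter G → ℂ, (∀ χ, χ ∉ principalBlock I G → F χ = 0) →
      ∑ χ, F χ = F (oneChar G) + ∑ χ ∈ B, F χ := by
    intro F hF
    rw [hB, add_sum_erase _ _ (mem_filter.2 ⟨mem_univ _, one_mem_principalBlock⟩)]
    exact (sum_subset (subset_univ _) fun χ _ hχ => hF χ (by simpa using hχ)).symm
  have hνc : ∀ χ : IrrCharacter G, ∃ w : ℤ, sqInd (χ : G → ℂ) = w ∧ -1 ≤ w ∧ w ≤ 1 := fun χ => by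
    rcases (sqInd_cases χ).1 with h | h | h
    · exact ⟨0, by rw [h]; simp, by norm_num, by norm_num⟩
    · exact ⟨1, by rw [h]; simp, by norm_num, by norm_num⟩
    · exact ⟨-1, by rw [h]; simp, by norm_num, by norm_num⟩
  choose ν hν hν1 hν2 using hνc
  choose a ha using fun χ : IrrCharacter G => exists_int_at_involution χ (v := t) (ht ▸ pow_orderOf_eq_one t)
  have hdc : ∀ χ : IrrCharacter G, ∃ w : ℤ, (χ ∈ principalBlock I G → P.coef (phiFun P.Quo) χ = w) ∧
      (χ ∈ B → -1 ≤ w ∧ (w = -1 → ν χ = 1)) ∧ (χ = oneChar G → w = 1) := by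
    intro χ
    by_cases hχ : χ ∈ principalBlock I G
    · obtain ⟨m, hm, hc⟩ := P.coef_phi hI hχ ht
      refine ⟨(m : ℤ) - ν χ + (if χ = oneChar G then 1 else 0), fun _ => ?_, fun hB' => ?_, fun h1 => ?_⟩
      · rw [hc, hν]; split_ifs <;> push_cast <;> rfl
      · rw [if_neg ((hBmem χ).1 hB').1]
        have := hν1 χ; have := hν2 χ
        exact ⟨by omega, fun h => by omega⟩
      · subst h1
        have hm1 : m = 1 := by
          have e1 : ∀ g : G, ((oneChar G : IrrCharacter G) : G → ℂ) g = 1 := fun _ => rfl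
          simp only [e1, sum_const, nsmul_one] at hm
          rw [Nat.card_eq_fintype_card, Fintype.card_subtype] at hm
          have hne : ((univ.filter (· ∈ Subgroup.centralizer ({t} : Set G))).card : ℂ) ≠ 0 :=
            Nat.cast_ne_zero.2 (Finset.card_pos.2 ⟨1, mem_filter.2 ⟨mem_univ _, one_mem _⟩⟩).ne'
          exact_mod_cast (mul_right_cancel₀ hne (by rw [one_mul]; exact hm) : (1 : ℂ) = m).symm
        have hν' : ν (oneChar G) = 1 := by
          have h := hν (oneChar G)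
          rw [show ((oneChar G : IrrCharacter G) : G → ℂ) = fun _ => 1 from rfl, sqInd_one] at h
          exact_mod_cast h.symm
        rw [if_pos rfl, hm1, hν']; norm_num
    · exact ⟨1, fun h => absurd h hχ, fun h => absurd ((hBmem χ).1 h).2 hχ, fun _ => rfl⟩
  choose d hd hdB hd1 using hdc
  have hd0 : ∀ χ, χ ∉ principalBlock I G → P.coef (phiFun P.Quo) χ = 0 := fun χ h =>
    P.coef_zero hI h phiFun_supported
  have ha0 : ∀ χ, P.coef (invFun P.Quo) χ = if χ ∈ principalBlock I G then (a χ : ℂ) else 0 := fun χ => by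
    rw [P.coef_invFun hI χ ht]; simp only [(ha χ).1]
  have h1mem : oneChar G ∈ principalBlock I G := one_mem_principalBlock
  have ha1 : a (oneChar G) = 1 := by
    have := (ha (oneChar G)).1
    simp only [oneChar] at this
    exact_mod_cast this.symm
  have hν1' : ν (oneChar G) = 1 := by
    have h := hν (oneChar G)
    rw [show ((oneChar G : IrrCharacter G) : G → ℂ) = fun _ => 1 from rfl, sqInd_one] at h
    exact_mod_cast h.symm
  -- inner products
  have hcard : (Nat.card P.Quo : ℂ) = (k : ℂ) * ((q : ℂ) * (e : ℂ)) := by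
    rw [Φ.card_eq helT hτ E, hk, hTq, he]
  have hk0 : (k : ℂ) ≠ 0 := Nat.cast_ne_zero.2 (by omega)
  have hq0 : (q : ℂ) ≠ 0 := Nat.cast_ne_zero.2 (by omega)
  have he0 : (e : ℂ) ≠ 0 := Nat.cast_ne_zero.2 (by omega)
  have hinv : ∀ F : P.Quo → ℂ, IsClassFunction P.Quo F → classInner F (invFun P.Quo) = F τ := by
    intro F hF
    have h : ∀ γ : P.Quo, F γ * conj (invFun P.Quo γ) =
        if orderOf γ = 2 then (Nat.card P.Quo : ℂ) / (k : ℂ) * F τ else 0 := fun γ => by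
      split_ifs with hγ
      · rw [invFun_invol hγ, map_div₀, map_natCast, map_natCast, Φ.class_const hF hγ hτ, hk]; ring
      · rw [invFun, if_neg hγ, map_zero, mul_zero]
    rw [classInner, sum_congr rfl fun γ _ => h γ, ← sum_filter, sum_const, nsmul_eq_mul,
      ← Fintype.card_subtype, ← Nat.card_eq_fintype_card, ← numInvol, ← hk, hcard]
    field_simp
  have hφt : phiFun P.Quo τ = (q : ℂ) := by rw [Φ.phiFun_invol helT hτ E, hTq]
  have hit : invFun P.Quo τ = (q : ℂ) * (e : ℂ) := by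
    rw [invFun_invol hτ, ← hk, hcard]; field_simp
  have cdd : (e : ℂ) * (1 + ∑ χ ∈ B, ((d χ : ℂ) * d χ)) = (((q : ℤ) + stabSum r e : ℤ) : ℂ) := by
    have h := P.parseval (f := phiFun P.Quo) phiFun_class phiFun_supported
    have hn := Φ.norm_phiFun helT hτ E
    rw [P.sum_stab E helT hr her hcyc hfix, ← he, ← h, hsplit _ fun χ hχ => by rw [hd0 χ hχ, zero_mul],
      hd _ h1mem, hd1 _ rfl, sum_congr rfl fun χ hχ => by
        rw [hd χ ((hBmem χ).1 hχ).2, map_intCast]] at hn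
    rw [hqr]; push_cast at hn ⊢
    simp only [map_one, mul_one] at hn
    linear_combination hn
  have caa : 1 + ∑ χ ∈ B, ((a χ : ℂ) * a χ) = (q : ℂ) * (e : ℂ) := by
    have h := P.parseval (f := invFun P.Quo) invFun_class invFun_supported
    rw [hinv _ invFun_class, hit, hsplit _ fun χ hχ => by rw [ha0, if_neg hχ, zero_mul],
      sum_congr rfl (g := fun χ => (a χ : ℂ) * a χ) fun χ hχ => by
        rw [ha0, if_pos ((hBmem χ).1 hχ).2, map_intCast],
      ha0, if_pos h1mem, ha1, Int.cast_one, map_one, mul_one] at h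
    exact h
  have cda : 1 + ∑ χ ∈ B, ((d χ : ℂ) * a χ) = (q : ℂ) := by
    have h := P.parseval (f := phiFun P.Quo) invFun_class invFun_supported
    rw [hinv _ phiFun_class, hφt, hsplit _ fun χ hχ => by rw [hd0 χ hχ, zero_mul],
      sum_congr rfl (g := fun χ => (d χ : ℂ) * a χ) fun χ hχ => by
        rw [hd χ ((hBmem χ).1 hχ).2, ha0, if_pos ((hBmem χ).1 hχ).2, map_intCast],
      hd _ h1mem, hd1 _ rfl, ha0, if_pos h1mem, ha1, Int.cast_one, map_one, mul_one] at h
    exact h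
  have cnd : 1 + ∑ χ ∈ B, ((ν χ : ℂ) * d χ) = 0 := by
    have h := P.sum_sqInd_coef (F := phiFun P.Quo) phiFun_supported
    rw [Φ.sum_sq_eq_zero helT phiFun_supported, mul_zero, hsplit _ fun χ hχ => by rw [hd0 χ hχ, mul_zero],
      sum_congr rfl (g := fun χ => (ν χ : ℂ) * d χ) fun χ hχ => by
        rw [hd χ ((hBmem χ).1 hχ).2, hν],
      hd _ h1mem, hd1 _ rfl, hν, hν1', Int.cast_one, mul_one] at h
    exact h
  have cna : 1 + ∑ χ ∈ B, ((ν χ : ℂ) * a χ) = 0 := by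
    have h := P.sum_sqInd_coef (F := invFun P.Quo) invFun_supported
    rw [Φ.sum_sq_eq_zero helT invFun_supported, mul_zero,
      hsplit _ fun χ hχ => by rw [ha0, if_neg hχ, mul_zero],
      sum_congr rfl (g := fun χ => (ν χ : ℂ) * a χ) fun χ hχ => by
        rw [ha0, if_pos ((hBmem χ).1 hχ).2, hν],
      ha0, if_pos h1mem, ha1, hν, hν1', Int.cast_one, mul_one] at h
    exact h
  have cpairs : 1 + ∑ χ ∈ B, ((d χ : ℂ) * ((a χ : ℂ) * a χ / (charDegree (χ : G → ℂ) : ℂ))) =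
      (q : ℂ) * ((k : ℂ) - 1) / ((P.M.index : ℂ) * k) := by
    have h := P.pairs phiFun_class phiFun_supported (fun u v => Φ.mul_invol) ht hτ
      fun u hu => Φ.class_const phiFun_class hu hτ
    rw [hφt, ← hk, hsplit _ fun χ hχ => by rw [hd0 χ hχ, zero_mul],
      sum_congr rfl (g := fun χ => (d χ : ℂ) * ((a χ : ℂ) * a χ / (charDegree (χ : G → ℂ) : ℂ))) fun χ hχ => by
        rw [hd χ ((hBmem χ).1 hχ).2, (ha χ).1, (charDegree_eq χ).1],
      hd _ h1mem, hd1 _ rfl, (ha (oneChar G)).1, ha1] at h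
    simpa [oneChar] using h
  have hint : ∀ {x y : ℤ}, (x : ℂ) = (y : ℂ) → x = y := fun h => by exact_mod_cast h
  have hmain := count_bound B a d ν (fun χ => charDegree (χ : G → ℂ)) (e := (e : ℤ)) (q := (q : ℤ))
    (P := stabSum r e) (n := P.M.index) (k := k) (by exact_mod_cast he1) (by omega) h7
    (fun h => by
      rw [hqr] at h; push_cast at h
      have h' := Int.Prime.dvd_pow' Nat.prime_three h
      norm_num at h')
    (Nat.pos_of_ne_zero Subgroup.index_ne_zero_of_finite) (fun χ hχ => (hdB χ hχ).1)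
    (fun χ _ => ⟨hν1 χ, hν2 χ⟩) (fun χ hχ => (hdB χ hχ).2)
    (hint (by push_cast; linear_combination cnd)) (hint (by push_cast; linear_combination cna))
    (hint (by push_cast; linear_combination cda)) (hint (by push_cast at cdd ⊢; linear_combination cdd))
    (hint (by push_cast; linear_combination caa)) ?_ ?_ ?_ (by rw [hqr]; push_cast; exact hgood)
  · exact_mod_cast hmain
  · -- parity
    intro χ hχ hν0
    obtain ⟨hne, hχB⟩ := (hBmem χ).1 hχ
    have hreal : ∀ g : G, conj ((χ : G → ℂ) g) = (χ : G → ℂ) g := fun g =>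
      Complex.conj_eq_iff_im.2 (real_of_sqInd_ne_zero χ (by rw [hν]; exact_mod_cast hν0) g)
    have hval : ∀ x : ↥E.E, P.val χ (τ * (x : P.Quo)⁻¹) = P.val χ (τ * (x : P.Quo)) := by
      intro x
      obtain ⟨y, hy⟩ := P.proj_surjective (τ * (x : P.Quo))
      have hy2 : 2 ∣ orderOf (y : G) := (P.even_proj y).1 (hy ▸ Φ.even_stab helT hτ E x)
      have hc : Commute τ (x : P.Quo) := (Subgroup.mem_centralizer_singleton_iff.1 (E.le x.2)).symm
      rw [show τ * (x : P.Quo)⁻¹ = (τ * (x : P.Quo))⁻¹ by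
        rw [mul_inv_rev, CfsgLib.Invol.invol_inv hτ]; exact hc.inv_right.eq, ← hy, ← map_inv,
        P.val_proj hI hχB y hy2, P.val_proj hI hχB y⁻¹ (by rwa [InvMemClass.coe_inv, orderOf_inv]),
        InvMemClass.coe_inv, Char.irr_inv, hreal]
    obtain ⟨z, hz, hzs⟩ := exists_half (H := ↥E.E) E.odd_card (fun x => conj (P.val χ (τ * (x : P.Quo))))
      (fun x => by rw [InvMemClass.coe_inv, hval])
      (fun x => by
        show IsIntegral ℤ (conj ((χ : G → ℂ) _))
        rw [hreal]; exact isCharacter_isIntegral (isCharacter_irr χ) _)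
    have hpsi := Φ.classInner_psi helT hτ E (f := P.val χ) fun γ δ hγ => P.val_conj hI hχB hγ δ
    rw [← P.coef_principal hI hχB phiFun_supported, ← P.coef_principal hI hχB invFun_supported,
      hd χ hχB, ha0, if_pos hχB, ← he] at hpsi
    refine even_of_isIntegral hz ?_
    rw [← hzs]
    push_cast
    convert hpsi using 4
  · -- degrees
    intro χ hχ
    obtain ⟨hne, hχB⟩ := (hBmem χ).1 hχ
    obtain ⟨i, j, hj, haij, hf⟩ := P.exists_degree_split ht htS hne (a := a χ) fun s hs hs1 => by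
      rw [Char.classFun_isConj (Char.isClassFunction_irr χ)
        (P.isConj_invol (orderOf_eq_prime (hp := ⟨Nat.prime_two⟩) (by rw [pow_two]; exact hel s hs) hs1) ht),
        (ha χ).1]
    rw [← hq] at hf
    have hk' : (k : ℤ) = (q : ℤ) - 1 := by omega
    rw [hk', hf]
    have hj' : (1 : ℤ) ≤ j := by exact_mod_cast hj
    constructor <;> nlinarith
  · have h' : ((1 + ∑ χ ∈ B, (d χ : ℝ) * ((a χ : ℝ) * a χ / (charDegree (χ : G → ℂ) : ℝ)) : ℝ) : ℂ) =
        (((q : ℝ) * ((k : ℝ) - 1) / ((P.M.index : ℝ) * k) : ℝ) : ℂ) := by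
      push_cast
      exact cpairs
    exact_mod_cast h'

end Setup

end CfsgLib.AbelianSolv
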