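import Cfsg.Agent.Lib.OddConseq.AbelianSolv.Exceptional

/-!
# The Sylow 2-subgroup is elementary

Otherwise `phiFun` vanishes at the involutions, and the negative terms of the sum over the pairs of
involutions come from real characters, whose values are too small.
-/

set_option autoImplicit false
set_option linter.unusedSectionVars false
set_option linter.style.haveILetI false

open Finset
open scoped ComplexConjugate

namespace CfsgLib.AbelianSolv

open Cfsg CfsgLib.Char CfsgLib.Block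

universe u

open scoped Classical

/-- The arithmetic of the exceptional character. -/
theorem exceptional_bound {a s R q n f e : ℤ} (h2 : 2 * a = s + R ∨ 2 * a = s - R) (hR2 : 2 ∣ R)
    (hs : 0 < s) (hR : R * R ≤ q) (hn : q < n) (hf : s * n ≤ f) (ha : a * a ≤ q * e) (he : 4 * e ≤ q)
    (he0 : 0 ≤ e) (hR0 : 0 ≤ R) : 2 * (a * a) < f := by
  rcases le_or_gt s R with hsR | hsR
  · have hs2 : 2 ≤ s := by
      obtain ⟨k, rfl⟩ := hR2
      omega
    have h4 : (2 * a) * (2 * a) ≤ (2 * R) * (2 * R) := by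
      rcases h2 with h | h <;> rw [h] <;> nlinarith
    nlinarith [mul_nonneg (show 0 ≤ s - 2 by omega) (show 0 ≤ n by nlinarith)]
  · have ha' : 0 ≤ a ∧ a < s := by rcases h2 with h | h <;> constructor <;> omega
    have hq : 0 ≤ q := by nlinarith
    have h4 : (2 * a) * (2 * a) < n * n := by
      nlinarith [mul_le_mul_of_nonneg_left he hq, mul_self_lt_mul_self hq hn]
    have hlt : 2 * a < n := by nlinarith
    have hn0 : 0 < n := by omega
    calc 2 * (a * a) = 2 * a * a := by ring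
      _ < n * s := by nlinarith [mul_nonneg ha'.1 (show 0 ≤ n - 2 * a by omega), mul_pos hn0 (show 0 < s - a by omega)]
      _ ≤ f := by linarith

theorem two_mul_lt_two_pow : ∀ r : ℕ, 3 ≤ r → 2 * r < 2 ^ r := by
  intro r hr
  induction r, hr using Nat.le_induction with
  | base => norm_num
  | succ k hk ih => rw [pow_succ]; omega

namespace Frame

variable {Γ : Type u} [Group Γ] [Finite Γ] (Φ : Frame Γ)

include Φ in
/-- `|T| ≥ |Ω₁(T)|²` when the involutions are squares. -/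
theorem sq_card_Om_le (h : ∀ u : Γ, orderOf u = 2 → ∃ s ∈ Φ.T, s * s = u) :
    Nat.card ↥Φ.Om * Nat.card ↥Φ.Om ≤ Nat.card ↥Φ.T := by
  obtain ⟨sq, hsq⟩ : ∃ sq : ↥Φ.T →* ↥Φ.T, sq = powMonoidHom 2 := ⟨_, rfl⟩
  have hker : Nat.card ↥sq.ker = Nat.card ↥Φ.Om := by
    refine Nat.card_congr ((Equiv.subtypeEquivRight fun s => ?_).trans
      (Equiv.subtypeSubtypeEquivSubtypeInter (fun s : Γ => s ∈ Φ.T) (fun s : Γ => s * s = 1)))
    rw [MonoidHom.mem_ker, hsq, powMonoidHom_apply, pow_two, Subtype.ext_iff]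
    rfl
  have hrange : Nat.card ↥Φ.Om ≤ Nat.card ↥sq.range := by
    refine Nat.card_le_card_of_injective (fun v => ⟨⟨(v : Γ), v.2.1⟩, ?_⟩) fun a b e => Subtype.ext ?_
    · by_cases h1 : (v : Γ) = 1
      · rw [show (⟨(v : Γ), v.2.1⟩ : ↥Φ.T) = 1 from Subtype.ext h1]
        exact one_mem _
      · obtain ⟨s, hs, e⟩ := h v (orderOf_two_iff.2 ⟨v.2.2, h1⟩)
        exact ⟨⟨s, hs⟩, Subtype.ext (by rw [hsq, powMonoidHom_apply, pow_two]; exact e)⟩
    · exact congrArg (fun v => ((v.1 : ↥Φ.T) : Γ)) e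
  rw [← sq.ker.card_mul_index, Subgroup.index_ker, hker]
  exact Nat.mul_le_mul_left _ hrange

end Frame

namespace Setup

variable {G : Type u} [Group G] [Fintype G] [IsSimpleGroup G] (P : Setup G)

/-- The Sylow 2-subgroup is elementary abelian. -/
theorem elementary (hFT : CfsgLib.OddConseq.OddSolvable.{u}) : ∀ s ∈ (P.S : Subgroup G), s * s = 1 := by
  by_contra hne
  push Not at hne
  obtain ⟨s₀, hs₀, hs₀1⟩ := hne
  obtain ⟨I, hI⟩ := exists_pModular (p := 2) Nat.prime_two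
  haveI := hI.2.1
  letI := Fintype.ofFinite (IrrCharacter G)
  obtain ⟨t, htS, ht⟩ := P.exists_invol
  obtain ⟨Φ, hΦ⟩ := P.nonempty_frame
  obtain ⟨τ, hτdef⟩ : ∃ τ, τ = P.proj ⟨t, P.S_le_M htS⟩ := ⟨_, rfl⟩
  have hτ : orderOf τ = 2 := hτdef ▸ P.orderOf_proj_invol htS ht
  obtain ⟨E₀, r, hr, her, hcyc, -⟩ := Φ.exists_stab_semilinear hFT hτ
  have hneT : ∃ s ∈ Φ.T, s * s ≠ 1 := by
    refine ⟨P.proj ⟨s₀, P.S_le_M hs₀⟩, hΦ ▸ P.mem_TQ.2 ⟨s₀, hs₀, rfl⟩, fun e => hs₀1 ?_⟩
    exact P.eq_one_of_mem_W (mul_mem hs₀ hs₀) (P.proj_eq_one (y := ⟨s₀, P.S_le_M hs₀⟩ * ⟨s₀, P.S_le_M hs₀⟩).1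
      (by rw [map_mul]; exact e))
  obtain ⟨N, hN2, -, hroot⟩ := Φ.exists_height hneT
  have hsquare : ∀ u : P.Quo, orderOf u = 2 → ∃ s ∈ Φ.T, s * s = u := fun u hu => by
    obtain ⟨s, hs, e⟩ := hroot u hu
    obtain ⟨m, rfl⟩ := hN2
    exact ⟨s ^ m, pow_mem hs m, by rw [← pow_add, ← two_mul]; exact e⟩
  obtain ⟨S⟩ : Nonempty (Frame.Seed Φ τ) := by
    letI := hcyc.commGroup
    exact Φ.exists_seed hτ E₀ (fun a b => mul_comm a b) hneT
  have heE : Nat.card ↥S.E.E = Nat.card ↥E₀.E :=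
    Nat.eq_of_mul_eq_mul_left Nat.card_pos ((S.E.card_mul hτ).trans (E₀.card_mul hτ).symm)
  letI : Fintype (↥S.E.E →* ℂˣ) := by
    letI : CommGroup ↥S.E.E := { (inferInstance : Group ↥S.E.E) with mul_comm := S.commE }
    exact CfsgLib.BSW.fintype_dual
  -- numbers
  obtain ⟨q, hq⟩ : ∃ q, q = Nat.card ↥(P.S : Subgroup G) := ⟨_, rfl⟩
  obtain ⟨e, he⟩ : ∃ e, e = Nat.card ↥S.E.E := ⟨_, rfl⟩
  obtain ⟨k, hk⟩ : ∃ k, k = numInvol P.Quo := ⟨_, rfl⟩
  obtain ⟨n, hn⟩ : ∃ n, n = P.M.index := ⟨_, rfl⟩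
  have hTq : Nat.card ↥Φ.T = q := by rw [hΦ, P.card_TQ, hq]
  have hkr : k + 1 = 2 ^ r := by rw [hk, Φ.numInvol_add_one, hr]
  have h7 : 7 ≤ k := hk ▸ Φ.seven_le_numInvol
  have hr3 : 3 ≤ r := by
    by_contra h
    have : 2 ^ r ≤ 2 ^ 2 := Nat.pow_le_pow_right (by norm_num) (by omega)
    omega
  have hqR : (k + 1) * (k + 1) ≤ q := by rw [← hTq, hkr, ← hr]; exact Φ.sq_card_Om_le hsquare
  have her' : e ≤ r := by rw [he, heE]; exact Nat.le_of_dvd (by omega) her
  have he1 : 1 ≤ e := he ▸ Nat.card_pos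
  have hnq : q < n := by
    have h1 := P.index_ne_one
    have h2 : 0 < P.M.index := Nat.pos_of_ne_zero Subgroup.index_ne_zero_of_finite
    have := Nat.le_of_dvd (by omega) P.card_dvd_index_sub_one
    omega
  -- values at the involution
  choose a ha using fun χ : IrrCharacter G => exists_int_at_involution χ (v := t) (ht ▸ pow_orderOf_eq_one t)
  have ha' : ∀ χ : IrrCharacter G, (χ : G → ℂ) t = (a χ : ℂ) := fun χ => (ha χ).1
  obtain ⟨f, hf⟩ : ∃ f : IrrCharacter G → ℕ, f = fun χ : IrrCharacter G => charDegree (χ : G → ℂ) := ⟨_, rfl⟩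
  have hf' : ∀ χ : IrrCharacter G, (χ : G → ℂ) 1 = (f χ : ℂ) := fun χ => by rw [hf, (charDegree_eq χ).1]
  have hfpos : ∀ χ, 0 < f χ := fun χ => Nat.pos_of_ne_zero fun e => Char.irr_one_ne_zero χ (by
    rw [hf', e, Nat.cast_zero])
  obtain ⟨B, hB⟩ : ∃ B, B = (univ.filter (· ∈ principalBlock I G)).erase (oneChar G) := ⟨_, rfl⟩
  have hBmem : ∀ χ, χ ∈ B ↔ χ ≠ oneChar G ∧ χ ∈ principalBlock I G := fun χ => by simp [hB]
  have h1mem : oneChar G ∈ principalBlock I G := one_mem_principalBlock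
  have ha1 : a (oneChar G) = 1 := by
    have := ha' (oneChar G)
    simp only [oneChar] at this
    exact_mod_cast this.symm
  have hf1 : f (oneChar G) = 1 := by
    have := hf' (oneChar G)
    simp only [oneChar] at this
    exact_mod_cast this.symm
  obtain ⟨Real', hRe⟩ : ∃ R : Finset (IrrCharacter G),
      R = B.filter (fun χ : IrrCharacter G => ∀ g : G, conj ((χ : G → ℂ) g) = (χ : G → ℂ) g) := ⟨_, rfl⟩
  -- the coefficients of `phiFun`
  have hdc : ∀ χ : IrrCharacter G, ∃ w : ℤ, (χ ∈ principalBlock I G → P.coef (phiFun P.Quo) χ = w) ∧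
      (χ ∈ B → -1 ≤ w ∧ (χ ∉ Real' → 0 ≤ w)) ∧ (χ = oneChar G → w = 1) := by
    intro χ
    by_cases hχ : χ ∈ principalBlock I G
    · obtain ⟨m, hm, hc⟩ := P.coef_phi hI hχ ht
      obtain ⟨ν, hν, hν1⟩ : ∃ ν : ℤ, sqInd (χ : G → ℂ) = ν ∧ ν ≤ 1 := by
        rcases (sqInd_cases χ).1 with h | h | h
        · exact ⟨0, by rw [h]; simp, by norm_num⟩
        · exact ⟨1, by rw [h]; simp, le_rfl⟩
        · exact ⟨-1, by rw [h]; simp, by norm_num⟩
      refine ⟨(m : ℤ) - ν + (if χ = oneChar G then 1 else 0), fun _ => ?_, fun hB' => ⟨?_, fun hnr => ?_⟩,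
        fun h1 => ?_⟩
      · rw [hc, hν]; split_ifs <;> push_cast <;> rfl
      · rw [if_neg ((hBmem χ).1 hB').1]; omega
      · rw [if_neg ((hBmem χ).1 hB').1]
        have hν0 : ν = 0 := by
          by_contra h0
          exact hnr (hRe ▸ mem_filter.2 ⟨hB', fun g => Complex.conj_eq_iff_im.2
            (real_of_sqInd_ne_zero χ (by rw [hν]; exact_mod_cast h0) g)⟩)
        omega
      · subst h1
        have hm1 : m = 1 := by
          have e1 : ∀ g : G, ((oneChar G : IrrCharacter G) : G → ℂ) g = 1 := fun _ => rfl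
          simp only [e1, sum_const, nsmul_one] at hm
          rw [Nat.card_eq_fintype_card, Fintype.card_subtype] at hm
          have hne : ((univ.filter (· ∈ Subgroup.centralizer ({t} : Set G))).card : ℂ) ≠ 0 :=
            Nat.cast_ne_zero.2 (Finset.card_pos.2 ⟨1, mem_filter.2 ⟨mem_univ _, one_mem _⟩⟩).ne'
          exact_mod_cast (mul_right_cancel₀ hne (by rw [one_mul]; exact hm) : (1 : ℂ) = m).symm
        rw [show ((oneChar G : IrrCharacter G) : G → ℂ) = fun _ => 1 from rfl, sqInd_one] at hν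
        rw [if_pos rfl, hm1, show ν = 1 by exact_mod_cast hν.symm]; norm_num
    · exact ⟨1, fun h => absurd h hχ, fun h => absurd ((hBmem χ).1 h).2 hχ, fun _ => rfl⟩
  choose d hd hdB hd1 using hdc
  -- the sum over the pairs
  have hsum : 1 + ∑ χ ∈ B, (d χ : ℝ) * ((a χ : ℝ) * a χ / (f χ : ℝ)) = 0 := by
    have h := P.pairs phiFun_class phiFun_supported (fun u v => Φ.mul_invol) ht hτ
      fun u hu => Φ.class_const phiFun_class hu hτ
    rw [Φ.phiFun_invol_eq_zero hτ (hsquare τ hτ), zero_mul, zero_div,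
      ← sum_subset (subset_univ (insert (oneChar G) B)) fun χ _ hχ => by
        have hχ' : χ ∉ principalBlock I G := fun hb => hχ (by
          by_cases h1 : χ = oneChar G
          · exact mem_insert.2 (Or.inl h1)
          · exact mem_insert_of_mem ((hBmem χ).2 ⟨h1, hb⟩))
        rw [P.coef_zero hI hχ' phiFun_supported, zero_mul],
      sum_insert (fun h1 => ((hBmem _).1 h1).1 rfl),
      sum_congr rfl (g := fun χ => (d χ : ℂ) * ((a χ : ℂ) * a χ / (f χ : ℂ))) fun χ hχ => by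
        rw [hd χ ((hBmem χ).1 hχ).2, ha', hf'],
      hd _ h1mem, hd1 _ rfl, ha', ha1, hf', hf1] at h
    have h' : ((1 + ∑ χ ∈ B, (d χ : ℝ) * ((a χ : ℝ) * a χ / (f χ : ℝ)) : ℝ) : ℂ) = 0 := by
      push_cast
      simpa using h
    exact_mod_cast h'
  -- the characters constant on `S#`
  have hconst : ∀ χ ∈ Real', χ ≠ P.exc S →
      (q - 1 ≤ f χ) ∧ P.coef S.D₀ χ = -(a χ : ℂ) := by
    intro χ hχ hexc
    obtain ⟨hχB, hreal⟩ := mem_filter.1 (hRe ▸ hχ)
    obtain ⟨hne, hblk⟩ := (hBmem χ).1 hχB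
    have hval : ∀ s ∈ (P.S : Subgroup G), s ≠ 1 → (χ : G → ℂ) s = (a χ : ℂ) := fun s hs hs1 => by
      rw [P.const_on_S S hreal hexc hI hblk hs htS hs1
        (fun e => by rw [e, orderOf_one] at ht; norm_num at ht) hΦ, ha']
    refine ⟨?_, ?_⟩
    · obtain ⟨i, j, hj, -, hdeg⟩ := P.exists_degree_split ht htS hne hval
      rw [← hq] at hdeg
      have hj' : (1 : ℤ) ≤ j := by exact_mod_cast hj
      have hfz : (f χ : ℤ) = i + ((q : ℤ) - 1) * j := by rw [hf]; exact hdeg
      have hq1 : (1 : ℤ) ≤ q := by rw [hq]; exact_mod_cast Nat.card_pos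
      have : (q : ℤ) - 1 ≤ f χ := by nlinarith
      omega
    · have hvalT : ∀ γ : ↥Φ.T, γ ≠ 1 → P.valE χ γ = (a χ : ℂ) := by
        intro γ hγ
        obtain ⟨s, hs, e⟩ := P.mem_TQ.1 (show (γ : P.Quo) ∈ P.TQ by rw [← hΦ]; exact γ.2)
        have hs1 : s ≠ 1 := fun e1 => hγ (Subtype.ext (by
          subst e1
          rw [← e, show (⟨1, P.S_le_M hs⟩ : ↥P.M) = 1 from rfl, map_one]; rfl))
        have h2 : 2 ∣ orderOf s := by
          haveI : Fact (Nat.Prime 2) := ⟨Nat.prime_two⟩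
          obtain ⟨j, hj⟩ := P.S.isPGroup' ⟨s, hs⟩
          obtain ⟨i, -, hi⟩ := (Nat.dvd_prime_pow Nat.prime_two).1
            (orderOf_dvd_of_pow_eq_one (congrArg Subtype.val hj))
          rcases Nat.eq_zero_or_pos i with h0 | h0
          · rw [h0, pow_zero, orderOf_eq_one_iff] at hi; exact absurd hi hs1
          · rw [hi]; exact dvd_pow_self 2 h0.ne'
        rw [← e, valE, if_pos ((P.even_proj _).2 h2), P.val_proj hI hblk ⟨s, P.S_le_M hs⟩ h2]
        exact hval s hs hs1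
      have h1 : P.valE χ ((1 : ↥Φ.T) : P.Quo) = 0 := by
        rw [valE, if_neg]; rw [Subgroup.coe_one, orderOf_one]; norm_num
      have hfc : ∀ ν : Φ.Lin, Frame.Seed.fc (P.valE χ) ν = (a χ : ℂ) * ((∑ s : ↥Φ.T, (ν s : ℂ)) - 1) := by
        intro ν
        rw [Frame.Seed.fc, ← add_sum_erase _ _ (mem_univ (1 : ↥Φ.T)), h1, map_zero, mul_zero, zero_add,
          ← add_sum_erase univ (fun s : ↥Φ.T => (ν s : ℂ)) (mem_univ (1 : ↥Φ.T)), map_one, Units.val_one,
          add_sub_cancel_left, mul_sum]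
        refine sum_congr rfl fun s hs => ?_
        rw [hvalT s (mem_erase.1 hs).1, map_intCast, mul_comm]
      rw [P.coef_valE hI hblk S.D₀_supported, S.inner_D₀ (P.valE_class hI hblk), hfc, hfc,
        CfsgLib.BSW.sum_lam S.ne₂]
      simp only [MonoidHom.one_apply, Units.val_one, sum_const, card_univ, nsmul_one,
        ← Nat.card_eq_fintype_card]
      have hq0 : (Nat.card ↥Φ.T : ℂ) ≠ 0 := Nat.cast_ne_zero.2 Nat.card_pos.ne'
      field_simp
      ring
  have hbessel : ∑ χ ∈ Real'.erase (P.exc S), a χ * a χ ≤ ((k : ℤ) + 1) * e := by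
    have h := P.parseval (f := S.D₀) S.D₀_class S.D₀_supported
    rw [S.norm_D₀, ← hk, ← he] at h
    have hci : ∀ χ, ∃ w : ℤ, P.coef S.D₀ χ = w := fun χ => P.coef_int S.D₀_generalized χ
    choose w hw using hci
    have h' : ((∑ χ, w χ * w χ : ℤ) : ℂ) = ((((k : ℤ) + 1) * e : ℤ) : ℂ) := by
      push_cast
      rw [← h]
      exact sum_congr rfl fun χ _ => by rw [hw, map_intCast]
    have h'' : ∑ χ, w χ * w χ = ((k : ℤ) + 1) * e := Int.cast_injective h'
    rw [← h'']
    calc ∑ χ ∈ Real'.erase (P.exc S), a χ * a χ = ∑ χ ∈ Real'.erase (P.exc S), w χ * w χ := by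
          refine sum_congr rfl fun χ hχ => ?_
          have h1 := (hconst χ (mem_erase.1 hχ).2 (mem_erase.1 hχ).1).2
          rw [hw] at h1
          have : w χ = -a χ := by exact_mod_cast h1
          rw [this]; ring
      _ ≤ _ := sum_le_sum_of_subset_of_nonneg (subset_univ _) fun χ _ _ => mul_self_nonneg _
  -- the exceptional character
  have hexcb : P.exc S ∈ B → 2 * (a (P.exc S) * a (P.exc S)) < (f (P.exc S) : ℤ) := by
    intro hx
    obtain ⟨x, hxdef⟩ : ∃ x, x = P.exc S := ⟨_, rfl⟩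
    rw [← hxdef] at hx ⊢
    obtain ⟨y, hy⟩ : ∃ y, y = (P.pairsD S).y 1 := ⟨_, rfl⟩
    obtain ⟨ε, hε⟩ : ∃ ε, ε = (P.pairsD S).sgn 1 := ⟨_, rfl⟩
    obtain ⟨hεc, -, -, -, hv, -⟩ := (P.pairsD S).triple_spec 1
    rw [← hε] at hεc hv
    rw [← hy, show (P.pairsD S).x 1 = x from hxdef.symm] at hv
    have hvec : ∀ (w : IrrCharacter G → ℂ),
        ∑ z, (P.vec S S.μ₄ 1 z : ℂ) * w z = (ε : ℂ) * (w x - w y) := by
      intro w
      rw [sum_congr rfl fun z _ => show (P.vec S S.μ₄ 1 z : ℂ) * w z =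
        (ε : ℂ) * ((if z = x then w z else 0) - if z = y then w z else 0) by
          rw [show P.vec S S.μ₄ 1 z = _ from hv z]
          simp only [pt]
          split_ifs <;> push_cast <;> ring,
        ← mul_sum, sum_sub_distrib, sum_ite_eq' univ x, sum_ite_eq' univ y, if_pos (mem_univ _),
        if_pos (mem_univ _)]
    have e1 : ε * (a x - a y) = (k : ℤ) + 1 := by
      have h := P.sum_vec_value S S.valid₄ 1 (P.S_le_M htS)
      rw [← hτdef, S.D₄_tau, ← hk, hvec, ha', ha'] at h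
      exact_mod_cast h
    have e2 : f y = f x := by
      have h := P.sum_vec_value S S.valid₄ 1 (one_mem P.M)
      rw [show (⟨1, one_mem P.M⟩ : ↥P.M) = 1 from rfl, map_one,
        S.D_supported S.valid₄ 1 1 (by rw [orderOf_one]; norm_num), hvec, hf', hf'] at h
      rcases hεc with e | e <;> rw [e] at h
      · have : (f x : ℂ) = f y := by push_cast at h; linear_combination h
        exact_mod_cast this.symm
      · have : (f y : ℂ) = f x := by push_cast at h; linear_combination h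
        exact_mod_cast this
    have e3 : ε * (a x * a x - a y * a y) * ((n : ℤ) * k) = ((k : ℤ) + 1) * ((k : ℤ) - 1) * f x := by
      have h := P.pairs (S.D_class S.μ₄ 1) (S.D_supported S.valid₄ 1) (fun u v => Φ.mul_invol) ht hτ
        fun u hu => Φ.class_const (S.D_class S.μ₄ 1) hu hτ
      rw [sum_congr rfl fun χ _ => by rw [← P.vec_spec S S.valid₄], hvec, S.D₄_tau, ← hk, ← hn,
        ha', ha', hf', hf', e2] at h
      have hf0 : (f x : ℂ) ≠ 0 := Nat.cast_ne_zero.2 (hfpos x).ne'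
      have hn0 : (n : ℂ) ≠ 0 := Nat.cast_ne_zero.2 (by omega)
      have hk0 : (k : ℂ) ≠ 0 := Nat.cast_ne_zero.2 (by omega)
      field_simp at h
      have h' : ((ε * (a x * a x - a y * a y) * ((n : ℤ) * k) : ℤ) : ℂ) =
          ((((k : ℤ) + 1) * ((k : ℤ) - 1) * f x : ℤ) : ℂ) := by
        push_cast
        linear_combination h
      exact_mod_cast h'
    have hs : (a x + a y) * ((n : ℤ) * k) = ((k : ℤ) - 1) * f x := by
      refine mul_left_cancel₀ (show ((k : ℤ) + 1) ≠ 0 by omega) ?_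
      rw [← mul_assoc ((k : ℤ) + 1) ((k : ℤ) - 1), ← e3, ← e1]
      ring
    have hk7 : (7 : ℤ) ≤ k := by exact_mod_cast h7
    have hfp : (0 : ℤ) < f x := by exact_mod_cast hfpos x
    have hnk : (0 : ℤ) < (n : ℤ) * k := mul_pos (by omega) (by omega)
    have hspos : 0 < a x + a y := by
      by_contra hle
      nlinarith [mul_pos (show (0 : ℤ) < (k : ℤ) - 1 by omega) hfp]
    have hax : a x * a x ≤ (q : ℤ) * e := by
      have h := P.parseval (f := invFun P.Quo) invFun_class invFun_supported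
      rw [Φ.inner_invFun hτ invFun_class, invFun_invol hτ, ← hk,
        sum_congr rfl (g := fun χ => (((if χ ∈ principalBlock I G then a χ * a χ else 0) : ℤ) : ℂ)) fun χ _ => by
          rw [P.coef_invFun hI χ ht]; split_ifs <;> simp [ha']] at h
      have hcard : (Nat.card P.Quo : ℂ) = (k : ℂ) * ((q : ℂ) * (e : ℂ)) := by
        rw [← Φ.card_centralizer_mul hτ, ← S.E.card_mul hτ, hk, hTq, he]
        push_cast
        ring
      rw [hcard, ← Int.cast_sum, mul_div_cancel_left₀ _ (Nat.cast_ne_zero.2 (by omega : k ≠ 0))] at h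
      have h' : (∑ χ : IrrCharacter G, if χ ∈ principalBlock I G then a χ * a χ else 0) = (q : ℤ) * e := by
        exact_mod_cast h
      rw [← h']
      have := single_le_sum (f := fun χ => if χ ∈ principalBlock I G then a χ * a χ else 0)
        (fun i _ => by show (0 : ℤ) ≤ if _ then _ else _; split_ifs <;> simp [mul_self_nonneg]) (mem_univ x)
      rw [if_pos ((hBmem x).1 hx).2] at this
      exact this
    refine exceptional_bound (s := a x + a y) (R := (k : ℤ) + 1) (q := q) (n := n) (e := e) ?_ ?_ hspos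
      (by exact_mod_cast hqR) (by exact_mod_cast hnq) ?_ hax ?_ (by positivity) (by positivity)
    · rcases hεc with e | e <;> rw [e] at e1
      · exact Or.inl (by linarith)
      · exact Or.inr (by linarith)
    · rw [show (k : ℤ) + 1 = ((k + 1 : ℕ) : ℤ) by push_cast; rfl, hkr]
      push_cast
      exact dvd_pow_self 2 (by omega)
    · nlinarith [mul_nonneg hspos.le (show (0 : ℤ) ≤ n by positivity)]
    · have h4 : 4 * e ≤ q := by
        have := two_mul_lt_two_pow r hr3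
        rw [← hkr] at this
        nlinarith
      exact_mod_cast h4
  -- the final estimate
  have hbound : ∀ χ ∈ B, -((d χ : ℝ) * ((a χ : ℝ) * a χ / (f χ : ℝ))) ≤
      if χ ∈ Real' then (a χ : ℝ) * a χ / (f χ : ℝ) else 0 := by
    intro χ hχ
    have hpos : (0 : ℝ) ≤ (a χ : ℝ) * a χ / (f χ : ℝ) :=
      div_nonneg (mul_self_nonneg _) (Nat.cast_nonneg _)
    obtain ⟨hd1', hd0⟩ := hdB χ hχ
    split_ifs with h
    · have : (-1 : ℝ) ≤ (d χ : ℝ) := by exact_mod_cast hd1'
      nlinarith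
    · have : (0 : ℝ) ≤ (d χ : ℝ) := by exact_mod_cast hd0 h
      nlinarith
  have hge : 1 ≤ ∑ χ ∈ Real', (a χ : ℝ) * a χ / (f χ : ℝ) := by
    have h1 := sum_le_sum hbound
    rw [sum_neg_distrib, ← sum_filter, filter_mem_eq_inter,
      inter_eq_right.2 (hRe ▸ filter_subset _ _)] at h1
    linarith
  have hqpos : (0 : ℝ) < ((q - 1 : ℕ) : ℝ) := by
    have : 0 < q - 1 := by
      have := Nat.mul_le_mul (show 8 ≤ k + 1 by omega) (show 8 ≤ k + 1 by omega)
      omega
    exact_mod_cast this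
  have hrest : 2 * ∑ χ ∈ Real'.erase (P.exc S), (a χ : ℝ) * a χ / (f χ : ℝ) < 1 := by
    have h1 : ∑ χ ∈ Real'.erase (P.exc S), (a χ : ℝ) * a χ / (f χ : ℝ) ≤
        ((∑ χ ∈ Real'.erase (P.exc S), a χ * a χ : ℤ) : ℝ) / ((q - 1 : ℕ) : ℝ) := by
      push_cast [-Nat.cast_sub]
      rw [sum_div]
      refine sum_le_sum fun χ hχ => ?_
      exact div_le_div_of_nonneg_left (mul_self_nonneg _) hqpos
        (by exact_mod_cast (hconst χ (mem_erase.1 hχ).2 (mem_erase.1 hχ).1).1)
    have h2 : 2 * ((k + 1) * e) < q - 1 := by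
      have := two_mul_lt_two_pow r hr3
      rw [← hkr] at this
      have h3 : 2 * ((k + 1) * e) ≤ k * (k + 1) := by nlinarith
      have h4 : k * (k + 1) + (k + 1) ≤ q := by nlinarith
      omega
    have h2' : 2 * (((k : ℝ) + 1) * e) < ((q - 1 : ℕ) : ℝ) := by exact_mod_cast h2
    have h3 : ((∑ χ ∈ Real'.erase (P.exc S), a χ * a χ : ℤ) : ℝ) ≤ ((k : ℝ) + 1) * e := by
      have := (Int.cast_le (R := ℝ)).2 hbessel
      push_cast at this ⊢
      exact this
    calc 2 * ∑ χ ∈ Real'.erase (P.exc S), (a χ : ℝ) * a χ / (f χ : ℝ)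
        ≤ 2 * ((((k : ℝ) + 1) * e) / ((q - 1 : ℕ) : ℝ)) := by
          have := div_le_div_of_nonneg_right h3 hqpos.le
          linarith
      _ < 1 := by rw [← mul_div_assoc, div_lt_one hqpos]; exact h2'
  by_cases hx : P.exc S ∈ Real'
  · rw [← add_sum_erase _ _ hx] at hge
    have h := hexcb (mem_filter.1 (hRe ▸ hx)).1
    have h' : 2 * ((a (P.exc S) : ℝ) * a (P.exc S)) < (f (P.exc S) : ℝ) := by exact_mod_cast h
    have : 2 * ((a (P.exc S) : ℝ) * a (P.exc S) / (f (P.exc S) : ℝ)) < 1 := by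
      rw [← mul_div_assoc, div_lt_one (by exact_mod_cast hfpos _)]; exact h'
    linarith
  · rw [erase_eq_of_notMem hx] at hrest
    linarith

end Setup

end CfsgLib.AbelianSolv
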