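import Cfsg.Agent.Lib.OddConseq.AbelianSolv.Small
import Cfsg.Agent.Lib.OddConseq.AbelianSolv.Elementary
import Cfsg.Agent.Lib.OddConseq.AbelianSolv.Exponent
import Cfsg.Agent.Lib.Classical.ProjLine
import Cfsg.Agent.Lib.Classical.SLBasic
import Cfsg.Agent.Lib.HallNumbers.Small
import Cfsg.Agent.Lib.GW.CaseCFourStructure
import Cfsg.Agent.Lib.Spor.Tri.Radical
import Cfsg.Agent.S0516
import Cfsg.Agent.S0483
import Cfsg.Agent.S0348
import Cfsg.Agent.S0205
import Cfsg.Agent.S1141

/-!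
# Abelian Sylow 2-subgroups and solvable centralizers of involutions

A simple group with these properties is `PSL(2, q)`, `q ≡ ±3 mod 8` or even; the general case
reduces to this by the odd core.
-/

set_option autoImplicit false
set_option linter.unusedSectionVars false
set_option linter.style.haveILetI false

namespace CfsgLib.AbelianSolv

open Subgroup

universe u

theorem oddSolvable : CfsgLib.OddConseq.OddSolvable.{u} := fun _ _ _ h => Cfsg.Agent.S0205.result h

/-- The conclusion on a group isomorphic to a group `PSL(2, F)`. -/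
def IsTarget (G : Type u) [Group G] : Prop :=
  ∃ (F : Type) (_ : Field F) (_ : Fintype F),
    (((Fintype.card F % 8 = 3 ∨ Fintype.card F % 8 = 5) ∧ 5 ≤ Fintype.card F) ∨
      (∃ n : ℕ, 2 ≤ n ∧ Fintype.card F = 2 ^ n)) ∧
    Nonempty (G ≃* Matrix.ProjectiveSpecialLinearGroup (Fin 2) F)

theorem two_mul_card_psl (F : Type) [Field F] [Fintype F] (hodd : Odd (Fintype.card F)) :
    2 * Nat.card (Matrix.ProjectiveSpecialLinearGroup (Fin 2) F) =
      Fintype.card F * ((Fintype.card F - 1) * (Fintype.card F + 1)) := by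
  have h := CfsgLib.Classical.card_psl2 (F := F)
  obtain ⟨k, hk⟩ := hodd
  rw [Nat.gcd_eq_left (show 2 ∣ Fintype.card F - 1 from ⟨k, by omega⟩)] at h
  exact h

section Arith

/-- The orders of the other groups of the CIT theorem differ from `(q + 1) q (q - 1)`. -/
theorem ne_twenty {q : ℕ} (hq : ∃ r : ℕ, q = 2 ^ r) : (q + 1) * (q * (q - 1)) ≠ 20160 := by
  obtain ⟨r, rfl⟩ := hq
  intro h
  rcases Nat.lt_or_ge r 5 with hr | hr
  · interval_cases r <;> norm_num at h
  · have : 2 ^ 5 ≤ 2 ^ r := Nat.pow_le_pow_right (by norm_num) hr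
    have h1 : 33 ≤ 2 ^ r + 1 := by omega
    have h2 : 32 * 31 ≤ 2 ^ r * (2 ^ r - 1) := Nat.mul_le_mul (by omega) (by omega)
    have := Nat.mul_le_mul h1 h2
    omega

theorem ne_prime_psl {q p : ℕ} (hq : ∃ r : ℕ, q = 2 ^ r) (hq8 : 8 ≤ q) (hp : p.Prime) (hp2 : p % 2 = 1)
    (h : p * ((p - 1) * (p + 1)) = 2 * ((q + 1) * (q * (q - 1)))) : False := by
  obtain ⟨r, rfl⟩ := hq
  have hdvd : p ∣ 2 * ((2 ^ r + 1) * (2 ^ r * (2 ^ r - 1))) := ⟨_, h.symm⟩
  have hn2 : ¬ p ∣ 2 := fun hd => by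
    have := (Nat.prime_dvd_prime_iff_eq hp Nat.prime_two).1 hd
    omega
  have hle : p ≤ 2 ^ r + 1 := by
    rcases hp.dvd_mul.1 hdvd with hd | hd
    · exact absurd hd hn2
    rcases hp.dvd_mul.1 hd with hd | hd
    · exact Nat.le_of_dvd (by omega) hd
    rcases hp.dvd_mul.1 hd with hd | hd
    · exact absurd (hp.dvd_of_dvd_pow hd) hn2
    · exact (Nat.le_of_dvd (by omega) hd).trans (by omega)
  obtain ⟨a, ha⟩ : ∃ a, 2 ^ r = a + 1 := ⟨2 ^ r - 1, by omega⟩
  rw [ha] at h hle hq8
  rw [show a + 1 - 1 = a by omega] at h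
  have h1 : p * ((p - 1) * (p + 1)) ≤ (a + 2) * ((a + 1) * (a + 3)) :=
    Nat.mul_le_mul hle (Nat.mul_le_mul (by omega) (by omega))
  have h3 : (a + 2) * (a + 1) * (a + 3) < (a + 2) * (a + 1) * (2 * a) :=
    Nat.mul_lt_mul_of_pos_left (by omega) (by positivity)
  have h4 : 2 * ((a + 1 + 1) * ((a + 1) * a)) = (a + 2) * (a + 1) * (2 * a) := by ring
  rw [← mul_assoc (a + 2)] at h1
  omega

theorem ne_suzuki {q Q : ℕ} (hq : ∃ r : ℕ, q = 2 ^ r) (hQ : ∃ m : ℕ, 1 ≤ m ∧ Q = 2 ^ m) (hq8 : 8 ≤ q)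
    (h : (q + 1) * (q * (q - 1)) = Q ^ 2 * (Q ^ 2 + 1) * (Q - 1)) : False := by
  obtain ⟨r, rfl⟩ := hq
  obtain ⟨m, hm1, rfl⟩ := hQ
  -- compare the two-parts
  have hodd1 : Odd ((2 ^ r + 1) * (2 ^ r - 1)) := by
    have hr : r ≠ 0 := fun e => by subst e; omega
    have he : Even (2 ^ r) := (Nat.even_pow' hr).2 even_two
    exact (he.add_one).mul (Nat.Even.sub_odd (by omega) he odd_one)
  have hodd2 : Odd (((2 ^ m) ^ 2 + 1) * (2 ^ m - 1)) := by
    have he : Even (2 ^ m) := (Nat.even_pow' (by omega)).2 even_two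
    exact (((Nat.even_pow' two_ne_zero).2 he).add_one).mul
      (Nat.Even.sub_odd (Nat.one_le_two_pow) he odd_one)
  have hr2 : r = 2 * m := by
    have h' : 2 ^ r * ((2 ^ r + 1) * (2 ^ r - 1)) = 2 ^ (2 * m) * (((2 ^ m) ^ 2 + 1) * (2 ^ m - 1)) := by
      rw [show 2 * m = m * 2 from mul_comm 2 m, pow_mul]
      linarith
    refine le_antisymm ?_ ?_
    · refine (Nat.pow_dvd_pow_iff_le_right (by norm_num : 1 < 2)).1 ?_
      exact (Nat.Coprime.pow_left r (Nat.coprime_two_left.2 hodd2)).dvd_of_dvd_mul_right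
        (h' ▸ dvd_mul_right _ _)
    · refine (Nat.pow_dvd_pow_iff_le_right (by norm_num : 1 < 2)).1 ?_
      exact (Nat.Coprime.pow_left (2 * m) (Nat.coprime_two_left.2 hodd1)).dvd_of_dvd_mul_right
        (h' ▸ dvd_mul_right _ _)
  subst hr2
  rw [show 2 * m = m * 2 from mul_comm 2 m, pow_mul] at h hq8
  obtain ⟨a, ha⟩ : ∃ a, a = 2 ^ m := ⟨_, rfl⟩
  rw [← ha] at h hq8
  have ha2 : 2 ≤ a := by nlinarith
  have h1 : (a ^ 2 + 1) * (a ^ 2) * (a ^ 2 - 1) = (a ^ 2 + 1) * (a ^ 2) * (a - 1) := by linarith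
  have h2 := Nat.eq_of_mul_eq_mul_left (by positivity) h1
  have : a < a ^ 2 := by nlinarith
  omega

end Arith

/-- The simple case, 2-rank at least three. -/
theorem simple_large {G : Type u} [Group G] [Finite G] [IsSimpleGroup G] (hG : ¬ IsMulCommutative G)
    (S : Sylow 2 G) (hcomm : ∀ a ∈ (S : Subgroup G), ∀ b ∈ (S : Subgroup G), a * b = b * a)
    (hC : ∀ t : G, orderOf t = 2 → Group.IsSolvable ↥(centralizer ({t} : Set G)))
    (h8 : 8 ≤ Nat.card {s : G // s ∈ (S : Subgroup G) ∧ s * s = 1}) : IsTarget G := by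
  haveI : Fact (Nat.Prime 2) := ⟨Nat.prime_two⟩
  have hFT : CfsgLib.OddConseq.OddSolvable.{u} := oddSolvable
  -- the involutions of `S`
  obtain ⟨B, hB⟩ : ∃ B : Subgroup G, ∀ x, x ∈ B ↔ x ∈ (S : Subgroup G) ∧ x * x = 1 := by
    refine ⟨{ carrier := {x | x ∈ (S : Subgroup G) ∧ x * x = 1}, one_mem' := ⟨one_mem _, one_mul 1⟩,
              mul_mem' := ?_, inv_mem' := ?_ }, fun x => Iff.rfl⟩
    · rintro a b ⟨ha, ha'⟩ ⟨hb, hb'⟩
      exact ⟨mul_mem ha hb, by
        rw [mul_assoc, ← mul_assoc b, hcomm b hb a ha, mul_assoc a b b, hb', mul_one, ha']⟩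
    · rintro a ⟨ha, ha'⟩
      exact ⟨inv_mem ha, by rw [← mul_inv_rev, ha', inv_one]⟩
  have hBS : B ≤ (S : Subgroup G) := fun x hx => ((hB x).1 hx).1
  have hBel : Cfsg.IsElementaryAbelian 2 B :=
    ⟨⟨⟨fun a b => Subtype.ext (hcomm a (hBS a.2) b (hBS b.2))⟩⟩, fun x hx => by rw [pow_two]; exact ((hB x).1 hx).2⟩
  have hB8 : 8 ≤ Nat.card ↥B := h8.trans (le_of_eq (Nat.card_congr
    (Equiv.subtypeEquivRight fun x => ((hB x)).symm)))
  have hordB : ∀ x ∈ B, x ≠ 1 → orderOf x = 2 := fun x hx h1 => orderOf_eq_prime (hBel.2 x hx) h1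
  haveI : Nontrivial ↥B := Finite.one_lt_card_iff_nontrivial.1 (by omega)
  obtain ⟨a', ha'⟩ := exists_ne (1 : ↥B)
  obtain ⟨a, ha, rfl⟩ : ∃ a, ∃ h : a ∈ B, a' = ⟨a, h⟩ := ⟨a'.1, a'.2, rfl⟩
  have ha1 : a ≠ 1 := fun e => ha' (Subtype.ext e)
  obtain ⟨b, hb, hb1, hba⟩ : ∃ b ∈ B, b ≠ 1 ∧ b ≠ a := by
    by_contra hno
    push Not at hno
    have hle : B ≤ zpowers a := fun y hy => by
      by_cases hy1 : y = 1
      · exact hy1 ▸ one_mem _
      · rw [hno y hy hy1]; exact mem_zpowers a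
    have := Nat.le_of_dvd Nat.card_pos (card_dvd_of_le hle)
    rw [Nat.card_zpowers, hordB a ha ha1] at this
    omega
  have hU := CfsgLib.Invol.isKleinFour_closure_pair (hordB a ha ha1) (hordB b hb hb1) (Ne.symm hba)
    (CfsgLib.EABasic.comm_of_isElementaryAbelian hBel ha hb)
  have hUB : Subgroup.closure {a, b} ≤ B := (closure_le _).2 (by rintro y (rfl | rfl) <;> assumption)
  have hc : ¬ Cfsg.IsComponentType G := by
    rintro ⟨t, ht, K, -, hK⟩
    haveI := hC t ht
    haveI : Group.IsSolvable (↥(centralizer ({t} : Set G)) ⧸ Cfsg.oddCore ↥(centralizer ({t} : Set G))) :=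
      Group.isSolvable_of_surjective (QuotientGroup.mk'_surjective _)
    exact CfsgLib.Coprime.not_isSolvable_of_isQuasisimple hK inferInstance
  have hodd := (CfsgLib.TwoGenCore.W_eq_of_le hFT (CfsgLib.TwoGenCore.isBalanced_of_not_componentType hc)
    hU hBel (by norm_num; omega) hUB).2
  obtain ⟨P, hPS⟩ : ∃ P : Setup G, P.S = S :=
    ⟨{ S := S, comm := hcomm, eight := h8, W := CfsgLib.TwoGenCore.W B, odd := hodd
       norm := fun g hg => by
         rw [mem_normalizer_iff_map_conj_eq]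
         show (CfsgLib.TwoGenCore.W B).map (MulAut.conj g).toMonoidHom = _
         rw [← CfsgLib.TwoGenCore.W_conj]
         refine congrArg _ (Subgroup.eq_of_le_of_card_ge ?_ ?_)
         · rintro _ ⟨x, hx, rfl⟩
           refine (hB _).2 ⟨(mem_normalizer_iff.1 hg x).1 (hBS hx), ?_⟩
           rw [← map_mul, ((hB x).1 hx).2, map_one]
         · rw [card_map_of_injective (MulAut.conj g).injective]
       theta_le := fun t ht hto => CfsgLib.TwoGenCore.theta_le_W
         ((hB t).2 ⟨ht, by rw [← pow_two, ← hto, pow_orderOf_eq_one]⟩)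
         fun e => by rw [e, orderOf_one] at hto; norm_num at hto
       solvable := hC, nonab := hG }, rfl⟩
  letI := Fintype.ofFinite G
  have hel := P.elementary hFT
  have hn := P.index_le_of_elementary hFT hel
  have hW : P.W = ⊥ := by
    by_contra hne
    have := P.three_mul_lt_index hne
    omega
  have hcard := P.card_group hFT hel hW hn
  rw [hPS] at hcard
  have hq : ∃ r : ℕ, Nat.card ↥(S : Subgroup G) = 2 ^ r := IsPGroup.iff_card.1 S.isPGroup'
  have hq8 : 8 ≤ Nat.card ↥(S : Subgroup G) := hB8.trans (Nat.card_le_card_of_injective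
    (Subgroup.inclusion hBS) (Subgroup.inclusion_injective hBS))
  have hnc : ∃ a b : G, a * b ≠ b * a := by
    by_contra hno
    push Not at hno
    exact hG ⟨⟨hno⟩⟩
  rcases Cfsg.Agent.S0348.result hnc (fun t ht => P.isPGroup_centralizer hFT hel hW hn ht) with
    ⟨F, iF, iF', hF, ⟨e⟩⟩ | ⟨F, iF, iF', hF, ⟨e⟩⟩ | ⟨-, m, hm, hSz⟩
  · have he := Nat.card_congr e.toEquiv
    rw [hcard] at he
    rcases hF with h9 | ⟨n, hn2⟩ | ⟨hp, hk⟩
    · exfalso
      have h := two_mul_card_psl F (h9 ▸ (by decide))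
      rw [← he, h9] at h
      have h1 : 8 * 7 ≤ Nat.card ↥(S : Subgroup G) * (Nat.card ↥(S : Subgroup G) - 1) :=
        Nat.mul_le_mul hq8 (by omega)
      have := Nat.mul_le_mul (show 9 ≤ Nat.card ↥(S : Subgroup G) + 1 by omega) h1
      omega
    · refine ⟨F, iF, iF', Or.inr ⟨n, ?_, hn2⟩, ⟨e⟩⟩
      by_contra hlt
      have h1 := Fintype.one_lt_card (α := F)
      obtain rfl : n = 1 := by
        rcases Nat.eq_zero_or_pos n with h | h
        · subst h; omega
        · omega
      have h := CfsgLib.Classical.card_psl2 (F := F)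
      rw [hn2] at h
      norm_num at h
      rw [h] at he
      have h2 : 8 * 7 ≤ Nat.card ↥(S : Subgroup G) * (Nat.card ↥(S : Subgroup G) - 1) :=
        Nat.mul_le_mul hq8 (by omega)
      have := Nat.mul_le_mul (show 9 ≤ Nat.card ↥(S : Subgroup G) + 1 by omega) h2
      omega
    · rcases hp.eq_two_or_odd with h2 | hodd2
      · exfalso
        have h := CfsgLib.Classical.card_psl2 (F := F)
        rw [h2] at h
        norm_num at h
        rw [h] at he
        have h2 : 8 * 7 ≤ Nat.card ↥(S : Subgroup G) * (Nat.card ↥(S : Subgroup G) - 1) :=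
          Nat.mul_le_mul hq8 (by omega)
        have := Nat.mul_le_mul (show 9 ≤ Nat.card ↥(S : Subgroup G) + 1 by omega) h2
        omega
      · exact (ne_prime_psl hq hq8 hp hodd2 (by rw [← two_mul_card_psl F (Nat.odd_iff.2 hodd2), he])).elim
  · exfalso
    have he := Nat.card_congr e.toEquiv
    rw [hcard] at he
    have h := CfsgLib.Classical.card_psl_mul (F := F) (n := 3) (by norm_num)
    rw [hF, Fin.prod_univ_three] at h
    norm_num at h
    exact ne_twenty hq (by omega)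
  · exact (ne_suzuki hq ⟨2 * m + 1, by omega, rfl⟩ hq8 (hcard.symm.trans hSz)).elim

/-- The simple case, 2-rank at most two. -/
theorem simple_small {G : Type u} [Group G] [Finite G] [IsSimpleGroup G] (hG : ¬ IsMulCommutative G)
    (S : Sylow 2 G) (hcomm : ∀ a ∈ (S : Subgroup G), ∀ b ∈ (S : Subgroup G), a * b = b * a)
    (h8 : Nat.card {s : G // s ∈ (S : Subgroup G) ∧ s * s = 1} < 8) : IsTarget G := by
  haveI : Fact (Nat.Prime 2) := ⟨Nat.prime_two⟩
  have h2 : Cfsg.PRankLE 2 2 G := by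
    intro A hA hA2
    have hAp : IsPGroup 2 ↥A := fun x => ⟨1, Subtype.ext (by rw [SubgroupClass.coe_pow]; exact hA2 x x.2)⟩
    obtain ⟨g, hg⟩ := CfsgLib.Invol.exists_conj_le_sylow hAp S
    have hle : Nat.card ↥A ≤ Nat.card {s : G // s ∈ (S : Subgroup G) ∧ s * s = 1} :=
      Nat.card_le_card_of_injective (fun x => ⟨g * x * g⁻¹, hg x x.2, by
        rw [conj_mul, ← pow_two, hA2 x x.2]; group⟩) fun x y e =>
        Subtype.ext (mul_left_cancel (mul_right_cancel (congrArg Subtype.val e)))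
    obtain ⟨j, hj⟩ := IsPGroup.iff_card.1 hAp
    rw [hj] at hle ⊢
    refine Nat.pow_le_pow_right (by norm_num) ?_
    by_contra hlt
    have : 2 ^ 3 ≤ 2 ^ j := Nat.pow_le_pow_right (by norm_num) (by omega)
    omega
  letI : Fintype (GaloisField 2 4) := Fintype.ofFinite _
  have hK : Fintype.card (GaloisField 2 4) = 16 := by
    rw [← Nat.card_eq_fintype_card, GaloisField.card 2 4 (by norm_num)]; norm_num
  obtain ⟨Q⟩ := (inferInstance : Nonempty (Sylow 2 (Cfsg.PSU 3 (GaloisField 2 4) 4)))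
  have hcS : ∀ a b : ↥(S : Subgroup G), a * b = b * a := fun a b => Subtype.ext (hcomm a a.2 b b.2)
  rcases Cfsg.Agent.S0516.result hG h2 S hK Q with ⟨n, hn, ⟨e⟩⟩ | ⟨n, hn, -, x, y, hx, -, hxy⟩ |
    ⟨n, hn, -, x, y, z, hx, -, hint, -, hzx⟩ | ⟨⟨e⟩⟩
  · obtain rfl : n = 2 := by
      have h := congrArg e ((hcS (e.symm (DihedralGroup.r 1)) (e.symm (DihedralGroup.sr 0))))
      simp only [map_mul, MulEquiv.apply_symm_apply, DihedralGroup.r_mul_sr, DihedralGroup.sr_mul_r,
        DihedralGroup.sr.injEq, zero_sub, zero_add] at h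
      have h2 : ((2 : ℕ) : ZMod n) = 0 := by
        push_cast
        linear_combination -h
      have := Nat.le_of_dvd (by norm_num) ((CharP.cast_eq_zero_iff (ZMod n) n 2).1 h2)
      omega
    have h4 : Nat.card ↥(S : Subgroup G) = 4 := by rw [Nat.card_congr e.toEquiv, DihedralGroup.nat_card]
    haveI : Group.IsPerfect G := by
      refine ⟨?_⟩
      rcases IsSimpleGroup.eq_bot_or_eq_top_of_normal (commutator G) inferInstance with h | h
      · exact absurd ⟨⟨fun a b => commutatorElement_eq_one_iff_mul_comm.1 (Subgroup.mem_bot.1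
          (h ▸ Subgroup.commutator_mem_commutator (mem_top a) (mem_top b)))⟩⟩ hG
      · exact h
    have hcore : Cfsg.oddCore G = ⊥ := by
      rcases IsSimpleGroup.eq_bot_or_eq_top_of_normal (Cfsg.oddCore G) inferInstance with h | h
      · exact h
      · exfalso
        have h1 : 2 ∣ Nat.card ↥(Cfsg.oddCore G) := by
          rw [h, card_top]
          exact ((show 2 ∣ 4 by norm_num).trans (dvd_of_eq h4.symm)).trans (card_subgroup_dvd_card _)
        exact CfsgLib.Coprime.pPrimeCore_not_dvd Nat.prime_two h1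
    have hidx : Nat.card G = 4 * (S : Subgroup G).index := by rw [← h4, card_mul_index]
    have hiodd := S.not_dvd_index
    rcases Cfsg.Agent.S0483.result S 2 le_rfl ⟨e⟩ with ⟨F, iF, iF', hodd, h3, ⟨f⟩⟩ | ⟨⟨f⟩⟩
    · refine ⟨F, iF, iF', Or.inl ⟨?_, ?_⟩, ⟨(((QuotientGroup.quotientMulEquivOfEq hcore).trans
        QuotientGroup.quotientBot).symm).trans f⟩⟩
      · have he := Nat.card_congr ((((QuotientGroup.quotientMulEquivOfEq hcore).trans
          QuotientGroup.quotientBot).symm).trans f).toEquiv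
        have h := two_mul_card_psl F hodd
        rw [← he, hidx] at h
        obtain ⟨k, hk⟩ := hodd
        rw [hk] at h ⊢
        obtain ⟨i, hi⟩ : ∃ i, i = (S : Subgroup G).index := ⟨_, rfl⟩
        rw [← hi] at h hiodd
        rw [show 2 * k + 1 - 1 = 2 * k by omega] at h
        have h' : 2 * i = (2 * k + 1) * (k * (k + 1)) := by linarith
        rcases Nat.lt_or_ge ((2 * k + 1) % 8) 4 with hlt | hlt
        · by_contra hno
          have hk4 : k % 4 = 0 := by omega
          obtain ⟨j, rfl⟩ : 4 ∣ k := Nat.dvd_of_mod_eq_zero hk4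
          have : 2 * i = 4 * ((2 * (4 * j) + 1) * (j * (4 * j + 1))) := by linarith
          omega
        · by_contra hno
          have hk4 : k % 4 = 3 := by omega
          obtain ⟨j, rfl⟩ : ∃ j, k = 4 * j + 3 := ⟨k / 4, by omega⟩
          have : 2 * i = 4 * ((2 * (4 * j + 3) + 1) * ((4 * j + 3) * (j + 1))) := by linarith
          omega
      · obtain ⟨k, hk⟩ := hodd
        omega
    · exfalso
      have he := Nat.card_congr ((((QuotientGroup.quotientMulEquivOfEq hcore).trans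
        QuotientGroup.quotientBot).symm).trans f).toEquiv
      rw [hidx, nat_card_alternatingGroup, Nat.card_fin] at he
      have h5 : Nat.factorial 7 / 2 = 2520 := by decide
      rw [h5] at he
      omega
  · exfalso
    have h1 : x = x ^ (2 ^ (n - 1) - 1) := by rw [← hxy, hcS y x, mul_inv_cancel_right]
    have h4 : 4 ≤ 2 ^ (n - 1) := by
      have : 2 ^ 2 ≤ 2 ^ (n - 1) := Nat.pow_le_pow_right (by norm_num) (by omega)
      omega
    have h2' : x ^ (2 ^ (n - 1) - 2) = 1 := by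
      rw [show 2 ^ (n - 1) - 1 = 2 ^ (n - 1) - 2 + 1 by omega, pow_succ] at h1
      exact mul_eq_right.1 h1.symm
    have h3 := Nat.le_of_dvd (by omega) (hx ▸ orderOf_dvd_of_pow_eq_one h2')
    have : 2 ^ n = 2 * 2 ^ (n - 1) := by rw [← pow_succ', Nat.sub_add_cancel (by omega)]
    omega
  · exfalso
    rw [hcS z x, mul_inv_cancel_right] at hzx
    rw [← hzx, inf_idem, zpowers_eq_bot] at hint
    rw [hint, orderOf_one] at hx
    have := Nat.one_lt_two_pow (show n ≠ 0 by omega)
    omega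
  · exfalso
    obtain ⟨h64, h4, -⟩ := Cfsg.Agent.S1141.result (F := GaloisField 2 4) (n := 2) le_rfl
      (by rw [hK]; norm_num) Q
    have htop : Subgroup.center ↥(Q : Subgroup (Cfsg.PSU 3 (GaloisField 2 4) 4)) = ⊤ := by
      refine top_unique fun g _ => mem_center_iff.2 fun h => ?_
      apply e.symm.injective
      rw [map_mul, map_mul]
      exact hcS _ _
    have h64' : Nat.card ↥(Subgroup.center ↥(Q : Subgroup (Cfsg.PSU 3 (GaloisField 2 4) 4))) = 64 := by
      rw [htop, card_top]; exact h64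
    exact absurd (h64'.symm.trans h4) (by norm_num)

/-- The simple case. -/
theorem simple {G : Type u} [Group G] [Finite G] [IsSimpleGroup G] (hG : ¬ IsMulCommutative G)
    (S : Sylow 2 G) (hcomm : ∀ a ∈ (S : Subgroup G), ∀ b ∈ (S : Subgroup G), a * b = b * a)
    (hC : ∀ t : G, orderOf t = 2 → Group.IsSolvable ↥(centralizer ({t} : Set G))) : IsTarget G :=
  (le_or_gt 8 _).elim (simple_large hG S hcomm hC) (simple_small hG S hcomm)

section Reduction

variable {G : Type u} [Group G] [Finite G]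

/-- The centralizers of the involutions of the quotient by the odd core are solvable. -/
theorem solvable_centralizer_quotient
    (hC : ∀ t : G, orderOf t = 2 → Group.IsSolvable ↥(centralizer ({t} : Set G)))
    {τ : G ⧸ Cfsg.oddCore G} (hτ : orderOf τ = 2) : Group.IsSolvable ↥(centralizer ({τ} : Set _)) := by
  haveI : Fact (Nat.Prime 2) := ⟨Nat.prime_two⟩
  have hodd : ¬ 2 ∣ Nat.card ↥(Cfsg.oddCore G) := CfsgLib.Coprime.pPrimeCore_not_dvd Nat.prime_two
  obtain ⟨g, rfl⟩ := QuotientGroup.mk_surjective τ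
  obtain ⟨i, hi⟩ : Odd (Nat.card ↥(Cfsg.oddCore G)) := by
    rw [← Nat.not_even_iff_odd, even_iff_two_dvd]; exact hodd
  have hg1 : (g : G ⧸ Cfsg.oddCore G) ^ 2 = 1 := orderOf_dvd_iff_pow_eq_one.1 (dvd_of_eq hτ)
  have hg2 : g ^ 2 ∈ Cfsg.oddCore G := (QuotientGroup.eq_one_iff (g ^ 2)).1 (by
    rw [QuotientGroup.mk_pow]; exact hg1)
  obtain ⟨t, ht⟩ : ∃ t, t = g ^ Nat.card ↥(Cfsg.oddCore G) := ⟨_, rfl⟩
  have ht2 : t ^ 2 = 1 := by
    rw [ht, ← pow_mul, mul_comm, pow_mul]
    exact congrArg Subtype.val (pow_card_eq_one' (x := (⟨g ^ 2, hg2⟩ : ↥(Cfsg.oddCore G))))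
  have hmk : (t : G ⧸ Cfsg.oddCore G) = (g : G ⧸ Cfsg.oddCore G) := by
    rw [ht, QuotientGroup.mk_pow, hi, pow_succ, pow_mul, hg1, one_pow, one_mul]
  have hto : orderOf t = 2 := orderOf_eq_prime ht2 fun e => by
    rw [← hmk, e, QuotientGroup.mk_one, orderOf_one] at hτ
    norm_num at hτ
  rw [← hmk]
  haveI := hC t hto
  refine Group.isSolvable_of_surjective (f := ((QuotientGroup.mk' (Cfsg.oddCore G)).comp
    (centralizer ({t} : Set G)).subtype).codRestrict (centralizer ({(t : G ⧸ Cfsg.oddCore G)} : Set _))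
      fun c => mem_centralizer_singleton_iff.2 ?_) fun γ => ?_
  · show ((c : G) : G ⧸ Cfsg.oddCore G) * t = (t : G ⧸ Cfsg.oddCore G) * (c : G)
    rw [← QuotientGroup.mk_mul, ← QuotientGroup.mk_mul, mem_centralizer_singleton_iff.1 c.2]
  · obtain ⟨x, hx⟩ := QuotientGroup.mk_surjective (γ : G ⧸ Cfsg.oddCore G)
    have hmem : t⁻¹ * (x * t * x⁻¹) ∈ Cfsg.oddCore G := (QuotientGroup.eq_one_iff _).1 (by
      have h := mem_centralizer_singleton_iff.1 γ.2
      rw [← hx] at h
      simp only [QuotientGroup.mk_mul, QuotientGroup.mk_inv]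
      rw [h]; group)
    obtain ⟨a, ha, hae⟩ := CfsgLib.ElemEight.exists_conj_of_coset hodd hto (z := x * t * x⁻¹)
      (by rw [orderOf_cj, hto]) (by rwa [CfsgLib.Invol.invol_inv hto] at hmem)
    refine ⟨⟨a⁻¹ * x, mem_centralizer_singleton_iff.2 ?_⟩, Subtype.ext ?_⟩
    · calc a⁻¹ * x * t = a⁻¹ * (x * t * x⁻¹) * x := by group
        _ = a⁻¹ * (a * t * a⁻¹) * x := by rw [hae]
        _ = t * (a⁻¹ * x) := by group
    · show ((a⁻¹ * x : G) : G ⧸ Cfsg.oddCore G) = (γ : G ⧸ Cfsg.oddCore G)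
      rw [QuotientGroup.mk_mul, QuotientGroup.mk_inv, (QuotientGroup.eq_one_iff a).2 ha, inv_one, one_mul, hx]

/-- With trivial odd core, a solvable group or an almost simple one. -/
theorem core_free (hO : Cfsg.oddCore G = ⊥) (S : Sylow 2 G)
    (hcomm : ∀ a ∈ (S : Subgroup G), ∀ b ∈ (S : Subgroup G), a * b = b * a)
    (hC : ∀ t : G, orderOf t = 2 → Group.IsSolvable ↥(centralizer ({t} : Set G))) :
    Group.IsSolvable G ∨ ∃ N : Subgroup G, N.Normal ∧ IsTarget ↥N ∧ centralizer (N : Set G) = ⊥ := by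
  classical
  haveI : Fact (Nat.Prime 2) := ⟨Nat.prime_two⟩
  have hFT : CfsgLib.OddConseq.OddSolvable.{u} := oddSolvable
  refine or_iff_not_imp_left.2 fun hns => ?_
  -- no abelian normal subgroup
  have habel : ∀ K : Subgroup G, K.Normal → Group.IsSolvable ↥K → K = ⊥ := by
    intro K hK hKs
    by_contra hne
    haveI := hK
    haveI := hKs
    obtain ⟨A, hA, -, hAne, hAc⟩ := CfsgLib.GW.exists_abelian_normal (K := K) hne
    obtain ⟨R, hR⟩ : ∃ R : Subgroup G, ∀ x, x ∈ R ↔ x ∈ A ∧ x * x = 1 := by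
      refine ⟨{ carrier := {x | x ∈ A ∧ x * x = 1}, one_mem' := ⟨one_mem _, one_mul 1⟩,
                mul_mem' := ?_, inv_mem' := ?_ }, fun x => Iff.rfl⟩
      · rintro a b ⟨ha, ha'⟩ ⟨hb, hb'⟩
        exact ⟨mul_mem ha hb, by
          rw [mul_assoc, ← mul_assoc b, (hAc hb ha).eq, mul_assoc a b b, hb', mul_one, ha']⟩
      · rintro a ⟨ha, ha'⟩
        exact ⟨inv_mem ha, by rw [← mul_inv_rev, ha', inv_one]⟩
    haveI : R.Normal := ⟨fun x hx g => (hR _).2 ⟨hA.conj_mem x ((hR x).1 hx).1 g, by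
      rw [conj_mul, ((hR x).1 hx).2]; group⟩⟩
    have hA2 : 2 ∣ Nat.card ↥A := by
      by_contra h
      exact hAne (CfsgLib.HallNumbers.no_odd_normal hO A hA
        (Nat.not_even_iff_odd.1 fun he => h (even_iff_two_dvd.1 he)))
    obtain ⟨z, hz⟩ := exists_prime_orderOf_dvd_card' (G := ↥A) 2 hA2
    rw [← Subgroup.orderOf_coe] at hz
    have hzR : (z : G) ∈ R := (hR _).2 ⟨z.2, by rw [← pow_two, ← hz, pow_orderOf_eq_one]⟩
    have hRS : R ≤ (S : Subgroup G) := IsPGroup.le_sylow_of_normal (fun x => ⟨1, Subtype.ext (by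
      rw [SubgroupClass.coe_pow, pow_one, pow_two]; exact ((hR x).1 x.2).2)⟩) S
    obtain ⟨C, hCdef⟩ : ∃ C, C = centralizer (R : Set G) := ⟨_, rfl⟩
    haveI : C.Normal := by rw [hCdef]; infer_instance
    have hSC : (S : Subgroup G) ≤ C := fun s hs => hCdef ▸ mem_centralizer_iff.2 fun r hr => hcomm r (hRS hr) s hs
    have hCle : C ≤ centralizer ({(z : G)} : Set G) :=
      hCdef ▸ centralizer_le (Set.singleton_subset_iff.2 hzR)
    haveI := hC _ hz
    haveI : Group.IsSolvable ↥C := Group.isSolvable_of_isSolvable_injective (inclusion_injective hCle)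
    haveI : Group.IsSolvable (G ⧸ C) := hFT _ (by
      rw [← index_eq_card, ← Nat.not_even_iff_odd, even_iff_two_dvd]
      exact fun h => S.not_dvd_index (h.trans (index_dvd_of_le hSC)))
    exact hns (Group.isSolvable_of_ker_le_range C.subtype (QuotientGroup.mk' C)
      (by rw [QuotientGroup.ker_mk', range_subtype]))
  -- a minimal normal subgroup
  haveI : Nontrivial G := by
    by_contra h
    rw [not_nontrivial_iff_subsingleton] at h
    exact hns inferInstance
  obtain ⟨N, hN, hmin⟩ := Set.Finite.exists_minimal (Set.toFinite {A : Subgroup G | A.Normal ∧ A ≠ ⊥})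
    ⟨⊤, inferInstance, top_ne_bot⟩
  obtain ⟨hNn, hNne⟩ := hN
  haveI := hNn
  have hNns : ¬ Group.IsSolvable ↥N := fun h => hNne (habel N hNn h)
  have hN2 : 2 ∣ Nat.card ↥N := by
    by_contra h
    exact hNns (hFT.subgroup (Nat.not_even_iff_odd.1 fun he => h (even_iff_two_dvd.1 he)))
  obtain ⟨z, hz⟩ := exists_prime_orderOf_dvd_card' (G := ↥N) 2 hN2
  rw [← Subgroup.orderOf_coe] at hz
  -- solvable normal subgroups of `N`
  have hrad : ∀ L : Subgroup ↥N, L.Normal → Group.IsSolvable ↥L → L = ⊥ := by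
    intro L hL hLs
    haveI := hL
    obtain ⟨R, hR⟩ : ∃ R : Subgroup ↥N, R = sSup {J : Subgroup ↥N | J.Normal ∧ Group.IsSolvable ↥J} := ⟨_, rfl⟩
    haveI hRs : Group.IsSolvable ↥R := hR ▸ CfsgLib.Spor.Tri.isSolvable_sSup_normal fun J hJ => hJ
    have hmap : ∀ g : G, R.map (MulAut.conjNormal g : ↥N ≃* ↥N).toMonoidHom ≤ R := fun g => by
      rw [map_le_iff_le_comap]
      nth_rewrite 1 [hR]
      refine sSup_le fun J hJ => map_le_iff_le_comap.1 ?_
      rw [hR]
      refine le_sSup ⟨Subgroup.Normal.map hJ.1 _ (MulAut.conjNormal g : ↥N ≃* ↥N).surjective, ?_⟩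
      haveI := hJ.2
      exact Group.isSolvable_of_surjective
        (f := (J.equivMapOfInjective _ (MulAut.conjNormal g : ↥N ≃* ↥N).injective).toMonoidHom)
        (MulEquiv.surjective _)
    haveI : (R.map N.subtype).Normal := ⟨fun x hx g => by
      obtain ⟨y, hy, rfl⟩ := hx
      exact ⟨MulAut.conjNormal g y, hmap g (mem_map_of_mem _ hy), MulAut.conjNormal_apply g y⟩⟩
    have h := habel (R.map N.subtype) inferInstance
      (Group.isSolvable_of_surjective
        (f := (R.equivMapOfInjective _ N.subtype_injective).toMonoidHom) (MulEquiv.surjective _))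
    exact le_bot_iff.1 ((hR.symm ▸ le_sSup ⟨hL, hLs⟩ : L ≤ R).trans
      (le_of_eq ((Subgroup.map_eq_bot_iff_of_injective _ N.subtype_injective).1 h)))
  -- `N` is simple
  haveI : Nontrivial ↥N := (nontrivial_iff_ne_bot N).2 hNne
  haveI : IsSimpleGroup ↥N := by
    refine ⟨fun M hM => ?_⟩
    by_contra hno
    rw [not_or] at hno
    obtain ⟨K, hK, hKmin⟩ := Set.Finite.exists_minimal
      (Set.toFinite {A : Subgroup ↥N | A.Normal ∧ A ≠ ⊥ ∧ A ≤ M}) ⟨M, hM, hno.1, le_rfl⟩
    obtain ⟨hKn, hKne, hKM⟩ := hK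
    haveI := hKn
    have hKns : ¬ Group.IsSolvable ↥K := fun h => hKne (hrad K hKn h)
    have hK2 : 2 ∣ Nat.card ↥K := by
      by_contra h
      exact hKns (hFT.subgroup (Nat.not_even_iff_odd.1 fun he => h (even_iff_two_dvd.1 he)))
    obtain ⟨w, hw⟩ := exists_prime_orderOf_dvd_card' (G := ↥K) 2 hK2
    have hfix : ∀ g : G, K.map (MulAut.conjNormal g : ↥N ≃* ↥N).toMonoidHom = K := by
      intro g
      obtain ⟨K', hK'⟩ : ∃ K', K' = K.map (MulAut.conjNormal g : ↥N ≃* ↥N).toMonoidHom := ⟨_, rfl⟩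
      haveI : K'.Normal := hK' ▸ Subgroup.Normal.map hKn _ (MulAut.conjNormal g : ↥N ≃* ↥N).surjective
      rw [← hK']
      have hK'ne : K' ≠ ⊥ := fun h => hKne
        ((Subgroup.map_eq_bot_iff_of_injective _ (MulAut.conjNormal g : ↥N ≃* ↥N).injective).1 (hK' ▸ h))
      by_contra hne
      have hinf : K ⊓ K' = ⊥ := by
        by_contra h
        have h1 : K ≤ K ⊓ K' := hKmin ⟨inferInstance, h, inf_le_left.trans hKM⟩ inf_le_left
        have h2 : K ≤ K' := h1.trans inf_le_right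
        exact hne (Subgroup.eq_of_le_of_card_ge h2 (le_of_eq
          (hK' ▸ (Nat.card_congr (K.equivMapOfInjective _ (MulAut.conjNormal g : ↥N ≃* ↥N).injective).toEquiv).symm))).symm
      have hcom := commute_of_normal_of_disjoint K K' hKn inferInstance (disjoint_iff.2 hinf)
      have hwo : orderOf ((w : ↥N) : G) = 2 := by rw [Subgroup.orderOf_coe, Subgroup.orderOf_coe, hw]
      haveI := hC _ hwo
      have hle : K'.map N.subtype ≤ centralizer ({((w : ↥N) : G)} : Set G) := by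
        rintro _ ⟨y, hy, rfl⟩
        exact mem_centralizer_singleton_iff.2 (congrArg Subtype.val (hcom (w : ↥N) y w.2 hy).eq).symm
      haveI : Group.IsSolvable ↥(K'.map N.subtype) :=
        Group.isSolvable_of_isSolvable_injective (inclusion_injective hle)
      exact hK'ne (hrad K' inferInstance (Group.isSolvable_of_surjective
        (f := (K'.equivMapOfInjective _ N.subtype_injective).symm.toMonoidHom) (MulEquiv.surjective _)))
    haveI : (K.map N.subtype).Normal := ⟨fun x hx g => by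
      obtain ⟨y, hy, rfl⟩ := hx
      exact ⟨MulAut.conjNormal g y, by
        rw [SetLike.mem_coe, ← hfix g]; exact mem_map_of_mem _ hy, MulAut.conjNormal_apply g y⟩⟩
    have hKN : N ≤ K.map N.subtype := hmin ⟨inferInstance, fun h => hKne
      ((Subgroup.map_eq_bot_iff_of_injective _ N.subtype_injective).1 h)⟩ (map_subtype_le _)
    refine hno.2 (top_unique fun y _ => hKM ?_)
    obtain ⟨y', hy', e⟩ := hKN y.2
    rwa [← Subtype.ext e]
  have hnab : ¬ IsMulCommutative ↥N := fun h => hNns (by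
    haveI := h
    exact Group.isSolvable_of_comm fun a b => h.is_comm.comm a b)
  have hcent : centralizer (N : Set G) = ⊥ := by
    haveI := hC _ hz
    refine habel _ inferInstance ?_
    exact Group.isSolvable_of_isSolvable_injective (inclusion_injective
      (show centralizer (N : Set G) ≤ centralizer ({(z : G)} : Set G) from
        centralizer_le (Set.singleton_subset_iff.2 z.2)))
  obtain ⟨T⟩ := (inferInstance : Nonempty (Sylow 2 ↥N))
  obtain ⟨g, hg⟩ := CfsgLib.Invol.exists_conj_le_sylow (T.isPGroup'.map N.subtype) S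
  refine ⟨N, hNn, simple hnab T (fun a ha b hb => ?_) (fun t ht => ?_), hcent⟩
  · have h := hcomm _ (hg _ ⟨a, ha, rfl⟩) _ (hg _ ⟨b, hb, rfl⟩)
    rw [conj_mul, conj_mul] at h
    exact Subtype.ext (mul_left_cancel (mul_right_cancel h))
  · haveI := hC (t : G) (by rw [Subgroup.orderOf_coe, ht])
    refine Group.isSolvable_of_isSolvable_injective (f := (N.subtype.comp
      (centralizer ({t} : Set ↥N)).subtype).codRestrict (centralizer ({(t : G)} : Set G))
        fun y => mem_centralizer_singleton_iff.2 (congrArg Subtype.val (mem_centralizer_singleton_iff.1 y.2)))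
      fun x y h => ?_
    exact Subtype.ext (Subtype.ext (congrArg (fun v : ↥(centralizer ({(t : G)} : Set G)) => (v : G)) h))

/-- The theorem. -/
theorem main (S : Sylow 2 G) (hcomm : ∀ a ∈ (S : Subgroup G), ∀ b ∈ (S : Subgroup G), a * b = b * a)
    (hC : ∀ t : G, orderOf t = 2 → Group.IsSolvable ↥(centralizer ({t} : Set G))) :
    Group.IsSolvable G ∨ ∃ N : Subgroup (G ⧸ Cfsg.oddCore G), N.Normal ∧ IsTarget ↥N ∧
      centralizer (N : Set (G ⧸ Cfsg.oddCore G)) = ⊥ := by
  haveI : Fact (Nat.Prime 2) := ⟨Nat.prime_two⟩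
  have hsurj : Function.Surjective (QuotientGroup.mk' (Cfsg.oddCore G)) := QuotientGroup.mk'_surjective _
  rcases core_free (G := G ⧸ Cfsg.oddCore G) CfsgLib.HallNumbers.oddCore_eq_bot_quotient
      (S.mapSurjective hsurj) (fun a ha b hb => by
        rw [Sylow.coe_mapSurjective] at ha hb
        obtain ⟨x, hx, rfl⟩ := ha
        obtain ⟨y, hy, rfl⟩ := hb
        rw [← map_mul, ← map_mul, hcomm x hx y hy])
      (fun τ hτ => solvable_centralizer_quotient hC hτ) with h | h
  · left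
    haveI : Group.IsSolvable ↥(Cfsg.oddCore G) := oddSolvable.subgroup (Nat.not_even_iff_odd.1 fun he =>
      CfsgLib.Coprime.pPrimeCore_not_dvd Nat.prime_two (even_iff_two_dvd.1 he))
    exact Group.isSolvable_of_ker_le_range (Cfsg.oddCore G).subtype (QuotientGroup.mk' (Cfsg.oddCore G))
      (by rw [QuotientGroup.ker_mk', range_subtype])
  · exact Or.inr h

end Reduction

end CfsgLib.AbelianSolv
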