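import Cfsg.Agent.Lib.OddConseq.ElemEight.CorePoints
import Cfsg.Agent.Lib.Block.FreeElementary.Indicator

/-!
# Sums over sections of involutions and over cosets of an odd normal subgroup
-/

set_option autoImplicit false
set_option linter.unusedSectionVars false
set_option linter.style.haveILetI false

open Finset
open scoped ComplexConjugate

namespace CfsgLib.AbelianSolv

open Cfsg CfsgLib.Block
open CfsgLib.ElemEight (card_sup_mul)

universe u

variable {H : Type u} [Group H] [Fintype H]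

open scoped Classical

/-- The elements of even order with square of odd order are the products of an involution and an
element of odd order of its centralizer. -/
theorem sum_part_involution (f : H → ℂ) :
    ∑ g ∈ univ.filter (fun g : H => 2 ∣ orderOf g ∧ ¬ 2 ∣ orderOf (g * g)), f g =
      ∑ u ∈ univ.filter (fun u : H => orderOf u = 2),
        ∑ y ∈ univ.filter (fun y : H => Commute u y ∧ ¬ 2 ∣ orderOf y), f (u * y) := by
  rw [sum_sigma']
  symm
  have hpart : ∀ u y : H, orderOf u = 2 → Commute u y → ¬ 2 ∣ orderOf y → IsPPart 2 (u * y) u :=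
    fun u y hu hc hy => ⟨y, rfl, hc, ⟨1, by rw [hu, pow_one]⟩, hy⟩
  refine sum_bij (fun p _ => p.1 * p.2) (fun p hp => ?_) (fun p hp p' hp' e => ?_) (fun g hg => ?_)
    (fun _ _ => rfl)
  · simp only [mem_sigma, mem_filter, mem_univ, true_and] at hp ⊢
    obtain ⟨hu, hc, hy⟩ := hp
    refine ⟨?_, fun h => hy ?_⟩
    · rw [hc.orderOf_mul_eq_mul_orderOf_of_coprime (by
        rw [hu]; exact Nat.prime_two.coprime_iff_not_dvd.2 hy), hu]
      exact dvd_mul_right _ _
    · have e : p.1 * p.2 * (p.1 * p.2) = p.2 ^ 2 := by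
        rw [← pow_two, hc.mul_pow, show p.1 ^ 2 = 1 by rw [← hu, pow_orderOf_eq_one], one_mul]
      rw [e] at h
      exact h.trans (orderOf_pow_dvd 2)
  · simp only [mem_sigma, mem_filter, mem_univ, true_and] at hp hp'
    have e' : p.1 * p.2 = p'.1 * p'.2 := e
    have h1 := isPPart_unique Nat.prime_two (e' ▸ hpart _ _ hp.1 hp.2.1 hp.2.2)
      (hpart _ _ hp'.1 hp'.2.1 hp'.2.2)
    obtain ⟨a, b⟩ := p
    obtain ⟨a', b'⟩ := p'
    obtain rfl : a = a' := h1
    obtain rfl : b = b' := mul_left_cancel (a := a) e'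
    rfl
  · simp only [mem_filter, mem_univ, true_and] at hg
    obtain ⟨hg2, hgg⟩ := hg
    obtain ⟨m, hm⟩ := hg2
    have hpos := orderOf_pos g
    have hgg' : orderOf (g * g) = m := by
      rw [← pow_two, orderOf_pow' g (by norm_num), hm, Nat.gcd_eq_right (Dvd.intro m rfl),
        Nat.mul_div_cancel_left _ (by norm_num)]
    rw [hgg'] at hgg
    obtain ⟨j, rfl⟩ : ∃ j, m = 2 * j + 1 := ⟨m / 2, by omega⟩
    refine ⟨⟨g ^ (2 * j + 1), g ^ (2 * j + 2)⟩, ?_, ?_⟩
    · simp only [mem_sigma, mem_filter, mem_univ, true_and]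
      refine ⟨?_, Commute.pow_pow_self g _ _, fun h => ?_⟩
      · rw [orderOf_pow' g (by omega), hm, Nat.gcd_eq_right (Dvd.intro_left 2 rfl),
          Nat.mul_div_cancel _ (by omega)]
      · have hd : orderOf (g ^ (2 * j + 2)) ∣ 2 * j + 1 := by
          refine orderOf_dvd_of_pow_eq_one ?_
          rw [← pow_mul, show (2 * j + 2) * (2 * j + 1) = orderOf g * (j + 1) by rw [hm]; ring, pow_mul,
            pow_orderOf_eq_one, one_pow]
        have := h.trans hd
        omega
    · show g ^ (2 * j + 1) * g ^ (2 * j + 2) = g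
      rw [← pow_add, show 2 * j + 1 + (2 * j + 2) = orderOf g + 1 by omega, pow_succ,
        pow_orderOf_eq_one, one_mul]

/-- An element of odd order times an element of an odd subgroup it normalizes has odd order. -/
theorem odd_mul_mem {N : Subgroup H} (hN : ¬ 2 ∣ Nat.card ↥N) {a n : H}
    (ha : a ∈ Subgroup.normalizer (N : Set H)) (hao : ¬ 2 ∣ orderOf a) (hn : n ∈ N) :
    ¬ 2 ∣ orderOf (a * n) := by
  intro h
  have hA : Subgroup.zpowers a ≤ Subgroup.normalizer (N : Set H) := Subgroup.zpowers_le.2 ha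
  have h1 := card_sup_mul hA
  have h2 : orderOf (a * n) ∣ Nat.card ↥(Subgroup.zpowers a ⊔ N) :=
    Subgroup.orderOf_dvd_natCard _ (Subgroup.mul_mem_sup (Subgroup.mem_zpowers a) hn)
  have h3 : 2 ∣ Nat.card ↥(Subgroup.zpowers a) * Nat.card ↥N :=
    h1 ▸ dvd_mul_of_dvd_left (h.trans h2) _
  rw [Nat.card_zpowers] at h3
  exact (Nat.prime_two.dvd_mul.1 h3).elim hao hN

/-- The sum of a class function over a coset of an odd subgroup is a multiple of the sum over the
elements with a fixed 2-part. -/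
theorem sum_coset_part {V : Subgroup H} {y z : H} (hy : y ∈ Subgroup.normalizer (V : Set H))
    (hpart : ∀ n ∈ V, Commute n z → IsPPart 2 (y * n) z) {F : H → ℂ} (hF : IsClassFunction H F) :
    ((univ.filter (fun n : H => n ∈ V ∧ Commute n z)).card : ℂ) *
        ∑ v ∈ univ.filter (· ∈ V), F (y * v) =
      (Nat.card ↥V : ℂ) * ∑ n ∈ univ.filter (fun n : H => n ∈ V ∧ Commute n z), F (y * n) := by
  set C := univ.filter (fun n : H => n ∈ V ∧ Commute n z) with hC
  set U := univ.filter (fun v : H => v ∈ V) with hU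
  have hmemC : ∀ {n}, n ∈ C ↔ n ∈ V ∧ Commute n z := fun {n} => by simp [hC]
  have hmemU : ∀ {n}, n ∈ U ↔ n ∈ V := fun {n} => by simp [hU]
  set θ : H × H → H := fun p => y⁻¹ * (p.1 * (y * p.2) * p.1⁻¹) with hθ
  have hmaps : ∀ p ∈ U ×ˢ C, θ p ∈ U := by
    intro p hp
    obtain ⟨hv, hn⟩ := mem_product.1 hp
    refine hmemU.2 ?_
    have := (Subgroup.mem_normalizer_iff.1 (inv_mem hy) p.1).1 (hmemU.1 hv)
    rw [inv_inv] at this
    simp only [hθ]
    rw [show y⁻¹ * (p.1 * (y * p.2) * p.1⁻¹) = y⁻¹ * p.1 * y * p.2 * p.1⁻¹ by group]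
    exact mul_mem (mul_mem this (hmemC.1 hn).1) (inv_mem (hmemU.1 hv))
  have hle : ∀ b ∈ U, ((U ×ˢ C).filter fun p => θ p = b).card ≤ C.card := by
    intro b _
    rcases ((U ×ˢ C).filter fun p => θ p = b).eq_empty_or_nonempty with h | ⟨⟨v0, n0⟩, h0⟩
    · rw [h]; exact Nat.zero_le _
    obtain ⟨h0m, h0e⟩ := mem_filter.1 h0
    obtain ⟨hv0, hn0⟩ := mem_product.1 h0m
    have key : ∀ v n, (v, n) ∈ (U ×ˢ C).filter (fun p => θ p = b) →
        v * (y * n) * v⁻¹ = v0 * (y * n0) * v0⁻¹ ∧ v0⁻¹ * v ∈ C := by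
      intro v n hp
      obtain ⟨hm, he⟩ := mem_filter.1 hp
      obtain ⟨hv, hn⟩ := mem_product.1 hm
      have e : v * (y * n) * v⁻¹ = v0 * (y * n0) * v0⁻¹ := mul_left_cancel (he.trans h0e.symm)
      refine ⟨e, hmemC.2 ⟨mul_mem (inv_mem (hmemU.1 hv0)) (hmemU.1 hv), ?_⟩⟩
      have h1 := CfsgLib.Block.isPPart_conj (hpart n (hmemC.1 hn).1 (hmemC.1 hn).2) v
      rw [e] at h1
      have h2 := isPPart_unique Nat.prime_two h1
        (CfsgLib.Block.isPPart_conj (hpart n0 (hmemC.1 hn0).1 (hmemC.1 hn0).2) v0)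
      show v0⁻¹ * v * z = z * (v0⁻¹ * v)
      calc v0⁻¹ * v * z = v0⁻¹ * (v * z * v⁻¹) * v := by group
        _ = v0⁻¹ * (v0 * z * v0⁻¹) * v := by rw [h2]
        _ = z * (v0⁻¹ * v) := by group
    refine card_le_card_of_injOn (fun p => v0⁻¹ * p.1) (fun p hp => (key p.1 p.2 hp).2) ?_
    rintro ⟨v, n⟩ hp ⟨v', n'⟩ hp' e
    obtain rfl : v = v' := mul_left_cancel (e : v0⁻¹ * v = v0⁻¹ * v')
    have e2 := (key v n hp).1.trans (key v n' hp').1.symm
    exact Prod.ext rfl (mul_left_cancel (mul_left_cancel (mul_right_cancel e2)))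
  have heq : ∀ b ∈ U, ((U ×ˢ C).filter fun p => θ p = b).card = C.card := by
    refine (sum_eq_sum_iff_of_le hle).1 ?_
    rw [← card_eq_sum_card_fiberwise (s := U ×ˢ C) (t := U) (f := θ) hmaps, sum_const, smul_eq_mul,
      card_product]
  have h1 : ∑ p ∈ U ×ˢ C, F (p.1 * (y * p.2) * p.1⁻¹) = (Nat.card ↥V : ℂ) * ∑ n ∈ C, F (y * n) := by
    rw [sum_product, sum_congr rfl (g := fun _ => ∑ n ∈ C, F (y * n)) fun v _ =>
      sum_congr rfl fun n _ => hF _ _, sum_const, nsmul_eq_mul, Nat.card_eq_fintype_card,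
      Fintype.card_subtype]
  rw [← h1, ← sum_fiberwise_of_maps_to hmaps, mul_sum]
  refine sum_congr rfl fun b hb => ?_
  rw [sum_congr rfl (g := fun _ => F (y * b)) fun p hp => by
      rw [← (mem_filter.1 hp).2, hθ]; congr 1; group,
    sum_const, heq b hb, nsmul_eq_mul]

end CfsgLib.AbelianSolv
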