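import Cfsg.Agent.Lib.OddConseq.AbelianSolv.Quot
import Cfsg.Agent.Lib.OddConseq.AbelianSolv.Sums
import Cfsg.Agent.Lib.OddConseq.ElemEight.CoreBlock

/-!
# The principal block on the cosets of `W` outside the regular elements
-/

set_option autoImplicit false
set_option linter.unusedSectionVars false
set_option linter.style.haveILetI false

open Finset
open scoped ComplexConjugate

namespace CfsgLib.AbelianSolv

open Cfsg CfsgLib.Block CfsgLib.Block.Cyclic
open CfsgLib.ElemEight (clean_of_solvable)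
open CfsgLib.ElemEight.CoreBlock (blockCoeff_eq core_le)

universe u

variable {G : Type u} [Group G] [Fintype G] {I : Ideal AlgInt} [I.IsMaximal]

open scoped Classical

/-- A character outside the principal block sums to zero over a coset of the core in the section
of an involution. -/
theorem sum_theta_eq_zero (hI : IsPModular 2 I) {t : G} (ht : orderOf t = 2)
    (hclean : CfsgLib.ElemEight.CoreBlock.Clean t) {χ : IrrCharacter G} (hχ : χ ∉ principalBlock I G)
    {g z : G} (hgC : g ∈ Subgroup.centralizer ({t} : Set G)) (hg : IsPPart 2 g z)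
    (hz : ∀ x, Commute x z → x ∈ Subgroup.centralizer ({t} : Set G)) :
    ∑ n ∈ univ.filter (· ∈ Cfsg.centralizerPPrimeCore 2 t), (χ : G → ℂ) (g * n) = 0 := by
  haveI : Fact (Nat.Prime 2) := ⟨Nat.prime_two⟩
  haveI := CfsgLib.Coprime.pPrimeCore_characteristic (G := ↥(Subgroup.centralizer ({t} : Set G))) 2
  letI := Fintype.ofFinite (IrrCharacter ↥(Subgroup.centralizer ({t} : Set G)))
  have hodd := CfsgLib.Coprime.pPrimeCore_not_dvd (G := ↥(Subgroup.centralizer ({t} : Set G))) Nat.prime_two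
  have h := CfsgLib.Invol.blockPart_restrict_eq_zero hI (x := t) ⟨1, by rw [ht, pow_one]⟩
    (fun x => Subgroup.mem_centralizer_singleton_iff) hχ (h := ⟨g, hgC⟩) (z := z) hg hz
  rw [blockPart_eq_sum _ (fun a v => by
    simp only [Subgroup.coe_mul, InvMemClass.coe_inv]; exact Char.isClassFunction_irr χ (a : G) (v : G))] at h
  haveI : (Cfsg.pCore 2 (↥(Subgroup.centralizer ({t} : Set G)) ⧸ Cfsg.oddCore ↥(Subgroup.centralizer ({t} : Set G)))).Normal := CfsgLib.Coprime.pCore_normal' 2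
  have hco : ∀ c : ↥(Subgroup.centralizer ({t} : Set G)), blockCoeff (principalBlock I ↥(Subgroup.centralizer ({t} : Set G))) c =
      if c ∈ Cfsg.pPrimeCore 2 ↥(Subgroup.centralizer ({t} : Set G)) then (Nat.card ↥(Cfsg.pPrimeCore 2 ↥(Subgroup.centralizer ({t} : Set G))) : ℂ)⁻¹ else 0 := fun c =>
    blockCoeff_eq _ hI hodd (fun θ _ _ => OneBlock.mem_principal_of_constrained hI
      (CfsgLib.Coprime.pCore_isPGroup 2) hclean θ) c
  simp only [hco, ite_mul, zero_mul, Subgroup.coe_mul] at h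
  rw [← Finset.sum_filter, ← Finset.mul_sum, mul_eq_zero] at h
  rcases h with h | h
  · exact absurd h (inv_ne_zero (Nat.cast_ne_zero.2 Nat.card_pos.ne'))
  rw [← h]
  refine Finset.sum_bij' (fun n hn => (⟨n, core_le (mem_filter.1 hn).2⟩ : ↥(Subgroup.centralizer ({t} : Set G))))
    (fun c _ => (c : G)) (fun n hn => ?_) (fun c hc => ?_) (fun _ _ => rfl) (fun _ _ => rfl) (fun n _ => ?_)
  · refine Finset.mem_filter.2 ⟨Finset.mem_univ _, ?_⟩
    obtain ⟨c, hc, e⟩ := (mem_filter.1 hn).2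
    rwa [show (⟨n, core_le (mem_filter.1 hn).2⟩ : ↥(Subgroup.centralizer ({t} : Set G))) = c from Subtype.ext e.symm]
  · exact mem_filter.2 ⟨mem_univ _, c, (mem_filter.1 hc).2, rfl⟩
  · exact Char.classFun_mul_comm (Char.isClassFunction_irr χ) _ _

namespace Setup

variable (P : Setup G)

theorem mul_even {y w : G} (hy : y ∈ P.M) (hy2 : 2 ∣ orderOf y) (hw : w ∈ P.W) :
    2 ∣ orderOf (y * w) := by
  rw [← (P.even_proj ⟨y * w, mul_mem hy (P.W_le_M hw)⟩)]
  rw [← (P.even_proj ⟨y, hy⟩)] at hy2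
  rwa [show P.proj ⟨y * w, mul_mem hy (P.W_le_M hw)⟩ = P.proj ⟨y, hy⟩ from
    (P.proj_eq.2 (show y⁻¹ * (y * w) ∈ P.W by rwa [inv_mul_cancel_left])).symm]

/-- The two statements on a coset, in summed form. -/
theorem sum_coset (hI : IsPModular 2 I) (χ : IrrCharacter G) {y : G} (hy : y ∈ P.M)
    (hy2 : 2 ∣ orderOf y) :
    ∑ w ∈ univ.filter (· ∈ P.W), (χ : G → ℂ) (y * w) =
      if χ ∈ principalBlock I G then (Nat.card ↥P.W : ℂ) * (χ : G → ℂ) y else 0 := by
  haveI : Fact (Nat.Prime 2) := ⟨Nat.prime_two⟩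
  obtain ⟨z, hz⟩ := exists_isPPart Nat.prime_two y
  obtain ⟨y0, hy0, hzy0, ⟨k, hk⟩, hy0o⟩ := id hz
  have hzy : Commute z y := by rw [← hy0]; exact (Commute.refl z).mul_right hzy0
  have hz1 : k ≠ 0 := fun e => by
    rw [e, pow_zero, orderOf_eq_one_iff] at hk
    rw [hk, one_mul] at hy0
    exact hy0o (hy0 ▸ hy2)
  obtain ⟨i, hi⟩ := exists_invol_pow (g := z) (hk ▸ dvd_pow_self 2 hz1)
  obtain ⟨j, hj⟩ := exists_invol_pow hy2
  have hyjC : y ∈ Subgroup.centralizer ({y ^ j} : Set G) :=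
    Subgroup.mem_centralizer_singleton_iff.2 ((Commute.refl y).pow_right j).eq
  have hzM : z ∈ P.M := P.centralizer_le_M (pow_mem hy j) hj
    (Subgroup.mem_centralizer_singleton_iff.2 (hzy.pow_right j).eq)
  obtain ⟨s, hs⟩ : ∃ s, s = z ^ i := ⟨_, rfl⟩
  rw [← hs] at hi
  have hsM : s ∈ P.M := hs ▸ pow_mem hzM i
  have hzs : ∀ x, Commute x z → x ∈ Subgroup.centralizer ({s} : Set G) := fun x hx =>
    Subgroup.mem_centralizer_singleton_iff.2 (hs ▸ (hx.pow_right i)).eq
  have hCzM : ∀ x, Commute x z → x ∈ P.M := fun x hx => P.centralizer_le_M hsM hi (hzs x hx)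
  have hθ := P.inf_centralizer hsM hi
  have hpart : ∀ n ∈ P.W, Commute n z → IsPPart 2 (y * n) z := fun n hn hnz =>
    ⟨y0 * n, by rw [← mul_assoc, hy0], hzy0.mul_right hnz.symm, ⟨k, hk⟩,
      odd_mul_mem P.odd (P.M_le_NW (hCzM _ hzy0.symm)) hy0o hn⟩
  have hF : IsClassFunction G (χ : G → ℂ) := Char.isClassFunction_irr χ
  have hsum := sum_coset_part (P.M_le_NW hy) hpart hF
  obtain ⟨C, hC⟩ : ∃ C, C = univ.filter (fun n : G => n ∈ P.W ∧ Commute n z) := ⟨_, rfl⟩
  rw [← hC] at hsum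
  have hCpos : (C.card : ℂ) ≠ 0 := Nat.cast_ne_zero.2 (Finset.card_pos.2
    ⟨1, hC ▸ mem_filter.2 ⟨mem_univ _, one_mem _, Commute.one_left z⟩⟩).ne'
  refine mul_left_cancel₀ hCpos (hsum.trans ?_)
  split_ifs with hχ
  · haveI : ((P.W ⊓ Subgroup.centralizer ({z} : Set G)).subgroupOf (Subgroup.centralizer ({z} : Set G))).Normal :=
      ⟨fun w hw g => Subgroup.mem_subgroupOf.2 (Subgroup.mem_inf.2 ⟨P.conj_W
        (hCzM _ (Subgroup.mem_centralizer_singleton_iff.1 g.2))
        (Subgroup.mem_inf.1 (Subgroup.mem_subgroupOf.1 hw)).1, (g * w * g⁻¹).2⟩)⟩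
    letI := Fintype.ofFinite (IrrCharacter ↥(Subgroup.centralizer ({z} : Set G)))
    rw [sum_congr rfl (g := fun _ => (χ : G → ℂ) y) fun n hn => ?_, sum_const, nsmul_eq_mul]
    · ring
    obtain ⟨hnW, hnz⟩ := (mem_filter.1 (hC ▸ hn)).2
    have hnC : n ∈ Subgroup.centralizer ({z} : Set G) := Subgroup.mem_centralizer_singleton_iff.2 hnz.eq
    have hy0C : y0 ∈ Subgroup.centralizer ({z} : Set G) :=
      Subgroup.mem_centralizer_singleton_iff.2 hzy0.symm.eq
    have h := CfsgLib.Invol.irr_secElt_mul hI (x := z) ⟨k, hk⟩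
      (fun x => Subgroup.mem_centralizer_singleton_iff) hχ
      ((P.W ⊓ Subgroup.centralizer ({z} : Set G)).subgroupOf (Subgroup.centralizer ({z} : Set G)))
      (fun hd => P.odd (by
        rw [Nat.card_congr (Subgroup.subgroupOfEquivOfLe inf_le_right).toEquiv] at hd
        exact hd.trans (Subgroup.card_dvd_of_le inf_le_left)))
      (y := ⟨y0, hy0C⟩) (n := ⟨n, hnC⟩) (Subgroup.mem_subgroupOf.2 (Subgroup.mem_inf.2 ⟨hnW, hnC⟩))
      (by rw [← Subgroup.orderOf_coe]; exact hy0o)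
      (by rw [← Subgroup.orderOf_coe]; exact odd_mul_mem P.odd (P.M_le_NW (hCzM _ hzy0.symm)) hy0o hnW)
    rw [Subgroup.coe_mul, ← mul_assoc, hy0] at h
    exact h
  · have hC' : C = univ.filter (fun n : G => n ∈ Cfsg.centralizerPPrimeCore 2 s ∧ Commute n z) := by
      rw [hC]
      refine filter_congr fun n _ => and_congr_left fun hnz => ?_
      rw [← hθ]
      exact ⟨fun h => Subgroup.mem_inf.2 ⟨hzs n hnz, h⟩, fun h => (Subgroup.mem_inf.1 h).2⟩
    have hyC : y ∈ Subgroup.centralizer ({s} : Set G) := hzs y hzy.symm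
    have hyn : y ∈ Subgroup.normalizer (Cfsg.centralizerPPrimeCore 2 s : Set G) := by
      rw [Subgroup.mem_normalizer_iff_map_conj_eq]
      show (Cfsg.centralizerPPrimeCore 2 s).map (MulAut.conj y).toMonoidHom = _
      rw [← CfsgLib.TwoGenCore.theta_conj,
        Subgroup.mem_centralizer_singleton_iff.1 hyC, mul_inv_cancel_right]
    have hsum' := sum_coset_part hyn (fun n hn hnz => hpart n (P.theta_le_of_mem hsM hi hn) hnz) hF
    rw [← hC', sum_theta_eq_zero hI hi (clean_of_solvable (P.solvable s hi)) hχ hyC hz hzs, mul_zero] at hsum'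
    rcases mul_eq_zero.1 hsum'.symm with h | h
    · exact absurd h (Nat.cast_ne_zero.2 Nat.card_pos.ne')
    · rw [h, mul_zero, mul_zero]

/-- A character of the principal block is constant on a coset of `W` of even order. -/
theorem irr_mul_W (hI : IsPModular 2 I) {χ : IrrCharacter G} (hχ : χ ∈ principalBlock I G) {y w : G}
    (hy : y ∈ P.M) (hy2 : 2 ∣ orderOf y) (hw : w ∈ P.W) :
    (χ : G → ℂ) (y * w) = (χ : G → ℂ) y := by
  have h1 := P.sum_coset hI χ hy hy2
  have h2 := P.sum_coset hI χ (mul_mem hy (P.W_le_M hw)) (P.mul_even hy hy2 hw)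
  rw [if_pos hχ] at h1 h2
  have h3 : ∑ v ∈ univ.filter (· ∈ P.W), (χ : G → ℂ) (y * w * v) =
      ∑ v ∈ univ.filter (· ∈ P.W), (χ : G → ℂ) (y * v) :=
    sum_nbij' (fun v => w * v) (fun v => w⁻¹ * v)
      (fun v hv => mem_filter.2 ⟨mem_univ _, mul_mem hw (mem_filter.1 hv).2⟩)
      (fun v hv => mem_filter.2 ⟨mem_univ _, mul_mem (inv_mem hw) (mem_filter.1 hv).2⟩)
      (fun v _ => inv_mul_cancel_left w v) (fun v _ => mul_inv_cancel_left w v)
      (fun v _ => by rw [mul_assoc])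
  rw [h2, h1] at h3
  exact mul_left_cancel₀ (Nat.cast_ne_zero.2 Nat.card_pos.ne') h3

end Setup

end CfsgLib.AbelianSolv
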