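import Mathlib

/-!
# Pairs of vectors of norm two

Integer vectors of norm two, orthogonal to a vector of degrees, coming in pairs with inner product
one and otherwise orthogonal.
-/

set_option autoImplicit false
set_option linter.unusedSectionVars false

open Finset

namespace CfsgLib.AbelianSolv

open scoped Classical

/-- The indicator of a point. -/
noncomputable def pt {X : Type*} (a z : X) : ℤ := if z = a then 1 else 0

theorem sum_pt_mul {X : Type*} [Fintype X] (a : X) (w : X → ℤ) : ∑ z, pt a z * w z = w a := by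
  simp [pt]

/-- A vector of norm two orthogonal to positive degrees is a difference of two points. -/
theorem exists_pair {X : Type*} [Fintype X] {v deg : X → ℤ} (hdeg : ∀ z, 0 < deg z)
    (h2 : ∑ z, v z * v z = 2) (h0 : ∑ z, v z * deg z = 0) :
    ∃ a b, a ≠ b ∧ ∀ z, v z = pt a z - pt b z := by
  obtain ⟨N, hN⟩ : ∃ N, N = univ.filter (fun z => v z ≠ 0) := ⟨_, rfl⟩
  have hsq : ∀ z, v z = 0 ∨ v z = 1 ∨ v z = -1 := by
    intro z
    have h := single_le_sum (f := fun z => v z * v z) (fun i _ => mul_self_nonneg (v i)) (mem_univ z)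
    rw [h2] at h
    have h' : v z * v z ≤ 2 := h
    have : v z ≤ 1 := by nlinarith
    have : -1 ≤ v z := by nlinarith
    omega
  have hcard : N.card = 2 := by
    have : ∑ z, v z * v z = (N.card : ℤ) := by
      rw [hN, card_filter, Nat.cast_sum]
      refine sum_congr rfl fun z _ => ?_
      rcases hsq z with h | h | h <;> simp [h]
    omega
  obtain ⟨a, b, hab, hNab⟩ := card_eq_two.1 hcard
  have hout : ∀ z, z ≠ a → z ≠ b → v z = 0 := by
    intro z hza hzb
    by_contra h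
    have : z ∈ N := hN ▸ mem_filter.2 ⟨mem_univ z, h⟩
    rw [hNab, mem_insert, mem_singleton] at this
    tauto
  have hne : v a ≠ 0 ∧ v b ≠ 0 := by
    have hm : ∀ c ∈ ({a, b} : Finset X), v c ≠ 0 := fun c hc => by
      rw [← hNab, hN, mem_filter] at hc; exact hc.2
    exact ⟨hm a (mem_insert_self _ _), hm b (mem_insert_of_mem (mem_singleton_self b))⟩
  have hsum : v a * deg a + v b * deg b = 0 := by
    rw [← h0, ← sum_subset (subset_univ ({a, b} : Finset X)) fun z _ hz => by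
      rw [mem_insert, mem_singleton, not_or] at hz; rw [hout z hz.1 hz.2, zero_mul], sum_pair hab]
  have ha := hdeg a
  have hb := hdeg b
  rcases hsq a with h | h | h
  · exact absurd h hne.1
  · refine ⟨a, b, hab, fun z => ?_⟩
    have hvb : v b = -1 := by
      rcases hsq b with h' | h' | h'
      · exact absurd h' hne.2
      · rw [h, h'] at hsum; omega
      · exact h'
    by_cases hza : z = a
    · subst hza; simp [pt, h, hab]
    · by_cases hzb : z = b
      · subst hzb; simp [pt, hvb, hza]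
      · simp [pt, hout z hza hzb, hza, hzb]
  · refine ⟨b, a, hab.symm, fun z => ?_⟩
    have hvb : v b = 1 := by
      rcases hsq b with h' | h' | h'
      · exact absurd h' hne.2
      · exact h'
      · rw [h, h'] at hsum; omega
    by_cases hzb : z = b
    · subst hzb; simp [pt, hvb, hab.symm]
    · by_cases hza : z = a
      · subst hza; simp [pt, h, hzb]
      · simp [pt, hout z hza hzb, hza, hzb]

/-- Pairs of norm-two vectors with the coherence conditions. -/
structure Pairs (ι X : Type*) [Fintype X] where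
  v₁ : ι → X → ℤ
  v₂ : ι → X → ℤ
  deg : X → ℤ
  deg_pos : ∀ z, 0 < deg z
  norm₁ : ∀ i, ∑ z, v₁ i z * v₁ i z = 2
  norm₂ : ∀ i, ∑ z, v₂ i z * v₂ i z = 2
  zero₁ : ∀ i, ∑ z, v₁ i z * deg z = 0
  zero₂ : ∀ i, ∑ z, v₂ i z * deg z = 0
  link : ∀ i, ∑ z, v₁ i z * v₂ i z = 1
  orth₁₁ : ∀ i j, i ≠ j → ∑ z, v₁ i z * v₁ j z = 0
  orth₁₂ : ∀ i j, i ≠ j → ∑ z, v₁ i z * v₂ j z = 0
  orth₂₂ : ∀ i j, i ≠ j → ∑ z, v₂ i z * v₂ j z = 0

namespace Pairs

variable {ι X : Type*} [Fintype X] (P : Pairs ι X)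

theorem exists_triple (i : ι) : ∃ (x y y' : X) (ε : ℤ), (ε = 1 ∨ ε = -1) ∧ x ≠ y ∧ x ≠ y' ∧ y ≠ y' ∧
    (∀ z, P.v₁ i z = ε * (pt x z - pt y z)) ∧ ∀ z, P.v₂ i z = ε * (pt x z - pt y' z) := by
  obtain ⟨a, b, hab, hv⟩ := exists_pair P.deg_pos (P.norm₁ i) (P.zero₁ i)
  obtain ⟨c, d, hcd, hw⟩ := exists_pair P.deg_pos (P.norm₂ i) (P.zero₂ i)
  have h := P.link i
  simp only [hv, sub_mul, sum_sub_distrib, sum_pt_mul, hw] at h
  by_cases hac : a = c
  · refine ⟨a, b, d, 1, Or.inl rfl, hab, hac ▸ hcd, fun e => ?_, fun z => by rw [hv, one_mul],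
      fun z => by rw [hw, hac, one_mul]⟩
    subst hac e
    simp [pt, hab, hab.symm] at h
  · by_cases hbd : b = d
    · refine ⟨b, a, c, -1, Or.inr rfl, hab.symm, hbd ▸ hcd.symm, hac, fun z => by rw [hv]; ring,
        fun z => by rw [hw, hbd]; ring⟩
    · exfalso
      simp only [pt, if_neg hac, if_neg hbd] at h
      split_ifs at h <;> omega

/-- The common point. -/
noncomputable def x (i : ι) : X := (P.exists_triple i).choose

/-- The other point of the first vector. -/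
noncomputable def y (i : ι) : X := (P.exists_triple i).choose_spec.choose

/-- The other point of the second vector. -/
noncomputable def y' (i : ι) : X := (P.exists_triple i).choose_spec.choose_spec.choose

/-- The sign. -/
noncomputable def sgn (i : ι) : ℤ := (P.exists_triple i).choose_spec.choose_spec.choose_spec.choose

theorem triple_spec (i : ι) : (P.sgn i = 1 ∨ P.sgn i = -1) ∧ P.x i ≠ P.y i ∧ P.x i ≠ P.y' i ∧
    P.y i ≠ P.y' i ∧ (∀ z, P.v₁ i z = P.sgn i * (pt (P.x i) z - pt (P.y i) z)) ∧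
    ∀ z, P.v₂ i z = P.sgn i * (pt (P.x i) z - pt (P.y' i) z) :=
  (P.exists_triple i).choose_spec.choose_spec.choose_spec.choose_spec

theorem sum_v₁ (i : ι) (w : X → ℤ) : ∑ z, P.v₁ i z * w z = P.sgn i * (w (P.x i) - w (P.y i)) := by
  simp only [(P.triple_spec i).2.2.2.2.1, mul_assoc, sub_mul, ← mul_sum, sum_sub_distrib, sum_pt_mul]

theorem sum_v₂ (i : ι) (w : X → ℤ) : ∑ z, P.v₂ i z * w z = P.sgn i * (w (P.x i) - w (P.y' i)) := by
  simp only [(P.triple_spec i).2.2.2.2.2, mul_assoc, sub_mul, ← mul_sum, sum_sub_distrib, sum_pt_mul]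

theorem sgn_mul_self (i : ι) : P.sgn i * P.sgn i = 1 := by
  rcases (P.triple_spec i).1 with h | h <;> rw [h] <;> norm_num

/-- The three points. -/
noncomputable def tri (i : ι) : Finset X := {P.x i, P.y i, P.y' i}

theorem eq_const {i : ι} {w : X → ℤ} (h1 : ∑ z, P.v₁ i z * w z = 0) (h2 : ∑ z, P.v₂ i z * w z = 0) :
    w (P.y i) = w (P.x i) ∧ w (P.y' i) = w (P.x i) := by
  rw [P.sum_v₁] at h1
  rw [P.sum_v₂] at h2
  rcases (P.triple_spec i).1 with h | h <;> rw [h] at h1 h2 <;> constructor <;> omega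

theorem zero_of_pair {i : ι} {a b : X} {s : ℤ} {w : X → ℤ} (hw : ∀ z, w z = s * (pt a z - pt b z))
    (h : w (P.y i) = w (P.x i) ∧ w (P.y' i) = w (P.x i)) {z : X} (hz : z ∈ P.tri i) : w z = 0 := by
  obtain ⟨-, hxy, hxy', hyy', -, -⟩ := P.triple_spec i
  have hx0 : w (P.x i) = 0 := by
    obtain ⟨h1, h2⟩ := h
    by_contra hne
    have key : ∀ p, w p = w (P.x i) → p = a ∨ p = b := fun p hp => by
      by_contra hc
      rw [not_or] at hc
      exact hne (by rw [← hp, hw]; simp [pt, hc.1, hc.2])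
    rcases key _ h1 with e1 | e1 <;> rcases key _ h2 with e2 | e2 <;> rcases key _ rfl with e3 | e3 <;>
      first
        | exact hyy' (e1.trans e2.symm)
        | exact hxy (e3.trans e1.symm)
        | exact hxy' (e3.trans e2.symm)
  simp only [tri, mem_insert, mem_singleton] at hz
  rcases hz with rfl | rfl | rfl
  · exact hx0
  · rw [h.1, hx0]
  · rw [h.2, hx0]

/-- Vectors of different indices vanish on a triple. -/
theorem eq_zero_of_ne {i j : ι} (hij : i ≠ j) {z : X} (hz : z ∈ P.tri i) :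
    P.v₁ j z = 0 ∧ P.v₂ j z = 0 := by
  have h21 : ∑ z, P.v₂ i z * P.v₁ j z = 0 := by
    rw [← P.orth₁₂ j i hij.symm]; exact sum_congr rfl fun z _ => mul_comm _ _
  exact ⟨P.zero_of_pair (P.triple_spec j).2.2.2.2.1 (P.eq_const (P.orth₁₁ i j hij) h21) hz,
    P.zero_of_pair (P.triple_spec j).2.2.2.2.2 (P.eq_const (P.orth₁₂ i j hij) (P.orth₂₂ i j hij)) hz⟩

theorem x_mem (i : ι) : P.x i ∈ P.tri i := by simp [tri]

theorem mem_tri_iff {i : ι} {z : X} : z ∈ P.tri i ↔ P.v₁ i z ≠ 0 ∨ P.v₂ i z ≠ 0 := by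
  obtain ⟨hs, hxy, hxy', hyy', h1, h2⟩ := P.triple_spec i
  have hs0 : P.sgn i ≠ 0 := by omega
  simp only [tri, mem_insert, mem_singleton, h1, h2, mul_ne_zero_iff, hs0, pt, not_false_eq_true,
    true_and, ne_eq]
  constructor
  · rintro (rfl | rfl | rfl) <;> simp [hxy, hxy.symm, hxy', hxy'.symm, hyy', hyy'.symm]
  · rintro (h | h) <;> split_ifs at h <;> simp_all

theorem disjoint {i j : ι} (hij : i ≠ j) : Disjoint (P.tri i) (P.tri j) :=
  disjoint_left.2 fun z hi hj => by
    obtain ⟨h1, h2⟩ := P.eq_zero_of_ne hij hi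
    rcases P.mem_tri_iff.1 hj with h | h
    · exact h h1
    · exact h h2

theorem x_injective : Function.Injective P.x := fun i j e => by
  by_contra hne
  exact disjoint_left.1 (P.disjoint hne) (P.x_mem i) (e ▸ P.x_mem j)

/-- A point fixed by a symmetry exchanging the vectors lies in no triple but possibly as the common
point of the fixed index. -/
theorem eq_zero_of_fixed (ρ : ι → ι) {i₀ : ι} (hρ : ∀ i, ρ i = i → i = i₀) {z : X}
    (hz : ∀ i, P.v₂ (ρ i) z = P.v₁ i z) (hne : z ≠ P.x i₀) (hsur : ∀ i, ∃ j, ρ j = i) :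
    ∀ i, P.v₁ i z = 0 ∧ P.v₂ i z = 0 := by
  have h1 : ∀ i, P.v₁ i z = 0 := by
    intro i
    by_contra h
    have hm : z ∈ P.tri i := P.mem_tri_iff.2 (Or.inl h)
    have hm' : z ∈ P.tri (ρ i) := P.mem_tri_iff.2 (Or.inr (by rw [hz]; exact h))
    by_cases hi : ρ i = i
    · obtain rfl := hρ i hi
      obtain ⟨hs, hxy, hxy', hyy', e1, e2⟩ := P.triple_spec i
      have h' : P.v₂ i z ≠ 0 := by
        have := hz i; rw [hi] at this; rw [this]; exact h
      simp only [e1, pt, if_neg hne] at h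
      simp only [e2, pt, if_neg hne] at h'
      split_ifs at h h' <;> simp_all
    · exact disjoint_left.1 (P.disjoint (Ne.symm hi)) hm hm'
  intro i
  obtain ⟨j, rfl⟩ := hsur i
  exact ⟨h1 _, by rw [hz, h1]⟩

/-- The shape of a vector of small norm with prescribed inner products. -/
theorem shape {S : Finset ι} {w : X → ℤ} (hn : ∑ z, w z * w z = (S.card : ℤ) + 1)
    (h₁ : ∀ i, ∑ z, P.v₁ i z * w z = if i ∈ S then 1 else 0)
    (h₂ : ∀ i, ∑ z, P.v₂ i z * w z = if i ∈ S then 1 else 0)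
    {p : X} (hp : ∀ i, P.v₁ i p = 0 ∧ P.v₂ i p = 0) (hp0 : w p ≠ 0) :
    w p * w p = 1 ∧ ∀ z, w z = (∑ i ∈ S, P.sgn i * pt (P.x i) z) + w p * pt p z := by
  obtain ⟨U, hU⟩ : ∃ U, U = S.biUnion P.tri := ⟨_, rfl⟩
  have hpU : p ∉ U := by
    rw [hU, mem_biUnion]
    rintro ⟨i, -, hi⟩
    rcases P.mem_tri_iff.1 hi with h | h
    · exact h (hp i).1
    · exact h (hp i).2
  have hval : ∀ i ∈ S, ∃ c, w (P.y i) = c ∧ w (P.y' i) = c ∧ w (P.x i) = c + P.sgn i ∧
      ∑ z ∈ P.tri i, w z * w z = (c + P.sgn i) * (c + P.sgn i) + 2 * (c * c) := by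
    intro i hi
    obtain ⟨hs, hxy, hxy', hyy', -, -⟩ := P.triple_spec i
    have e1 := h₁ i
    have e2 := h₂ i
    rw [P.sum_v₁, if_pos hi] at e1
    rw [P.sum_v₂, if_pos hi] at e2
    have hy : w (P.y' i) = w (P.y i) ∧ w (P.x i) = w (P.y i) + P.sgn i := by
      rcases hs with h | h <;> rw [h] at e1 e2 ⊢ <;> constructor <;> omega
    refine ⟨w (P.y i), rfl, hy.1, hy.2, ?_⟩
    rw [tri, sum_insert (by simp [hxy, hxy']), sum_pair hyy', hy.1, hy.2]
    ring
  have hone : ∀ i ∈ S, (1 : ℤ) ≤ ∑ z ∈ P.tri i, w z * w z := by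
    intro i hi
    obtain ⟨c, -, -, -, hc⟩ := hval i hi
    rw [hc]
    rcases (P.triple_spec i).1 with h | h <;> rw [h] <;>
      rcases Int.lt_or_le c 0 with hc0 | hc0 <;> nlinarith
  have hUsum : ∑ z ∈ U, w z * w z = ∑ i ∈ S, ∑ z ∈ P.tri i, w z * w z := by
    rw [hU, sum_biUnion fun i _ j _ hij => P.disjoint hij]
  have htot : ∑ z ∈ U, w z * w z + w p * w p + ∑ z ∈ univ \ insert p U, w z * w z = (S.card : ℤ) + 1 := by
    rw [← hn, ← sum_sdiff (subset_univ (insert p U)), sum_insert hpU]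
    ring
  have hge : (S.card : ℤ) ≤ ∑ z ∈ U, w z * w z := by
    rw [hUsum]
    have := sum_le_sum hone
    simpa using this
  have hrest0 : 0 ≤ ∑ z ∈ univ \ insert p U, w z * w z := sum_nonneg fun z _ => mul_self_nonneg _
  have hp1 : 1 ≤ w p * w p := mul_self_pos.2 hp0
  have hout : ∀ z, z ≠ p → z ∉ U → w z = 0 := by
    intro z hzp hzU
    have h0 : ∑ z ∈ univ \ insert p U, w z * w z = 0 := by omega
    have := (sum_eq_zero_iff_of_nonneg fun z _ => mul_self_nonneg _).1 h0 z (by simp [hzp, hzU])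
    exact mul_self_eq_zero.1 this
  refine ⟨by omega, fun z => ?_⟩
  have hin : ∀ i ∈ S, ∀ z ∈ P.tri i, w z = P.sgn i * pt (P.x i) z := by
    intro i hi z hz
    obtain ⟨c, hy, hy', hx, hc⟩ := hval i hi
    have heq : ∑ z ∈ P.tri i, w z * w z = 1 := by
      by_contra hne
      have hlt : (S.card : ℤ) < ∑ z ∈ U, w z * w z := by
        rw [hUsum]
        calc (S.card : ℤ) = ∑ i ∈ S, (1 : ℤ) := by simp
          _ < _ := sum_lt_sum hone ⟨i, hi, lt_of_le_of_ne (hone i hi) (Ne.symm hne)⟩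
      omega
    have hc0 : c = 0 := by
      rw [hc] at heq
      rcases (P.triple_spec i).1 with h | h <;> rw [h] at heq <;>
        by_contra hne <;> rcases Int.lt_or_le c 0 with h0 | h0 <;> nlinarith [mul_self_pos.2 hne]
    obtain ⟨-, hxy, hxy', -, -, -⟩ := P.triple_spec i
    simp only [tri, mem_insert, mem_singleton] at hz
    rcases hz with rfl | rfl | rfl
    · simp [pt, hx, hc0]
    · simp [pt, hy, hc0, hxy.symm]
    · simp [pt, hy', hc0, hxy'.symm]
  by_cases hzp : z = p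
  · subst hzp
    rw [sum_eq_zero fun i hi => by
      rw [show pt (P.x i) z = 0 from if_neg fun e : z = P.x i =>
        hpU (hU ▸ mem_biUnion.2 ⟨i, hi, e ▸ P.x_mem i⟩), mul_zero]]
    simp [pt]
  rw [show pt p z = 0 from if_neg hzp, mul_zero, add_zero]
  by_cases hzU : z ∈ U
  · obtain ⟨i, hi, hz⟩ := mem_biUnion.1 (hU ▸ hzU)
    rw [sum_eq_single_of_mem i hi fun j hj hji => by
      rw [show pt (P.x j) z = 0 from if_neg fun e : z = P.x j =>
        disjoint_left.1 (P.disjoint hji) (e ▸ P.x_mem j) hz, mul_zero]]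
    exact hin i hi z hz
  · rw [hout z hzp hzU, sum_eq_zero fun i hi => ?_]
    rw [show pt (P.x i) z = 0 from if_neg fun e : z = P.x i =>
      hzU (hU ▸ mem_biUnion.2 ⟨i, hi, e ▸ P.x_mem i⟩), mul_zero]

/-- Two vectors of that shape with the inner product of their supports agree only if they vanish at
a common point outside the triples. -/
theorem vanish {S S' : Finset ι} {w u : X → ℤ} (hw : ∑ z, w z * w z = (S.card : ℤ) + 1)
    (hu : ∑ z, u z * u z = (S'.card : ℤ) + 1)
    (hw₁ : ∀ i, ∑ z, P.v₁ i z * w z = if i ∈ S then 1 else 0)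
    (hw₂ : ∀ i, ∑ z, P.v₂ i z * w z = if i ∈ S then 1 else 0)
    (hu₁ : ∀ i, ∑ z, P.v₁ i z * u z = if i ∈ S' then 1 else 0)
    (hu₂ : ∀ i, ∑ z, P.v₂ i z * u z = if i ∈ S' then 1 else 0)
    (hwu : ∑ z, w z * u z = ((S ∩ S').card : ℤ))
    {p : X} (hp : ∀ i, P.v₁ i p = 0 ∧ P.v₂ i p = 0) (he : u p = w p) : w p = 0 := by
  by_contra hp0
  obtain ⟨h1, hW⟩ := P.shape hw hw₁ hw₂ hp hp0
  obtain ⟨-, hUu⟩ := P.shape hu hu₁ hu₂ hp (he ▸ hp0)
  have hux : ∀ i, u (P.x i) = if i ∈ S' then P.sgn i else 0 := fun i => by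
    rw [hUu, show pt p (P.x i) = 0 from if_neg fun e => by
      rcases P.mem_tri_iff.1 (e ▸ P.x_mem i) with h | h
      · exact h (hp i).1
      · exact h (hp i).2, mul_zero, add_zero]
    simp only [pt, P.x_injective.eq_iff, mul_ite, mul_one, mul_zero, sum_ite_eq]
  have h : ∑ z, w z * u z = ((S ∩ S').card : ℤ) + 1 := by
    rw [sum_congr rfl fun z _ => show w z * u z =
        (∑ i ∈ S, P.sgn i * (pt (P.x i) z * u z)) + w p * (pt p z * u z) by
      rw [hW z, add_mul, Finset.sum_mul]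
      simp only [mul_assoc],
      sum_add_distrib, sum_comm, ← mul_sum, sum_pt_mul, he, h1,
      sum_congr rfl fun i _ => show ∑ z, P.sgn i * (pt (P.x i) z * u z) = if i ∈ S' then 1 else 0 by
        rw [← mul_sum, sum_pt_mul, hux]; split_ifs <;> simp [P.sgn_mul_self],
      sum_boole, filter_mem_eq_inter]
  omega

end Pairs

end CfsgLib.AbelianSolv
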