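import Cfsg.Agent.Lib.OddConseq.AbelianSolv.Frame
import Cfsg.Agent.Lib.Invol.PrincipalBlock

/-!
# Values at the involution and degrees
-/

set_option autoImplicit false
set_option linter.unusedSectionVars false
set_option linter.style.haveILetI false

open Finset
open scoped ComplexConjugate

namespace CfsgLib.AbelianSolv

open Cfsg CfsgLib.Char CfsgLib.Block

universe u

open scoped Classical

/-- A quantity whose half is an algebraic integer is even. -/
theorem even_of_isIntegral {u : ℤ} {z : ℂ} (hz : IsIntegral ℤ z) (h : (u : ℂ) = 2 * z) : (2 : ℤ) ∣ u := by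
  have e : z = algebraMap ℚ ℂ ((u : ℚ) / 2) := by
    rw [map_div₀, map_intCast, map_ofNat]
    linear_combination -h / 2
  rw [e, isIntegral_algebraMap_iff (algebraMap ℚ ℂ).injective, IsIntegrallyClosed.isIntegral_iff] at hz
  obtain ⟨w, hw⟩ := hz
  refine ⟨w, ?_⟩
  have h2 : ((u : ℤ) : ℚ) = ((2 * w : ℤ) : ℚ) := by
    push_cast
    rw [show (w : ℚ) = (u : ℚ) / 2 from hw]
    ring
  exact_mod_cast h2

namespace Setup

variable {G : Type u} [Group G] [Fintype G] [IsSimpleGroup G] (P : Setup G)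

include P in
theorem eq_one_of_val_eq_degree {t : G} (ht : orderOf t = 2) {χ : IrrCharacter G}
    (h : (χ : G → ℂ) t = (χ : G → ℂ) 1) : χ = oneChar G := by
  obtain ⟨N, hN, hmem⟩ := CfsgLib.Invol.exists_charKernel χ
  have htN : t ∈ N := (hmem t).2 h
  refine CfsgLib.Invol.eq_oneChar_of_constant χ fun g => (hmem g).1 ?_
  rcases IsSimpleGroup.eq_bot_or_eq_top_of_normal N hN with e | e
  · rw [e, Subgroup.mem_bot] at htN
    rw [htN, orderOf_one] at ht
    norm_num at ht
  · exact e ▸ Subgroup.mem_top g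

include P in
/-- A nontrivial character constant `a` on the nontrivial elements of `S` has degree `i + (q - 1) j`
with `a = i - j` and `j ≥ 1`. -/
theorem exists_degree_split {t : G} (ht : orderOf t = 2) (htS : t ∈ (P.S : Subgroup G))
    {χ : IrrCharacter G} (hne : χ ≠ oneChar G) {a : ℤ}
    (ha : ∀ s ∈ (P.S : Subgroup G), s ≠ 1 → (χ : G → ℂ) s = (a : ℂ)) :
    ∃ i j : ℕ, 1 ≤ j ∧ a = (i : ℤ) - j ∧
      (charDegree (χ : G → ℂ) : ℤ) = i + ((Nat.card ↥(P.S : Subgroup G) : ℤ) - 1) * j := by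
  obtain ⟨i, hi⟩ := CfsgLib.ElemEight.exists_sum_subgroup (P.S : Subgroup G) χ
  have hf := (charDegree_eq χ).1
  obtain ⟨f, hfd⟩ : ∃ f, f = charDegree (χ : G → ℂ) := ⟨_, rfl⟩
  rw [← hfd] at hf ⊢
  obtain ⟨q, hq⟩ : ∃ q, q = Nat.card ↥(P.S : Subgroup G) := ⟨_, rfl⟩
  rw [← hq]
  have hrest : ∑ s ∈ (univ : Finset ↥(P.S : Subgroup G)).erase 1, (χ : G → ℂ) s = ((q - 1 : ℕ) : ℂ) * a := by
    rw [sum_congr rfl (g := fun _ => (a : ℂ)) fun (s : ↥(P.S : Subgroup G)) hs =>
      ha s s.2 fun e => (mem_erase.1 hs).1 (Subtype.ext e), sum_const, card_erase_of_mem (mem_univ _),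
      card_univ, ← Nat.card_eq_fintype_card, nsmul_eq_mul, ← hq]
  rw [← add_sum_erase _ _ (mem_univ (1 : ↥(P.S : Subgroup G))), hrest, Subgroup.coe_one, hf, ← hq] at hi
  have hq1 : 1 ≤ q := hq ▸ Nat.card_pos
  have heq : (f : ℤ) + ((q : ℤ) - 1) * a = (i : ℤ) * q := by
    have : (((f : ℤ) + ((q : ℤ) - 1) * a : ℤ) : ℂ) = (((i : ℤ) * q : ℤ) : ℂ) := by
      push_cast [hq1] at hi ⊢
      linear_combination hi
    exact_mod_cast this
  have hle : (a : ℤ) ≤ f := by
    have h := norm_char_le_degree (isCharacter_irr χ) hf t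
    rw [ha t htS (fun e => by rw [e, orderOf_one] at ht; norm_num at ht), Complex.norm_intCast] at h
    exact_mod_cast (le_abs_self (a : ℝ)).trans h
  have hlt : a ≠ f := fun e => hne (P.eq_one_of_val_eq_degree ht (by
    rw [hf, ha t htS (fun e => by rw [e, orderOf_one] at ht; norm_num at ht), e, Int.cast_natCast]))
  have hdvd : ((i : ℤ) - a) * q = (f : ℤ) - a := by linear_combination -heq
  have hqz : (1 : ℤ) ≤ q := by exact_mod_cast hq1
  have hj : 1 ≤ (i : ℤ) - a := by
    by_contra hno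
    nlinarith [show (i : ℤ) - a ≤ 0 by omega, show 0 < (f : ℤ) - a by omega]
  refine ⟨i, ((i : ℤ) - a).toNat, ?_, ?_, ?_⟩
  · omega
  · omega
  · rw [Int.toNat_of_nonneg (by omega)]; linear_combination heq

end Setup

end CfsgLib.AbelianSolv
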