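import Cfsg.Agent.Lib.OddConseq.AbelianSolv.Ext
import Cfsg.Agent.Lib.OddConseq.AbelianSolv.Coherence
import Cfsg.Agent.Lib.OddConseq.AbelianSolv.Values

/-!
# The real characters of the principal block when `T` is not elementary

They are, with one possible exception, constant on the nontrivial elements of `T`.
-/

set_option autoImplicit false
set_option linter.unusedSectionVars false
set_option linter.style.haveILetI false

open Finset
open scoped ComplexConjugate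

namespace CfsgLib.AbelianSolv

open Cfsg CfsgLib.Char CfsgLib.Block

universe u

open scoped Classical

namespace Frame

variable {Γ : Type u} [Group Γ] [Fintype Γ] (Φ : Frame Γ)

include Φ in
/-- The inner product with `invFun` is the value at an involution. -/
theorem inner_invFun {t : Γ} (ht : orderOf t = 2) {F : Γ → ℂ} (hF : IsClassFunction Γ F) :
    classInner F (invFun Γ) = F t := by
  have h : ∀ γ : Γ, F γ * conj (invFun Γ γ) =
      if orderOf γ = 2 then (Nat.card Γ : ℂ) / (numInvol Γ : ℂ) * F t else 0 := fun γ => by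
    split_ifs with hγ
    · rw [invFun_invol hγ, map_div₀, map_natCast, map_natCast, Φ.class_const hF hγ ht]; ring
    · rw [invFun, if_neg hγ, map_zero, mul_zero]
  rw [classInner, sum_congr rfl fun γ _ => h γ, ← sum_filter, sum_const, nsmul_eq_mul,
    ← Fintype.card_subtype, ← Nat.card_eq_fintype_card, ← numInvol]
  have h1 : (numInvol Γ : ℂ) ≠ 0 := Nat.cast_ne_zero.2 (by have := Φ.seven_le_numInvol; omega)
  have h2 : (Nat.card Γ : ℂ) ≠ 0 := Nat.cast_ne_zero.2 Nat.card_pos.ne'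
  field_simp

namespace Seed

variable {Φ} {τ : Γ} (S : Seed Φ τ)

/-- The value of `D μ₄` at the involution. -/
theorem D₄_tau (η : ↥S.E.E →* ℂˣ) : S.D S.μ₄ η τ = (numInvol Γ : ℂ) + 1 := by
  have htT : τ ∈ Φ.T := Φ.mem_T_of_invol (orderOf_two_iff.1 S.hτ).1
  rw [← Φ.inner_invFun S.hτ (S.D_class S.μ₄ η)]
  unfold D Ind
  rw [← indFun_sub, classInner_indFun _ _ _ invFun_class, classInner]
  obtain ⟨U, hU⟩ : ∃ U : Finset ↥Φ.T, U = univ.filter (fun s : ↥Φ.T => s * s = 1) := ⟨_, rfl⟩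
  have hUcard : (U.card : ℂ) = (numInvol Γ : ℂ) + 1 := by
    rw [← Nat.cast_one, ← Nat.cast_add, Φ.numInvol_add_one, Nat.cast_inj, hU, ← Fintype.card_subtype,
      ← Nat.card_eq_fintype_card]
    refine Nat.card_congr ((Equiv.subtypeEquivRight fun s => ?_).trans
      (Equiv.subtypeSubtypeEquivSubtypeInter (fun s : Γ => s ∈ Φ.T) (fun s : Γ => s * s = 1)))
    rw [Subtype.ext_iff]
    rfl
  have hτU : ∀ s : ↥Φ.T, s ∈ U → (⟨τ, htT⟩ : ↥Φ.T) * s ∈ U := fun s hs => by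
    rw [hU, mem_filter] at hs ⊢
    refine ⟨mem_univ _, ?_⟩
    rw [mul_mul_mul_comm, hs.2, mul_one]
    exact Subtype.ext (orderOf_two_iff.1 S.hτ).1
  have h4 : ∑ s ∈ U, (S.μ₄ s : ℂ) = 0 := by
    have h : ∑ s ∈ U, (S.μ₄ s : ℂ) = ∑ s ∈ U, (S.μ₄ (⟨τ, htT⟩ * s) : ℂ) := by
      refine sum_nbij' (fun s => (⟨τ, htT⟩ : ↥Φ.T) * s) (fun s => (⟨τ, htT⟩ : ↥Φ.T) * s) hτU hτU ?_ ?_ ?_
      all_goals intro s _
      all_goals rw [← mul_assoc, show (⟨τ, htT⟩ : ↥Φ.T) * ⟨τ, htT⟩ = 1 from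
        Subtype.ext (orderOf_two_iff.1 S.hτ).1, one_mul]
    have h2 : ∀ s, (S.μ₄ (⟨τ, htT⟩ * s) : ℂ) = -(S.μ₄ s : ℂ) := fun s => by
      rw [map_mul, Units.val_mul, S.tau₄, neg_one_mul]
    rw [sum_congr rfl fun s _ => h2 s, sum_neg_distrib] at h
    linear_combination h / 2
  have hterm : ∀ g : ↥(Φ.stabL S.μ₄),
      ((fun y : ↥(Φ.stabL S.μ₄) => S.ext S.μ₂ η y) - fun y : ↥(Φ.stabL S.μ₄) => S.ext S.μ₄ η y) g *
        conj (invFun Γ g) =
      if h : (g : Γ) ∈ Φ.T ∧ (g : Γ) * g = 1 then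
        (Nat.card Γ : ℂ) / (numInvol Γ : ℂ) * (1 - (S.μ₄ ⟨g, h.1⟩ : ℂ)) else 0 := by
    intro g
    rw [Pi.sub_apply]
    split_ifs with h
    · have e2 : S.ext S.μ₂ η g = 1 := by
        rw [show S.ext S.μ₂ η g = _ from S.ext_T S.μ₂ η ⟨g, h.1⟩, S.invol₂ _ (Subtype.ext h.2), Units.val_one]
      rw [e2, show S.ext S.μ₄ η g = _ from S.ext_T S.μ₄ η ⟨g, h.1⟩]
      by_cases h1 : (g : Γ) = 1
      · rw [show (⟨(g : Γ), h.1⟩ : ↥Φ.T) = 1 from Subtype.ext h1, map_one, Units.val_one, sub_self,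
          zero_mul, mul_zero]
      · rw [invFun_invol (orderOf_two_iff.2 ⟨h.2, h1⟩), map_div₀, map_natCast, map_natCast]; ring
    · rw [invFun, if_neg fun e => h ⟨Φ.mem_T_of_invol (orderOf_two_iff.1 e).1, (orderOf_two_iff.1 e).1⟩,
        map_zero, mul_zero]
  rw [sum_congr rfl fun g _ => hterm g,
    ← sum_filter_of_ne (p := fun g : ↥(Φ.stabL S.μ₄) => (g : Γ) ∈ Φ.T ∧ (g : Γ) * g = 1) fun g _ hg => by
      by_contra h; exact hg (dif_neg h)]
  have hU' : ∀ s : ↥Φ.T, s ∈ U ↔ (s : Γ) * s = 1 := fun s => by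
    rw [hU, mem_filter, Subtype.ext_iff]; exact ⟨fun h => h.2, fun h => ⟨mem_univ _, h⟩⟩
  rw [← sum_bij (s := U) (f := fun s => (Nat.card Γ : ℂ) / (numInvol Γ : ℂ) * (1 - (S.μ₄ s : ℂ)))
    (fun s _ => (⟨s, Φ.T_le_stabL S.μ₄ s.2⟩ : ↥(Φ.stabL S.μ₄)))
    (fun s hs => mem_filter.2 ⟨mem_univ _, s.2, (hU' s).1 hs⟩)
    (fun a _ b _ e => Subtype.ext (congrArg (fun y : ↥(Φ.stabL S.μ₄) => (y : Γ)) e))
    (fun g hg => ⟨⟨g, (mem_filter.1 hg).2.1⟩, (hU' _).2 (mem_filter.1 hg).2.2, rfl⟩)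
    fun s hs => by rw [dif_pos ⟨s.2, (hU' s).1 hs⟩],
    ← mul_sum, sum_sub_distrib, h4, sum_const, nsmul_one, hUcard, sub_zero, S.stab₄,
    ← Φ.card_centralizer_mul S.hτ]
  have h1 : (numInvol Γ : ℂ) ≠ 0 := Nat.cast_ne_zero.2 (by have := Φ.seven_le_numInvol; omega)
  have h2 : (Nat.card ↥(Subgroup.centralizer ({τ} : Set Γ)) : ℂ) ≠ 0 := Nat.cast_ne_zero.2 Nat.card_pos.ne'
  push_cast
  field_simp

theorem eq_one_of_inv_eq {θ : ↥S.E.E →* ℂˣ} (h : θ⁻¹ = θ) : θ = 1 := by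
  refine MonoidHom.ext fun x => ?_
  have h1 : θ x * θ x = 1 := by
    nth_rewrite 1 [← h]
    rw [MonoidHom.inv_apply, inv_mul_cancel]
  have h2 : θ x ^ Nat.card ↥S.E.E = 1 := by rw [← map_pow, pow_card_eq_one', map_one]
  obtain ⟨j, hj⟩ : Odd (Nat.card ↥S.E.E) := by
    rw [← Nat.not_even_iff_odd, even_iff_two_dvd]; exact S.E.odd_card
  rw [hj, pow_succ, pow_mul, pow_two, h1, one_pow, one_mul] at h2
  rw [h2, MonoidHom.one_apply]

end Seed

end Frame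

namespace Setup

variable {G : Type u} [Group G] [Fintype G] [IsSimpleGroup G] (P : Setup G)

/-- The value at a lift, on the elements of even order. -/
noncomputable def valE (χ : IrrCharacter G) (γ : P.Quo) : ℂ := if 2 ∣ orderOf γ then P.val χ γ else 0

variable {Φ : Frame P.Quo} {τ : P.Quo} (S : Frame.Seed Φ τ)

/-- The integral coefficient of `D μ η`. -/
noncomputable def vec (μ : Φ.Lin) (η : ↥S.E.E →* ℂˣ) (χ : IrrCharacter G) : ℤ :=
  if h : S.Valid μ then (P.coef_int (S.D_generalized h η) χ).choose else 0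

theorem vec_spec {μ : Φ.Lin} (h : S.Valid μ) (η : ↥S.E.E →* ℂˣ) (χ : IrrCharacter G) :
    (P.vec S μ η χ : ℂ) = P.coef (S.D μ η) χ := by
  rw [vec, dif_pos h]
  exact (P.coef_int (S.D_generalized h η) χ).choose_spec.symm

variable [Fintype (IrrCharacter G)]

theorem sum_vec {μ ν : Φ.Lin} (hμ : S.Valid μ) (hν : S.Valid ν) (η θ : ↥S.E.E →* ℂˣ) :
    ((∑ χ, P.vec S μ η χ * P.vec S ν θ χ : ℤ) : ℂ) = classInner (S.D μ η) (S.D ν θ) := by
  rw [← P.parseval (S.D_class ν θ) (S.D_supported hν θ), Int.cast_sum]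
  exact sum_congr rfl fun χ _ => by
    rw [Int.cast_mul, ← P.vec_spec S hμ, ← P.vec_spec S hν, map_intCast]

theorem sum_vec_value {μ : Φ.Lin} (hμ : S.Valid μ) (η : ↥S.E.E →* ℂˣ) {y : G} (hy : y ∈ P.M) :
    ∑ χ, (P.vec S μ η χ : ℂ) * (χ : G → ℂ) y = S.D μ η (P.proj ⟨y, hy⟩) := by
  rw [← P.coef_value (S.D_class μ η) (S.D_supported hμ η) hy]
  exact sum_congr rfl fun χ _ => by rw [P.vec_spec S hμ]

theorem sum_vec_degree {μ : Φ.Lin} (hμ : S.Valid μ) (η : ↥S.E.E →* ℂˣ) :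
    ∑ χ, P.vec S μ η χ * (charDegree (χ : G → ℂ) : ℤ) = 0 := by
  have h := P.sum_vec_value S hμ η (one_mem P.M)
  rw [show (⟨1, one_mem P.M⟩ : ↥P.M) = 1 from rfl, map_one,
    S.D_supported hμ η 1 (by rw [orderOf_one]; norm_num)] at h
  have e : ((∑ χ, P.vec S μ η χ * (charDegree (χ : G → ℂ) : ℤ) : ℤ) : ℂ) = 0 := by
    rw [← h, Int.cast_sum]
    exact sum_congr rfl fun χ _ => by rw [Int.cast_mul, Int.cast_natCast, (charDegree_eq χ).1]
  exact_mod_cast e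

theorem vec_inv {μ : Φ.Lin} (hμ : S.Valid μ) (η : ↥S.E.E →* ℂˣ) {χ : IrrCharacter G}
    (hreal : ∀ g : G, conj ((χ : G → ℂ) g) = (χ : G → ℂ) g) :
    P.vec S μ⁻¹ η⁻¹ χ = P.vec S μ η χ := by
  have h : (P.vec S μ⁻¹ η⁻¹ χ : ℂ) = conj (P.vec S μ η χ : ℂ) := by
    rw [P.vec_spec S (hμ.inv S), P.vec_spec S hμ, P.coef_eq, P.coef_eq, map_mul, map_inv₀, map_natCast,
      map_sum]
    congr 1
    refine sum_congr rfl fun y _ => ?_
    rw [map_mul, S.D_conj, hreal, hreal]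
  rw [map_intCast] at h
  exact_mod_cast h

theorem neConj₄ (x : P.Quo) : Φ.tw x S.μ₄⁻¹ ≠ S.μ₄ := fun e =>
  Φ.tw_ne_inv S.sq₄ x ((inv_inv (Φ.tw x S.μ₄)).symm.trans (congrArg Inv.inv (Φ.tw_inv x S.μ₄ ▸ e)))

variable [Fintype (↥S.E.E →* ℂˣ)]

theorem agreeSet₄ (η : ↥S.E.E →* ℂˣ) {μ : Φ.Lin} (hμ : Φ.stabL μ = S.C) : S.agreeSet μ η = {η} := by
  ext θ
  rw [Frame.Seed.agreeSet, mem_filter, hμ, S.agree_C, mem_singleton]
  exact ⟨fun h => h.2.symm, fun h => ⟨mem_univ _, h.symm⟩⟩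

/-- The pairs of norm-two vectors. -/
noncomputable def pairsD : Pairs (↥S.E.E →* ℂˣ) (IrrCharacter G) where
  v₁ η := P.vec S S.μ₄ η
  v₂ η := P.vec S S.μ₄⁻¹ η
  deg χ := (charDegree (χ : G → ℂ) : ℤ)
  deg_pos χ := by
    have h1 := Char.irr_one_ne_zero χ
    rw [(charDegree_eq χ).1] at h1
    have : charDegree (χ : G → ℂ) ≠ 0 := fun e => h1 (by rw [e, Nat.cast_zero])
    omega
  norm₁ η := by
    refine Int.cast_injective (α := ℂ) ?_
    rw [P.sum_vec S S.valid₄ S.valid₄, S.inner_D_same S.valid₄, if_pos (S.agree_self _ _),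
      P.agreeSet₄ S η S.stab₄, card_singleton]
    norm_num
  norm₂ η := by
    refine Int.cast_injective (α := ℂ) ?_
    rw [P.sum_vec S (S.valid₄.inv S) (S.valid₄.inv S), S.inner_D_same (S.valid₄.inv S),
      if_pos (S.agree_self _ _), P.agreeSet₄ S η ((Φ.stabL_inv _).trans S.stab₄), card_singleton]
    norm_num
  zero₁ η := P.sum_vec_degree S S.valid₄ η
  zero₂ η := P.sum_vec_degree S (S.valid₄.inv S) η
  link η := by
    refine Int.cast_injective (α := ℂ) ?_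
    rw [P.sum_vec S S.valid₄ (S.valid₄.inv S), S.inner_D_full S.valid₄ (S.valid₄.inv S)
      ((Φ.stabL_inv _).trans S.stab₄) (P.neConj₄ S), if_pos (S.agree_self _ _), Int.cast_one]
  orth₁₁ η θ hne := by
    refine Int.cast_injective (α := ℂ) ?_
    rw [P.sum_vec S S.valid₄ S.valid₄, S.inner_D_same S.valid₄,
      if_neg fun h => hne (S.agree_C.1 (by rw [S.stab₄] at h; exact h)), Int.cast_zero]
  orth₁₂ η θ hne := by
    refine Int.cast_injective (α := ℂ) ?_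
    rw [P.sum_vec S S.valid₄ (S.valid₄.inv S), S.inner_D_full S.valid₄ (S.valid₄.inv S)
      ((Φ.stabL_inv _).trans S.stab₄) (P.neConj₄ S), if_neg fun h => hne (S.agree_C.1 (by rw [S.stab₄] at h; exact h)),
      Int.cast_zero]
  orth₂₂ η θ hne := by
    refine Int.cast_injective (α := ℂ) ?_
    rw [P.sum_vec S (S.valid₄.inv S) (S.valid₄.inv S), S.inner_D_same (S.valid₄.inv S),
      if_neg fun h => hne (S.agree_C.1 (by rw [Φ.stabL_inv, S.stab₄] at h; exact h)), Int.cast_zero]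

/-- The exceptional character. -/
noncomputable def exc : IrrCharacter G := (P.pairsD S).x 1

variable {χ : IrrCharacter G} (hreal : ∀ g : G, conj ((χ : G → ℂ) g) = (χ : G → ℂ) g)
  (hexc : χ ≠ P.exc S)

include hreal hexc

theorem vec₄_eq_zero (η : ↥S.E.E →* ℂˣ) : P.vec S S.μ₄ η χ = 0 ∧ P.vec S S.μ₄⁻¹ η χ = 0 :=
  (P.pairsD S).eq_zero_of_fixed (fun η => η⁻¹) (fun η h => S.eq_one_of_inv_eq h)
    (fun η => P.vec_inv S S.valid₄ η hreal) hexc (fun η => ⟨η⁻¹, inv_inv η⟩) η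

/-- The coefficients of the other functions vanish. -/
theorem vec_eq_zero {μ : Φ.Lin} (hμ : S.Valid μ) (η : ↥S.E.E →* ℂˣ)
    (hne : ∀ x, Φ.tw x S.μ₄ ≠ μ ∧ Φ.tw x S.μ₄⁻¹ ≠ μ) : P.vec S μ η χ = 0 := by
  have hne' : ∀ x, Φ.tw x S.μ₄ ≠ μ⁻¹ ∧ Φ.tw x S.μ₄⁻¹ ≠ μ⁻¹ := fun x => by
    refine ⟨fun e => (hne x).2 ?_, fun e => (hne x).1 ?_⟩
    · rw [Φ.tw_inv, e]; exact inv_inv μ
    · rw [Φ.tw_inv] at e; exact inv_injective e
  have hrow : ∀ (ν : Φ.Lin) (hν : S.Valid ν) (ρ : ↥S.E.E →* ℂˣ),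
      (∀ x, Φ.tw x S.μ₄ ≠ ν ∧ Φ.tw x S.μ₄⁻¹ ≠ ν) → ∀ θ,
        (∑ z, (P.pairsD S).v₁ θ z * P.vec S ν ρ z = if θ ∈ S.agreeSet ν ρ then 1 else 0) ∧
        (∑ z, (P.pairsD S).v₂ θ z * P.vec S ν ρ z = if θ ∈ S.agreeSet ν ρ then 1 else 0) := by
    intro ν hν ρ hn θ
    have hmem : θ ∈ S.agreeSet ν ρ ↔ S.agree (Φ.stabL ν) ρ θ := by
      rw [Frame.Seed.agreeSet, mem_filter]; exact ⟨fun h => h.2, fun h => ⟨mem_univ _, h⟩⟩
    constructor <;> refine Int.cast_injective (α := ℂ) ?_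
    · rw [sum_congr rfl fun z _ => mul_comm _ _]
      show ((∑ z, P.vec S ν ρ z * P.vec S S.μ₄ θ z : ℤ) : ℂ) = _
      rw [P.sum_vec S hν S.valid₄, S.inner_D_full hν S.valid₄ S.stab₄ fun x => (hn x).1]
      simp only [hmem]
      split_ifs <;> simp
    · rw [sum_congr rfl fun z _ => mul_comm _ _]
      show ((∑ z, P.vec S ν ρ z * P.vec S S.μ₄⁻¹ θ z : ℤ) : ℂ) = _
      rw [P.sum_vec S hν (S.valid₄.inv S),
        S.inner_D_full hν (S.valid₄.inv S) ((Φ.stabL_inv _).trans S.stab₄) fun x => (hn x).2]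
      simp only [hmem]
      split_ifs <;> simp
  have hnorm : ∀ (ν : Φ.Lin) (hν : S.Valid ν) (ρ : ↥S.E.E →* ℂˣ),
      ∑ z, P.vec S ν ρ z * P.vec S ν ρ z = ((S.agreeSet ν ρ).card : ℤ) + 1 := by
    intro ν hν ρ
    refine Int.cast_injective (α := ℂ) ?_
    rw [P.sum_vec S hν hν, S.inner_D_same hν, if_pos (S.agree_self _ _)]
    push_cast
    rfl
  refine (P.pairsD S).vanish (p := χ) (hnorm μ hμ η) (hnorm μ⁻¹ (hμ.inv S) η⁻¹)
    (fun θ => by convert (hrow μ hμ η hne θ).1) (fun θ => by convert (hrow μ hμ η hne θ).2)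
    (fun θ => by convert (hrow μ⁻¹ (hμ.inv S) η⁻¹ hne' θ).1)
    (fun θ => by convert (hrow μ⁻¹ (hμ.inv S) η⁻¹ hne' θ).2) ?_
    (fun θ => P.vec₄_eq_zero S hreal hexc θ) (P.vec_inv S hμ η hreal)
  refine Int.cast_injective (α := ℂ) ?_
  rw [P.sum_vec S hμ (hμ.inv S), S.inner_D_inv hμ]
  simp only [Frame.Seed.agreeSet, Φ.stabL_inv, ← filter_and]
  split_ifs with h
  · rw [Int.cast_natCast]
    congr 2
    exact filter_congr fun θ _ => ⟨fun h1 => ⟨h1, fun g hg => (h g hg).symm.trans (h1 g hg)⟩, fun h1 => h1.1⟩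
  · rw [filter_eq_empty_iff.2 fun θ _ h1 => h fun g hg => (h1.1 g hg).trans (h1.2 g hg).symm, card_empty]
    simp

variable {I : Ideal AlgInt} [I.IsMaximal] (hI : IsPModular 2 I) (hχ : χ ∈ principalBlock I G)

include hI hχ

omit hreal hexc in
theorem valE_class : IsClassFunction P.Quo (P.valE χ) := fun γ δ => by
  unfold valE
  rw [orderOf_cj]
  split_ifs with h
  · exact P.val_conj hI hχ h δ
  · rfl

omit hreal hexc in
theorem coef_valE {F : P.Quo → ℂ} (hs : Supported F) : P.coef F χ = classInner F (P.valE χ) := by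
  rw [P.coef_principal hI hχ hs, classInner, classInner]
  congr 1
  refine sum_congr rfl fun γ _ => ?_
  by_cases h : 2 ∣ orderOf γ
  · rw [valE, if_pos h]
  · rw [hs γ h, zero_mul, zero_mul]

/-- The sums against the nontrivial characters of `T` are all equal. -/
theorem fc_eq {μ : Φ.Lin} (hμ : μ ≠ 1) :
    Frame.Seed.fc (P.valE χ) μ = Frame.Seed.fc (P.valE χ) S.μ₂ := by
  have hF := P.valE_class hI hχ
  have hvalid : ∀ ν, S.Valid ν → (∀ η, P.vec S ν η χ = 0) →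
      Frame.Seed.fc (P.valE χ) ν = Frame.Seed.fc (P.valE χ) S.μ₂ := by
    intro ν hν h
    have h1 := S.sum_inner_D hF hν
    rw [sum_eq_zero fun η _ => by
      rw [← P.coef_valE hI hχ (S.D_supported hν η), ← P.vec_spec S hν, h, Int.cast_zero]] at h1
    have hne : (Nat.card ↥(Φ.stabL ν) : ℂ)⁻¹ * (Nat.card ↥S.E.E : ℂ) ≠ 0 :=
      mul_ne_zero (inv_ne_zero (Nat.cast_ne_zero.2 Nat.card_pos.ne')) (Nat.cast_ne_zero.2 Nat.card_pos.ne')
    exact (sub_eq_zero.1 ((mul_eq_zero.1 h1.symm).resolve_left hne)).symm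
  have h4 := hvalid _ S.valid₄ fun η => (P.vec₄_eq_zero S hreal hexc η).1
  have h4' := hvalid _ (S.valid₄.inv S) fun η => (P.vec₄_eq_zero S hreal hexc η).2
  by_cases hsq : μ * μ = 1
  · obtain ⟨g, hg⟩ := S.trans₂ μ hsq hμ
    rw [← Frame.Seed.fc_tw hF g μ, hg]
  -- a conjugate with a suitable power
  have hstep : ∀ (j : ℕ) (ν : Φ.Lin), ν ≠ 1 → ν ^ 2 ^ j = 1 →
      ∃ m : ℕ, ν ^ m ≠ 1 ∧ ν ^ m * ν ^ m = 1 := by
    intro j
    induction j with
    | zero =>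
      intro ν hν h
      exact absurd ((pow_one ν).symm.trans (by rw [← pow_zero 2]; exact h)) hν
    | succ j ih =>
      intro ν hν h
      by_cases h' : ν ^ 2 ^ j = 1
      · exact ih ν hν h'
      · refine ⟨2 ^ j, h', MonoidHom.ext fun s => ?_⟩
        have := DFunLike.congr_fun h s
        rw [MonoidHom.pow_apply, MonoidHom.one_apply, pow_succ, pow_mul, pow_two] at this
        rw [MonoidHom.mul_apply, MonoidHom.pow_apply, MonoidHom.one_apply]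
        exact this
  obtain ⟨j, hj⟩ : ∃ j, Nat.card ↥Φ.T = 2 ^ j := by
    haveI : Fact (Nat.Prime 2) := ⟨Nat.prime_two⟩
    exact IsPGroup.iff_card.1 Φ.two
  obtain ⟨m, hm1, hm2⟩ := hstep j μ hμ (MonoidHom.ext fun s => by
    rw [MonoidHom.pow_apply, ← map_pow, ← hj, pow_card_eq_one', map_one, MonoidHom.one_apply])
  obtain ⟨g, hg⟩ := S.trans₂ _ hm2 hm1
  rw [← Frame.Seed.fc_tw hF g μ]
  have hν : S.Valid (Φ.tw g μ) := by
    refine ⟨?_, fun e => hsq ?_⟩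
    · rw [Frame.Seed.C, ← S.stab₂, ← hg, Φ.tw_pow]
      exact Φ.stabL_pow _ m
    · rw [← Φ.tw_inv_tw g (μ * μ), Φ.tw_mul, e, Φ.tw_one_lin]
  by_cases hc : ∃ x, Φ.tw x S.μ₄ = Φ.tw g μ ∨ Φ.tw x S.μ₄⁻¹ = Φ.tw g μ
  · obtain ⟨x, e | e⟩ := hc
    · rw [← e, Frame.Seed.fc_tw hF, h4]
    · rw [← e, Frame.Seed.fc_tw hF, h4']
  · push Not at hc
    exact hvalid _ hν fun η => P.vec_eq_zero S hreal hexc hν η hc

/-- A real character of the principal block other than the exceptional one is constant on `S#`. -/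
theorem const_on_S {s s' : G} (hs : s ∈ (P.S : Subgroup G)) (hs' : s' ∈ (P.S : Subgroup G)) (hs1 : s ≠ 1)
    (hs1' : s' ≠ 1) (hΦ : Φ.T = P.TQ) : (χ : G → ℂ) s = (χ : G → ℂ) s' := by
  have key : ∀ z ∈ (P.S : Subgroup G), z ≠ 1 → ∃ γ : ↥Φ.T, γ ≠ 1 ∧ P.valE χ γ = (χ : G → ℂ) z := by
    intro z hz hz1
    have hmem : P.proj ⟨z, P.S_le_M hz⟩ ∈ Φ.T := hΦ ▸ P.mem_TQ.2 ⟨z, hz, rfl⟩
    refine ⟨⟨_, hmem⟩, fun e => hz1 (P.eq_one_of_mem_W hz (P.proj_eq_one.1 (congrArg Subtype.val e))), ?_⟩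
    have h2 : 2 ∣ orderOf z := by
      haveI : Fact (Nat.Prime 2) := ⟨Nat.prime_two⟩
      obtain ⟨k, hk⟩ := P.S.isPGroup' ⟨z, hz⟩
      obtain ⟨i, -, hi⟩ := (Nat.dvd_prime_pow Nat.prime_two).1
        (orderOf_dvd_of_pow_eq_one (congrArg Subtype.val hk))
      rcases Nat.eq_zero_or_pos i with h0 | h0
      · rw [h0, pow_zero, orderOf_eq_one_iff] at hi; exact absurd hi hz1
      · rw [hi]; exact dvd_pow_self 2 h0.ne'
    show P.valE χ (P.proj ⟨z, P.S_le_M hz⟩) = _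
    rw [valE, if_pos ((P.even_proj _).2 h2)]
    exact P.val_proj hI hχ ⟨z, P.S_le_M hz⟩ h2
  obtain ⟨γ, hγ, e⟩ := key s hs hs1
  obtain ⟨γ', hγ', e'⟩ := key s' hs' hs1'
  rw [← e, ← e']
  exact S.const_of_fc (fun μ hμ => P.fc_eq S hreal hexc hI hχ hμ) hγ hγ'

end Setup

end CfsgLib.AbelianSolv
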