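import Cfsg.Agent.Lib.OddConseq.AbelianSolv.Twist

/-!
# Extensions of linear characters of `T` and the functions induced from them
-/

set_option autoImplicit false
set_option linter.unusedSectionVars false
set_option linter.style.haveILetI false

open Finset
open scoped ComplexConjugate

namespace CfsgLib.AbelianSolv

open Cfsg CfsgLib.Char

universe u

open scoped Classical

namespace Frame.Seed

variable {Γ : Type u} [Group Γ] [Fintype Γ] {Φ : Frame Γ} {τ : Γ} (S : Seed Φ τ)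

/-- The centralizer of the involution. -/
abbrev C (_S : Seed Φ τ) : Subgroup Γ := Subgroup.centralizer ({τ} : Set Γ)

theorem T_le_C : Φ.T ≤ S.C := Φ.T_le_centralizer S.hτ

theorem E_le_C : S.E.E ≤ S.C := S.E.le

theorem exists_pr (g : ↥S.C) : ∃ x : ↥S.E.E, ∃ s ∈ Φ.T, (g : Γ) = s * x := by
  obtain ⟨s, hs, x, hx, h⟩ := S.E.split g g.2
  exact ⟨⟨x, hx⟩, s, hs, h⟩

/-- The projection of the centralizer on the complement. -/
noncomputable def π (g : Γ) : ↥S.E.E := if h : g ∈ S.C then (S.exists_pr ⟨g, h⟩).choose else 1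

theorem π_split {g : Γ} (hg : g ∈ S.C) : g * (S.π g : Γ)⁻¹ ∈ Φ.T := by
  rw [π, dif_pos hg]
  obtain ⟨s, hs, h⟩ := (S.exists_pr ⟨g, hg⟩).choose_spec
  have e : g * ((S.exists_pr ⟨g, hg⟩).choose : Γ)⁻¹ = s := mul_inv_eq_iff_eq_mul.2 h
  rw [e]; exact hs

theorem π_mul_eq {s : Γ} (hs : s ∈ Φ.T) (x : ↥S.E.E) : S.π (s * x) = x := by
  have hg : s * (x : Γ) ∈ S.C := mul_mem (S.T_le_C hs) (S.E_le_C x.2)
  refine Subtype.ext ?_
  exact (S.E.unique (S.π_split hg) hs (S.π _).2 x.2 (inv_mul_cancel_right _ _)).2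

theorem π_T {s : Γ} (hs : s ∈ Φ.T) : S.π s = 1 := by
  have := S.π_mul_eq hs 1
  rwa [Subgroup.coe_one, mul_one] at this

theorem π_mul {a b : Γ} (ha : a ∈ S.C) (hb : b ∈ S.C) : S.π (a * b) = S.π a * S.π b := by
  have e : a * b = (a * (S.π a : Γ)⁻¹ * ((S.π a : Γ) * (b * (S.π b : Γ)⁻¹) * (S.π a : Γ)⁻¹)) *
      ((S.π a * S.π b : ↥S.E.E) : Γ) := by
    rw [Subgroup.coe_mul]; group
  nth_rewrite 1 [e]
  exact S.π_mul_eq (mul_mem (S.π_split ha) (Φ.normal.conj_mem _ (S.π_split hb) _)) _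

theorem π_conj {a x : Γ} (ha : a ∈ S.C) (hx : x ∈ S.C) : S.π (x⁻¹ * a * x) = S.π a := by
  rw [S.π_mul (mul_mem (inv_mem hx) ha) hx, S.π_mul (inv_mem hx) ha, S.commE (S.π x⁻¹), mul_assoc,
    ← S.π_mul (inv_mem hx) hx, inv_mul_cancel, S.π_T (one_mem _), mul_one]

/-- The extension of a character of `T` by a character of the complement. -/
noncomputable def ext (μ : Φ.Lin) (η : ↥S.E.E →* ℂˣ) (g : Γ) : ℂ :=
  if h : g ∈ S.C then (μ ⟨g * (S.π g : Γ)⁻¹, S.π_split h⟩ : ℂ) * (η (S.π g) : ℂ) else 0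

theorem ext_eq (μ : Φ.Lin) (η : ↥S.E.E →* ℂˣ) {s : Γ} (hs : s ∈ Φ.T) (x : ↥S.E.E) :
    S.ext μ η (s * x) = (μ ⟨s, hs⟩ : ℂ) * (η x : ℂ) := by
  have hg : s * (x : Γ) ∈ S.C := mul_mem (S.T_le_C hs) (S.E_le_C x.2)
  rw [ext, dif_pos hg]
  have h : S.π (s * x) = x := S.π_mul_eq hs x
  congr 2
  · congr 1
    exact Subtype.ext (by show s * (x : Γ) * (S.π (s * x) : Γ)⁻¹ = s; rw [h, mul_inv_cancel_right])
  · rw [h]

theorem ext_T (μ : Φ.Lin) (η : ↥S.E.E →* ℂˣ) (s : ↥Φ.T) : S.ext μ η s = (μ s : ℂ) := by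
  have := S.ext_eq μ η s.2 1
  simpa using this

theorem ext_mul {μ : Φ.Lin} (η : ↥S.E.E →* ℂˣ) {a b : Γ} (ha : a ∈ S.C) (ha' : a ∈ Φ.stabL μ)
    (hb : b ∈ S.C) : S.ext μ η (a * b) = S.ext μ η a * S.ext μ η b := by
  obtain ⟨s, hs, x, hx, rfl⟩ := S.E.split a ha
  obtain ⟨s', hs', x', hx', rfl⟩ := S.E.split b hb
  have hxs : x ∈ Φ.stabL μ := by
    have := mul_mem (inv_mem (Φ.T_le_stabL μ hs)) ha'
    rwa [inv_mul_cancel_left] at this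
  have hc : x * s' * x⁻¹ ∈ Φ.T := Φ.normal.conj_mem _ hs' x
  rw [show s * x * (s' * x') = (s * (x * s' * x⁻¹)) * ((⟨x, hx⟩ * ⟨x', hx'⟩ : ↥S.E.E) : Γ) by
    rw [Subgroup.coe_mul]; group, S.ext_eq μ η (mul_mem hs hc), S.ext_eq μ η hs ⟨x, hx⟩,
    S.ext_eq μ η hs' ⟨x', hx'⟩, show (⟨s * (x * s' * x⁻¹), mul_mem hs hc⟩ : ↥Φ.T) = ⟨s, hs⟩ * ⟨_, hc⟩ from rfl,
    map_mul, map_mul, show μ ⟨x * s' * x⁻¹, hc⟩ = μ ⟨s', hs'⟩ from DFunLike.congr_fun hxs ⟨s', hs'⟩]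
  push_cast
  ring

theorem ext_smul (μ : Φ.Lin) (η : ↥S.E.E →* ℂˣ) (s : ↥Φ.T) {g : Γ} (hg : g ∈ S.C) :
    S.ext μ η (s * g) = (μ s : ℂ) * S.ext μ η g := by
  rw [S.ext_mul η (S.T_le_C s.2) (Φ.T_le_stabL μ s.2) hg, S.ext_T]

theorem ext_one (μ : Φ.Lin) (η : ↥S.E.E →* ℂˣ) : S.ext μ η 1 = 1 := by
  have := S.ext_T μ η 1
  simpa using this

theorem ext_conj (μ : Φ.Lin) (η : ↥S.E.E →* ℂˣ) (g : Γ) :
    conj (S.ext μ η g) = S.ext μ⁻¹ η⁻¹ g := by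
  letI := Fintype.ofFinite ↥Φ.T
  unfold ext
  split_ifs with h
  · rw [map_mul, CfsgLib.BSW.dual_conj, map_inv, MonoidHom.inv_apply, MonoidHom.inv_apply]
    congr 1
    have h1 := Char.irr_inv (⟨fun g => (η g : ℂ), Char.isIrrCharacter_lin η⟩ : IrrCharacter ↥S.E.E) (S.π g)
    rw [← map_inv]
    exact h1.symm
  · exact map_zero _

theorem ext_mul_conj (μ : Φ.Lin) (η θ : ↥S.E.E →* ℂˣ) {g : Γ} (hg : g ∈ S.C) :
    S.ext μ η g * conj (S.ext μ θ g) = (η (S.π g) : ℂ) * conj (θ (S.π g) : ℂ) := by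
  rw [ext, dif_pos hg, ext, dif_pos hg, map_mul]
  linear_combination ((η (S.π g) : ℂ) * conj (θ (S.π g) : ℂ)) * Φ.val_mul_conj μ ⟨_, S.π_split hg⟩

/-- An extension as a linear character of a subgroup of the stabilizer. -/
noncomputable def linExt (μ : Φ.Lin) (η : ↥S.E.E →* ℂˣ) {H : Subgroup Γ} (hC : H ≤ S.C)
    (hs : H ≤ Φ.stabL μ) : ↥H →* ℂˣ :=
  MonoidHom.toHomUnits
    { toFun := fun y => S.ext μ η y
      map_one' := S.ext_one μ η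
      map_mul' := fun a b => S.ext_mul η (hC a.2) (hs a.2) (hC b.2) }

theorem isCharacter_ext (μ : Φ.Lin) (η : ↥S.E.E →* ℂˣ) {H : Subgroup Γ} (hC : H ≤ S.C)
    (hs : H ≤ Φ.stabL μ) : IsCharacter ↥H (fun y => S.ext μ η y) :=
  isCharacter_of_isIrr (isIrrCharacter_lin (S.linExt μ η hC hs))

/-- On an element of odd order an extension is the character of the complement. -/
theorem ext_odd {μ : Φ.Lin} (η : ↥S.E.E →* ℂˣ) {g : Γ} (hg : g ∈ S.C) (hs : g ∈ Φ.stabL μ)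
    (hodd : ¬ 2 ∣ orderOf g) : S.ext μ η g = (η (S.π g) : ℂ) := by
  obtain ⟨m, hm⟩ : ∃ m, m = orderOf g * Nat.card ↥S.E.E := ⟨_, rfl⟩
  have hpow : ∀ j, S.ext μ η (g ^ j) = S.ext μ η g ^ j := by
    intro j
    induction j with
    | zero => simp [S.ext_one]
    | succ j ih => rw [pow_succ', S.ext_mul η hg hs (pow_mem hg j), ih, pow_succ']
  have h1 : S.ext μ η g ^ m = 1 := by
    rw [← hpow, hm, pow_mul, pow_orderOf_eq_one, one_pow, S.ext_one]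
  obtain ⟨z, hz⟩ : ∃ z, z = μ ⟨g * (S.π g : Γ)⁻¹, S.π_split hg⟩ := ⟨_, rfl⟩
  have hη : (η (S.π g) : ℂ) ^ m = 1 := by
    rw [← Units.val_pow_eq_pow_val, ← map_pow, hm, mul_comm, pow_mul, pow_card_eq_one', one_pow, map_one,
      Units.val_one]
  have hzm : z ^ m = 1 := by
    rw [ext, dif_pos hg, mul_pow, hη, mul_one, ← hz] at h1
    exact Units.ext (by rw [Units.val_pow_eq_pow_val]; exact h1)
  have hzq : z ^ Nat.card ↥Φ.T = 1 := by rw [hz, ← map_pow, pow_card_eq_one', map_one]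
  have hcop : Nat.Coprime m (Nat.card ↥Φ.T) := by
    haveI : Fact (Nat.Prime 2) := ⟨Nat.prime_two⟩
    obtain ⟨k, hk⟩ := IsPGroup.iff_card.1 Φ.two
    rw [hk]
    refine (((Nat.prime_two.coprime_iff_not_dvd).2 fun h => ?_).pow_left k).symm
    rcases (Nat.prime_two.dvd_mul).1 (hm ▸ h) with h | h
    · exact hodd h
    · exact S.E.odd_card h
  have hz1 : z = 1 := orderOf_eq_one_iff.1 (Nat.eq_one_of_dvd_coprimes hcop (orderOf_dvd_of_pow_eq_one hzm)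
    (orderOf_dvd_of_pow_eq_one hzq))
  rw [ext, dif_pos hg, ← hz, hz1, Units.val_one, one_mul]

/-- The function induced from an extension. -/
noncomputable def Ind (H : Subgroup Γ) (μ : Φ.Lin) (η : ↥S.E.E →* ℂˣ) : Γ → ℂ :=
  indFun H (fun y : ↥H => S.ext μ η y)

theorem inner_expand (H K : Subgroup Γ) (μ ν : Φ.Lin) (η θ : ↥S.E.E →* ℂˣ) :
    classInner (S.Ind H μ η) (S.Ind K ν θ) = (Nat.card ↥H : ℂ)⁻¹ * (Nat.card ↥K : ℂ)⁻¹ *
      ∑ x : Γ, ∑ h : ↥H, S.ext μ η h *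
        conj (extendByZero K (fun y : ↥K => S.ext ν θ y) (x⁻¹ * (h : Γ) * x)) := by
  unfold Ind
  rw [classInner_indFun H _ _ (isClassFunction_indFun _ _), classInner, mul_assoc]
  congr 1
  rw [mul_sum, sum_congr rfl fun h _ => show _ = ∑ x : Γ, (Nat.card ↥K : ℂ)⁻¹ *
      (S.ext μ η (h : ↥H) * conj (extendByZero K (fun y : ↥K => S.ext ν θ y) (x⁻¹ * (h : Γ) * x))) by
    rw [indFun, map_mul, map_inv₀, map_natCast, map_sum, mul_sum, mul_sum]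
    exact sum_congr rfl fun y _ => by ring, sum_comm]
  exact sum_congr rfl fun x _ => (mul_sum _ _ _).symm

theorem term_zero {H K : Subgroup Γ} (hTH : Φ.T ≤ H) (hTK : Φ.T ≤ K) (hHC : H ≤ S.C) (hKC : K ≤ S.C)
    (μ ν : Φ.Lin) (η θ : ↥S.E.E →* ℂˣ) {x : Γ} (hne : Φ.tw x⁻¹ ν ≠ μ) :
    ∑ h : ↥H, S.ext μ η h * conj (extendByZero K (fun y : ↥K => S.ext ν θ y) (x⁻¹ * (h : Γ) * x)) = 0 := by
  obtain ⟨X, hX⟩ : ∃ X, X = ∑ h : ↥H, S.ext μ η h *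
      conj (extendByZero K (fun y : ↥K => S.ext ν θ y) (x⁻¹ * (h : Γ) * x)) := ⟨_, rfl⟩
  obtain ⟨s, hs⟩ : ∃ s : ↥Φ.T, Φ.tw x⁻¹ ν s ≠ μ s := by
    by_contra hc
    push Not at hc
    exact hne (MonoidHom.ext hc)
  obtain ⟨c, hc⟩ : ∃ c : ℂ, c = (μ s : ℂ) * conj (Φ.tw x⁻¹ ν s : ℂ) := ⟨_, rfl⟩
  have hc1 : c ≠ 1 := fun e => hs (Units.ext (by
    have h1 := Φ.val_mul_conj (Φ.tw x⁻¹ ν) s
    calc (Φ.tw x⁻¹ ν s : ℂ) = c * (Φ.tw x⁻¹ ν s : ℂ) := by rw [e, one_mul]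
      _ = (μ s : ℂ) * ((Φ.tw x⁻¹ ν s : ℂ) * conj (Φ.tw x⁻¹ ν s : ℂ)) := by rw [hc]; ring
      _ = (μ s : ℂ) := by rw [h1, mul_one]))
  have h : c * X = X := by
    rw [hX, mul_sum]
    refine Fintype.sum_equiv (Equiv.mulLeft (⟨s, hTH s.2⟩ : ↥H)) _ _ fun h => ?_
    show c * _ = S.ext μ η ((s : Γ) * h) * conj (extendByZero K _ (x⁻¹ * ((s : Γ) * h) * x))
    rw [S.ext_smul μ η s (hHC h.2), hc]
    have hsx : x⁻¹ * (s : Γ) * x ∈ Φ.T := by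
      simpa using Φ.normal.conj_mem _ s.2 x⁻¹
    rw [show x⁻¹ * ((s : Γ) * h) * x = (x⁻¹ * (s : Γ) * x) * (x⁻¹ * (h : Γ) * x) by group]
    by_cases hm : x⁻¹ * (h : Γ) * x ∈ K
    · rw [extendByZero_mem K _ hm, extendByZero_mem K _ (mul_mem (hTK hsx) hm)]
      show _ = _ * conj (S.ext ν θ (((⟨_, hsx⟩ : ↥Φ.T) : Γ) * _))
      rw [S.ext_smul ν θ _ (hKC hm), map_mul, tw_apply]
      simp only [inv_inv]
      ring
    · rw [extendByZero_not_mem K _ hm, extendByZero_not_mem K _ fun e => hm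
        (by have := mul_mem (inv_mem (hTK hsx)) e; rwa [inv_mul_cancel_left] at this)]
      simp
  rw [← hX]
  have h2 : (c - 1) * X = 0 := by rw [sub_mul, h, one_mul, sub_self]
  exact (mul_eq_zero.1 h2).resolve_left (sub_ne_zero.2 hc1)

theorem inner_zero {H K : Subgroup Γ} (hTH : Φ.T ≤ H) (hTK : Φ.T ≤ K) (hHC : H ≤ S.C) (hKC : K ≤ S.C)
    {μ ν : Φ.Lin} (η θ : ↥S.E.E →* ℂˣ) (hne : ∀ x, Φ.tw x ν ≠ μ) :
    classInner (S.Ind H μ η) (S.Ind K ν θ) = 0 := by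
  rw [S.inner_expand, sum_eq_zero fun x _ => S.term_zero hTH hTK hHC hKC μ ν η θ (hne _), mul_zero]

theorem inner_same {H K : Subgroup Γ} (hTH : Φ.T ≤ H) (hTK : Φ.T ≤ K) (hHC : H ≤ S.C) (hKC : K ≤ S.C)
    (μ : Φ.Lin) (η θ : ↥S.E.E →* ℂˣ)
    (hcj : ∀ x ∈ Φ.stabL μ, ∀ h ∈ H, x⁻¹ * h * x ∈ K ∧ S.ext μ θ (x⁻¹ * h * x) = S.ext μ θ h) :
    classInner (S.Ind H μ η) (S.Ind K μ θ) = (Nat.card ↥(Φ.stabL μ) : ℂ) / (Nat.card ↥K : ℂ) *
      classInner (fun h : ↥H => (η (S.π h) : ℂ)) (fun h : ↥H => (θ (S.π h) : ℂ)) := by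
  rw [S.inner_expand, ← sum_filter_add_sum_filter_not univ (fun x => x ∈ Φ.stabL μ),
    sum_eq_zero (s := univ.filter fun x => ¬ x ∈ Φ.stabL μ) fun x hx => S.term_zero hTH hTK hHC hKC μ μ η θ
      fun e => (mem_filter.1 hx).2 (inv_mem_iff.1 (Φ.mem_stabL.2 e)), add_zero,
    sum_congr rfl (g := fun _ => ∑ h : ↥H, (η (S.π h) : ℂ) * conj (θ (S.π h) : ℂ)) fun x hx => ?_,
    sum_const, nsmul_eq_mul, classInner, ← Fintype.card_subtype, ← Nat.card_eq_fintype_card]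
  · ring
  · refine sum_congr rfl fun h _ => ?_
    obtain ⟨h1, h2⟩ := hcj x (mem_filter.1 hx).2 h h.2
    rw [extendByZero_mem K _ h1, h2, S.ext_mul_conj μ η θ (hHC h.2)]

/-- Agreement of two characters of the complement on a subgroup. -/
def agree (H : Subgroup Γ) (η θ : ↥S.E.E →* ℂˣ) : Prop := ∀ h ∈ H, η (S.π h) = θ (S.π h)

theorem agree_self (H : Subgroup Γ) (η : ↥S.E.E →* ℂˣ) : S.agree H η η := fun _ _ => rfl

theorem agree_C {η θ : ↥S.E.E →* ℂˣ} : S.agree S.C η θ ↔ η = θ := by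
  refine ⟨fun h => MonoidHom.ext fun x => ?_, fun h g _ => by rw [h]⟩
  have e : S.π (x : Γ) = x := by
    have := S.π_mul_eq (one_mem _) x
    rwa [one_mul] at this
  have h1 := h x (S.E_le_C x.2)
  rwa [e] at h1

theorem classInner_agree {H : Subgroup Γ} (hHC : H ≤ S.C) (η θ : ↥S.E.E →* ℂˣ) :
    classInner (fun h : ↥H => (η (S.π h) : ℂ)) (fun h : ↥H => (θ (S.π h) : ℂ)) =
      if S.agree H η θ then 1 else 0 := by
  let p : ↥H →* ↥S.E.E :=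
    { toFun := fun h => S.π h
      map_one' := S.π_T (one_mem _)
      map_mul' := fun a b => S.π_mul (hHC a.2) (hHC b.2) }
  rw [show classInner (fun h : ↥H => (η (S.π h) : ℂ)) (fun h : ↥H => (θ (S.π h) : ℂ)) = _ from
    Char.classInner_irr (⟨_, isIrrCharacter_lin (η.comp p)⟩ : IrrCharacter ↥H)
      ⟨_, isIrrCharacter_lin (θ.comp p)⟩]
  refine if_congr ⟨fun h g hg => ?_, fun h => Subtype.ext (funext fun g => ?_)⟩ rfl rfl
  · exact Units.ext (congrFun (congrArg Subtype.val h) ⟨g, hg⟩)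
  · exact congrArg Units.val (h g g.2)

theorem inner_agree {H K : Subgroup Γ} (hTH : Φ.T ≤ H) (hHK : H ≤ K) {μ : Φ.Lin}
    (hKL : K ≤ Φ.stabL μ) (hL : Φ.stabL μ ≤ S.C) (η θ : ↥S.E.E →* ℂˣ) :
    classInner (S.Ind H μ η) (S.Ind K μ θ) = (Nat.card ↥(Φ.stabL μ) : ℂ) / (Nat.card ↥K : ℂ) *
      if S.agree H η θ then 1 else 0 := by
  rw [S.inner_same hTH (hTH.trans hHK) ((hHK.trans hKL).trans hL) (hKL.trans hL) μ η θ, S.classInner_agree ((hHK.trans hKL).trans hL)]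
  intro x hx h hh
  have hhC : h ∈ S.C := hL (hKL (hHK hh))
  refine ⟨?_, ?_⟩
  · have hy : x⁻¹ * h * x ∈ S.C := mul_mem (mul_mem (inv_mem (hL hx)) hhC) (hL hx)
    have h1 := S.π_split hy
    rw [S.π_conj hhC (hL hx)] at h1
    have h2 := mul_mem h1 (inv_mem (S.π_split hhC))
    rw [mul_inv_rev, inv_inv, mul_assoc, inv_mul_cancel_left] at h2
    have := mul_mem (hTH.trans hHK h2) (hHK hh)
    rwa [inv_mul_cancel_right] at this
  · have hhL : h ∈ Φ.stabL μ := hKL (hHK hh)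
    rw [S.ext_mul θ (mul_mem (inv_mem (hL hx)) hhC) (mul_mem (inv_mem hx) hhL) (hL hx),
      S.ext_mul θ (inv_mem (hL hx)) (inv_mem hx) hhC, mul_right_comm,
      ← S.ext_mul θ (inv_mem (hL hx)) (inv_mem hx) (hL hx), inv_mul_cancel, S.ext_one, one_mul]

theorem inner_T (μ : Φ.Lin) :
    classInner (S.Ind Φ.T μ 1) (S.Ind Φ.T μ 1) =
      (Nat.card ↥(Φ.stabL μ) : ℂ) / (Nat.card ↥Φ.T : ℂ) := by
  rw [S.inner_same le_rfl le_rfl S.T_le_C S.T_le_C μ 1 1, S.classInner_agree S.T_le_C,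
    if_pos (show S.agree Φ.T 1 1 from fun _ _ => rfl), mul_one]
  intro x hx h hh
  have hm : x⁻¹ * h * x ∈ Φ.T := by simpa using Φ.normal.conj_mem _ hh x⁻¹
  refine ⟨hm, ?_⟩
  have e : Φ.tw x⁻¹ μ = μ := Φ.mem_stabL.1 (inv_mem hx)
  show S.ext μ 1 ((⟨_, hm⟩ : ↥Φ.T) : Γ) = S.ext μ 1 ((⟨h, hh⟩ : ↥Φ.T) : Γ)
  rw [S.ext_T, S.ext_T]
  nth_rewrite 2 [← e]
  rw [tw_apply]
  simp only [inv_inv]

/-- The characters of the complement agreeing with `η` on the stabilizer of `μ`. -/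
noncomputable def agreeSet [Fintype (↥S.E.E →* ℂˣ)] (μ : Φ.Lin) (η : ↥S.E.E →* ℂˣ) :
    Finset (↥S.E.E →* ℂˣ) :=
  univ.filter fun θ => S.agree (Φ.stabL μ) η θ

theorem sum_ext [Fintype (↥S.E.E →* ℂˣ)] (μ : Φ.Lin) {g : Γ} (hg : g ∈ S.C) :
    ∑ θ : ↥S.E.E →* ℂˣ, (θ (S.π g) : ℂ) = if g ∈ Φ.T then (Nat.card ↥S.E.E : ℂ) else 0 := by
  letI : CommGroup ↥S.E.E := { (inferInstance : Group ↥S.E.E) with mul_comm := S.commE }
  split_ifs with h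
  · rw [S.π_T h, sum_congr rfl (g := fun _ => (1 : ℂ)) fun θ _ => by rw [map_one, Units.val_one],
      sum_const, card_univ, nsmul_one, ← Nat.card_eq_fintype_card, CfsgLib.BSW.card_dual]
  · convert CfsgLib.BSW.sum_dual (K := ↥S.E.E) (y := S.π g) (fun e => h ?_) using 3
    have := S.π_split hg
    rwa [e, Subgroup.coe_one, inv_one, mul_one] at this

theorem card_agreeSet [Fintype (↥S.E.E →* ℂˣ)] {μ : Φ.Lin} (hL : Φ.stabL μ ≤ S.C) (η : ↥S.E.E →* ℂˣ) :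
    ((S.agreeSet μ η).card : ℂ) * (Nat.card ↥(Φ.stabL μ) : ℂ) = (Nat.card ↥S.C : ℂ) := by
  have h : ((S.agreeSet μ η).card : ℂ) = ∑ θ : ↥S.E.E →* ℂˣ,
      classInner (fun h : ↥(Φ.stabL μ) => (η (S.π h) : ℂ)) (fun h => (θ (S.π h) : ℂ)) := by
    rw [sum_congr rfl fun θ _ => S.classInner_agree hL η θ, sum_boole, agreeSet]
  simp only [classInner, ← mul_sum] at h
  rw [sum_comm, sum_congr rfl (g := fun g : ↥(Φ.stabL μ) => if (g : Γ) ∈ Φ.T then (Nat.card ↥S.E.E : ℂ) else 0)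
    fun g _ => by
      rw [← mul_sum, ← map_sum, S.sum_ext μ (hL g.2)]
      split_ifs with hg
      · rw [S.π_T hg, map_one, Units.val_one, one_mul, map_natCast]
      · simp, ← sum_filter, sum_const, nsmul_eq_mul] at h
  have hcard : (univ.filter fun g : ↥(Φ.stabL μ) => (g : Γ) ∈ Φ.T).card = Nat.card ↥Φ.T := by
    rw [← Fintype.card_subtype, ← Nat.card_eq_fintype_card]
    exact Nat.card_congr (Subgroup.subgroupOfEquivOfLe (Φ.T_le_stabL μ)).toEquiv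
  rw [hcard, ← Nat.cast_mul (Nat.card ↥Φ.T), S.E.card_mul S.hτ] at h
  rw [h, mul_comm, ← mul_assoc, mul_inv_cancel₀ (Nat.cast_ne_zero.2 Nat.card_pos.ne'), one_mul]

/-- The difference of the inductions of two extensions. -/
noncomputable def D (μ : Φ.Lin) (η : ↥S.E.E →* ℂˣ) : Γ → ℂ :=
  S.Ind (Φ.stabL μ) S.μ₂ η - S.Ind (Φ.stabL μ) μ η

/-- A character of order at least three whose stabilizer centralizes the involution. -/
def Valid (μ : Φ.Lin) : Prop := Φ.stabL μ ≤ S.C ∧ μ * μ ≠ 1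

theorem valid₄ : S.Valid S.μ₄ := ⟨S.stab₄.le, S.sq₄⟩

theorem inv_sq {μ : Φ.Lin} (h : μ * μ ≠ 1) : μ⁻¹ * μ⁻¹ ≠ 1 := fun e => h (MonoidHom.ext fun s => by
  have h1 := DFunLike.congr_fun e s
  rw [MonoidHom.mul_apply, MonoidHom.inv_apply, MonoidHom.one_apply, ← mul_inv_rev, inv_eq_one] at h1
  exact h1)

theorem Valid.inv {μ : Φ.Lin} (h : S.Valid μ) : S.Valid μ⁻¹ :=
  ⟨(Φ.stabL_inv μ).le.trans h.1, inv_sq h.2⟩

theorem valid₂ {μ : Φ.Lin} (h : S.Valid μ) : Φ.stabL μ ≤ Φ.stabL S.μ₂ := h.1.trans S.stab₂.ge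

theorem D_generalized {μ : Φ.Lin} (h : S.Valid μ) (η : ↥S.E.E →* ℂˣ) :
    IsGeneralizedCharacter Γ (S.D μ η) := by
  unfold D Ind
  rw [← indFun_sub]
  exact isGeneralizedCharacter_indFun _ ⟨_, _, S.isCharacter_ext _ η h.1 (S.valid₂ h),
    S.isCharacter_ext _ η h.1 le_rfl, rfl⟩

theorem D_class (μ : Φ.Lin) (η : ↥S.E.E →* ℂˣ) : IsClassFunction Γ (S.D μ η) := fun g k => by
  simp only [D, Ind, Pi.sub_apply, isClassFunction_indFun (G := Γ) _ _ g k]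

theorem D_supported {μ : Φ.Lin} (h : S.Valid μ) (η : ↥S.E.E →* ℂˣ) : Supported (S.D μ η) := by
  intro γ hγ
  unfold D Ind
  rw [← indFun_sub, indFun, sum_eq_zero fun x _ => ?_, mul_zero]
  by_cases hm : x⁻¹ * γ * x ∈ Φ.stabL μ
  · have ho : ¬ 2 ∣ orderOf (x⁻¹ * γ * x) := by
      have := orderOf_cj γ x⁻¹
      rw [inv_inv] at this
      rwa [this]
    rw [extendByZero_mem _ _ hm, Pi.sub_apply, S.ext_odd η (h.1 hm) (S.valid₂ h hm) ho,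
      S.ext_odd η (h.1 hm) hm ho, sub_self]
  · exact extendByZero_not_mem _ _ hm

theorem Ind_conj (H : Subgroup Γ) (μ : Φ.Lin) (η : ↥S.E.E →* ℂˣ) (γ : Γ) :
    conj (S.Ind H μ η γ) = S.Ind H μ⁻¹ η⁻¹ γ := by
  unfold Ind indFun
  rw [map_mul, map_inv₀, map_natCast, map_sum]
  congr 1
  refine sum_congr rfl fun x _ => ?_
  by_cases hm : x⁻¹ * γ * x ∈ H
  · rw [extendByZero_mem _ _ hm, extendByZero_mem _ _ hm, S.ext_conj]
  · rw [extendByZero_not_mem _ _ hm, extendByZero_not_mem _ _ hm, map_zero]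

theorem D_conj (μ : Φ.Lin) (η : ↥S.E.E →* ℂˣ) (γ : Γ) :
    conj (S.D μ η γ) = S.D μ⁻¹ η⁻¹ γ := by
  have e2 : S.μ₂⁻¹ = S.μ₂ := MonoidHom.ext fun s => by
    rw [MonoidHom.inv_apply, inv_eq_iff_mul_eq_one, ← MonoidHom.mul_apply, S.sq₂, MonoidHom.one_apply]
  simp only [D, Pi.sub_apply, map_sub, S.Ind_conj, Φ.stabL_inv, e2]

theorem ne_μ₂ {ν : Φ.Lin} (h : ν * ν ≠ 1) (x : Γ) : Φ.tw x ν ≠ S.μ₂ ∧ Φ.tw x S.μ₂ ≠ ν := by
  refine ⟨fun e => h ?_, fun e => h ?_⟩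
  · rw [← Φ.tw_inv_tw x (ν * ν), tw_mul, e, S.sq₂, tw_one_lin]
  · rw [← e, ← tw_mul, S.sq₂, tw_one_lin]

theorem inner_D {μ ν : Φ.Lin} (hμ : S.Valid μ) (hν : S.Valid ν) (η θ : ↥S.E.E →* ℂˣ) :
    classInner (S.D μ η) (S.D ν θ) =
      classInner (S.Ind (Φ.stabL μ) S.μ₂ η) (S.Ind (Φ.stabL ν) S.μ₂ θ) +
      classInner (S.Ind (Φ.stabL μ) μ η) (S.Ind (Φ.stabL ν) ν θ) := by
  unfold D
  rw [classInner_sub_left, classInner_sub_right, classInner_sub_right,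
    S.inner_zero (Φ.T_le_stabL μ) (Φ.T_le_stabL ν) hμ.1 hν.1 η θ fun x => (S.ne_μ₂ hν.2 x).1,
    S.inner_zero (Φ.T_le_stabL μ) (Φ.T_le_stabL ν) hμ.1 hν.1 η θ fun x => (S.ne_μ₂ hμ.2 x).2]
  ring

/-- Two functions with the same pair of characters. -/
theorem inner_D_same [Fintype (↥S.E.E →* ℂˣ)] {μ : Φ.Lin} (hμ : S.Valid μ) (η θ : ↥S.E.E →* ℂˣ) :
    classInner (S.D μ η) (S.D μ θ) =
      if S.agree (Φ.stabL μ) η θ then ((S.agreeSet μ η).card : ℂ) + 1 else 0 := by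
  have hL : (Nat.card ↥(Φ.stabL μ) : ℂ) ≠ 0 := Nat.cast_ne_zero.2 Nat.card_pos.ne'
  rw [S.inner_D hμ hμ, S.inner_agree (Φ.T_le_stabL μ) le_rfl (S.valid₂ hμ) S.stab₂.le,
    S.inner_agree (Φ.T_le_stabL μ) le_rfl le_rfl hμ.1, S.stab₂, ← S.card_agreeSet hμ.1 η]
  split_ifs <;> field_simp
  ring

/-- The inner product with a function of full stabilizer. -/
theorem inner_D_full {μ ν : Φ.Lin} (hμ : S.Valid μ) (hν : S.Valid ν) (hfull : Φ.stabL ν = S.C)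
    (hne : ∀ x, Φ.tw x ν ≠ μ) (η θ : ↥S.E.E →* ℂˣ) :
    classInner (S.D μ η) (S.D ν θ) = if S.agree (Φ.stabL μ) η θ then 1 else 0 := by
  rw [S.inner_D hμ hν, S.inner_zero (Φ.T_le_stabL μ) (Φ.T_le_stabL ν) hμ.1 hν.1 η θ hne, add_zero,
    S.inner_agree (Φ.T_le_stabL μ) (hμ.1.trans hfull.ge) (S.valid₂ hν) S.stab₂.le, hfull, S.stab₂,
    div_self (Nat.cast_ne_zero.2 Nat.card_pos.ne'), one_mul]

/-- The inner product with the conjugate. -/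
theorem inner_D_inv [Fintype (↥S.E.E →* ℂˣ)] {μ : Φ.Lin} (hμ : S.Valid μ) (η : ↥S.E.E →* ℂˣ) :
    classInner (S.D μ η) (S.D μ⁻¹ η⁻¹) =
      if S.agree (Φ.stabL μ) η η⁻¹ then ((S.agreeSet μ η).card : ℂ) else 0 := by
  have hne : ∀ x, Φ.tw x μ⁻¹ ≠ μ := fun x e => by
    have h1 := Φ.tw_inv x μ
    rw [e] at h1
    exact Φ.tw_ne_inv hμ.2 x ((inv_inv (Φ.tw x μ)).symm.trans (congrArg Inv.inv h1.symm))
  have hL : (Nat.card ↥(Φ.stabL μ) : ℂ) ≠ 0 := Nat.cast_ne_zero.2 Nat.card_pos.ne'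
  rw [S.inner_D hμ (hμ.inv S), S.inner_zero (Φ.T_le_stabL μ) (Φ.T_le_stabL _) hμ.1 (hμ.inv S).1 η η⁻¹ hne,
    add_zero, Φ.stabL_inv, S.inner_agree (Φ.T_le_stabL μ) le_rfl (S.valid₂ hμ) S.stab₂.le, S.stab₂,
    ← S.card_agreeSet hμ.1 η]
  split_ifs <;> field_simp
  simp

/-- The sum of the values of a function against a character of `T`. -/
noncomputable def fc (F : Γ → ℂ) (μ : Φ.Lin) : ℂ := ∑ s : ↥Φ.T, (μ s : ℂ) * conj (F s)

theorem fc_tw {F : Γ → ℂ} (hF : IsClassFunction Γ F) (g : Γ) (μ : Φ.Lin) :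
    fc F (Φ.tw g μ) = fc F μ := by
  haveI := Φ.normal
  refine Fintype.sum_equiv (MulAut.conjNormal g : ↥Φ.T ≃* ↥Φ.T).toEquiv _ _ fun s => ?_
  rw [tw_apply]
  congr 2
  exact (hF s g).symm

theorem sum_inner_D [Fintype (↥S.E.E →* ℂˣ)] {F : Γ → ℂ} (hF : IsClassFunction Γ F) {μ : Φ.Lin}
    (hμ : S.Valid μ) :
    ∑ η : ↥S.E.E →* ℂˣ, classInner (S.D μ η) F =
      (Nat.card ↥(Φ.stabL μ) : ℂ)⁻¹ * (Nat.card ↥S.E.E : ℂ) * (fc F S.μ₂ - fc F μ) := by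
  have hterm : ∀ ν : Φ.Lin, ∑ η : ↥S.E.E →* ℂˣ, classInner (S.Ind (Φ.stabL μ) ν η) F =
      (Nat.card ↥(Φ.stabL μ) : ℂ)⁻¹ * ((Nat.card ↥S.E.E : ℂ) * fc F ν) := by
    intro ν
    rw [sum_congr rfl fun η _ => (show classInner (S.Ind (Φ.stabL μ) ν η) F = _ from
      classInner_indFun (Φ.stabL μ) _ F hF)]
    simp only [classInner, ← mul_sum]
    congr 1
    rw [sum_comm, sum_congr rfl (g := fun g : ↥(Φ.stabL μ) => if h : (g : Γ) ∈ Φ.T then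
      (Nat.card ↥S.E.E : ℂ) * ((ν ⟨g, h⟩ : ℂ) * conj (F g)) else 0) fun g _ => ?_]
    · rw [← sum_filter_of_ne (p := fun g : ↥(Φ.stabL μ) => (g : Γ) ∈ Φ.T) fun g _ hg => by
        by_contra h; exact hg (dif_neg h), fc, mul_sum]
      refine (sum_bij (s := (univ : Finset ↥Φ.T)) (fun s _ => (⟨s, Φ.T_le_stabL μ s.2⟩ : ↥(Φ.stabL μ)))
        (fun s _ => mem_filter.2 ⟨mem_univ _, s.2⟩) (fun a _ b _ e => Subtype.ext (congrArg (fun y : ↥(Φ.stabL μ) => (y : Γ)) e))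
        (fun g hg => ⟨⟨g, (mem_filter.1 hg).2⟩, mem_univ _, rfl⟩) fun s _ => ?_).symm
      rw [dif_pos s.2]
    · have hgC : (g : Γ) ∈ S.C := hμ.1 g.2
      rw [← sum_mul]
      have h1 : ∑ η : ↥S.E.E →* ℂˣ, S.ext ν η g =
          (ν ⟨(g : Γ) * (S.π g : Γ)⁻¹, S.π_split hgC⟩ : ℂ) * ∑ η : ↥S.E.E →* ℂˣ, (η (S.π g) : ℂ) := by
        rw [mul_sum]; exact sum_congr rfl fun η _ => by rw [ext, dif_pos hgC]
      rw [h1, S.sum_ext ν hgC]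
      split_ifs with hg
      · rw [show (⟨(g : Γ) * (S.π g : Γ)⁻¹, S.π_split hgC⟩ : ↥Φ.T) = ⟨g, hg⟩ from
          Subtype.ext (by show (g : Γ) * (S.π g : Γ)⁻¹ = g; rw [S.π_T hg, Subgroup.coe_one, inv_one, mul_one])]
        ring
      · ring
  unfold D
  simp only [classInner_sub_left, sum_sub_distrib, hterm]
  ring

/-- A class function with equal sums against all nontrivial characters is constant off the identity. -/
theorem const_of_fc {F : Γ → ℂ} (h : ∀ μ : Φ.Lin, μ ≠ 1 → fc F μ = fc F S.μ₂) {s s' : ↥Φ.T}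
    (hs : s ≠ 1) (hs' : s' ≠ 1) : F s = F s' := by
  have hval : ∀ z : ↥Φ.T, z ≠ 1 → (Nat.card ↥Φ.T : ℂ) * conj (F z) = fc F (1 : Φ.Lin) - fc F S.μ₂ := by
    intro z hz
    rw [← CfsgLib.BSW.fourier (fun y : ↥Φ.T => conj (F y)) z]
    have hz' : z⁻¹ ≠ 1 := inv_ne_one.2 hz
    have h1 : ∀ μ : Φ.Lin, (∑ y : ↥Φ.T, conj (F y) * (μ y : ℂ)) * (μ z⁻¹ : ℂ) =
        fc F S.μ₂ * (μ z⁻¹ : ℂ) + if μ = 1 then fc F (1 : Φ.Lin) - fc F S.μ₂ else 0 := fun μ => by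
      rw [show ∑ y : ↥Φ.T, conj (F y) * (μ y : ℂ) = fc F μ from sum_congr rfl fun y _ => mul_comm _ _]
      split_ifs with h1
      · rw [h1, MonoidHom.one_apply, Units.val_one]; ring
      · rw [h μ h1, add_zero]
    rw [sum_congr rfl fun μ _ => h1 μ, sum_add_distrib, ← mul_sum, CfsgLib.BSW.sum_dual hz', mul_zero,
      zero_add, sum_ite_eq' univ (1 : Φ.Lin), if_pos (mem_univ _)]
  have h2 := mul_left_cancel₀ (Nat.cast_ne_zero.2 (Nat.card_pos (α := ↥Φ.T)).ne' : (Nat.card ↥Φ.T : ℂ) ≠ 0)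
    ((hval s hs).trans (hval s' hs').symm)
  exact starRingEnd ℂ |>.injective h2

/-- The difference of inductions from `T`. -/
noncomputable def D₀ : Γ → ℂ := S.Ind Φ.T S.μ₂ 1 - S.Ind Φ.T 1 1

theorem D₀_class : IsClassFunction Γ S.D₀ := fun g k => by
  simp only [D₀, Ind, Pi.sub_apply, isClassFunction_indFun (G := Γ) _ _ g k]

theorem D₀_supported : Supported S.D₀ := by
  intro γ hγ
  unfold D₀ Ind
  rw [← indFun_sub, indFun, sum_eq_zero fun x _ => ?_, mul_zero]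
  by_cases hm : x⁻¹ * γ * x ∈ Φ.T
  · have ho : ¬ 2 ∣ orderOf (x⁻¹ * γ * x) := by
      have := orderOf_cj γ x⁻¹
      rw [inv_inv] at this
      rwa [this]
    rw [extendByZero_mem _ _ hm, Pi.sub_apply, S.ext_odd 1 (S.T_le_C hm) (Φ.T_le_stabL _ hm) ho,
      S.ext_odd 1 (S.T_le_C hm) (Φ.T_le_stabL _ hm) ho, sub_self]
  · exact extendByZero_not_mem _ _ hm

theorem D₀_generalized : IsGeneralizedCharacter Γ S.D₀ := by
  unfold D₀ Ind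
  rw [← indFun_sub]
  exact isGeneralizedCharacter_indFun _ ⟨_, _, S.isCharacter_ext _ 1 S.T_le_C (Φ.T_le_stabL _),
    S.isCharacter_ext _ 1 S.T_le_C (Φ.T_le_stabL _), rfl⟩

theorem norm_D₀ : classInner S.D₀ S.D₀ = ((numInvol Γ : ℂ) + 1) * (Nat.card ↥S.E.E : ℂ) := by
  have hz : ∀ x, Φ.tw x (1 : Φ.Lin) ≠ S.μ₂ := fun x e => S.ne₂ (e.symm.trans (Φ.tw_one_lin x))
  have hz' : ∀ x, Φ.tw x S.μ₂ ≠ (1 : Φ.Lin) := fun x e => S.ne₂ (by
    rw [← Φ.tw_inv_tw x S.μ₂, e, tw_one_lin])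
  unfold D₀
  rw [classInner_sub_left, classInner_sub_right, classInner_sub_right,
    S.inner_zero le_rfl le_rfl S.T_le_C S.T_le_C 1 1 hz, S.inner_zero le_rfl le_rfl S.T_le_C S.T_le_C 1 1 hz',
    S.inner_T, S.inner_T, S.stab₂, Φ.stabL_one, Subgroup.card_top, ← Φ.card_centralizer_mul S.hτ,
    ← S.E.card_mul S.hτ]
  have hq : (Nat.card ↥Φ.T : ℂ) ≠ 0 := Nat.cast_ne_zero.2 Nat.card_pos.ne'
  push_cast
  field_simp
  ring

theorem inner_D₀ {F : Γ → ℂ} (hF : IsClassFunction Γ F) :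
    classInner S.D₀ F = (Nat.card ↥Φ.T : ℂ)⁻¹ * (fc F S.μ₂ - fc F (1 : Φ.Lin)) := by
  have h : ∀ ν : Φ.Lin, classInner (S.Ind Φ.T ν 1) F = (Nat.card ↥Φ.T : ℂ)⁻¹ * fc F ν := fun ν => by
    rw [show classInner (S.Ind Φ.T ν 1) F = _ from classInner_indFun Φ.T _ F hF, classInner, fc]
    congr 1
    exact sum_congr rfl fun s _ => by rw [S.ext_T]
  unfold D₀
  rw [classInner_sub_left, h, h, mul_sub]

end Frame.Seed

end CfsgLib.AbelianSolv
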