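import Cfsg.Agent.Lib.OddConseq.AbelianSolv.Indicator
import Mathlib.GroupTheory.SchurZassenhaus

/-!
# The quotient of the strongly embedded subgroup

Basic facts about a group with a self-centralizing normal abelian Sylow 2-subgroup and one class of
involutions, and the computation of `phiFun` when this subgroup is elementary.
-/

set_option autoImplicit false
set_option linter.unusedSectionVars false
set_option linter.style.haveILetI false

open Finset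
open scoped ComplexConjugate

namespace CfsgLib.AbelianSolv

open Cfsg CfsgLib.Char

universe u

namespace Frame

variable {Γ : Type u} [Group Γ] [Finite Γ] (Φ : Frame Γ)

/-- The elements of order at most two. -/
def Om : Subgroup Γ where
  carrier := {s | s ∈ Φ.T ∧ s * s = 1}
  one_mem' := ⟨one_mem _, one_mul 1⟩
  mul_mem' := fun {a b} ha hb => ⟨mul_mem ha.1 hb.1, by
    rw [mul_assoc, ← mul_assoc b, Φ.comm b hb.1 a ha.1, mul_assoc a b b, hb.2, mul_one, ha.2]⟩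
  inv_mem' := fun {a} ha => ⟨inv_mem ha.1, by rw [← mul_inv_rev, ha.2, inv_one]⟩

include Φ in
theorem mem_T_of_invol {u : Γ} (h : u * u = 1) : u ∈ Φ.T := by
  haveI := Φ.normal
  exact mem_of_pow_two Φ.odd_index (k := 1) (by rw [pow_one, pow_two, h])

theorem mem_Om {u : Γ} : u ∈ Φ.Om ↔ u * u = 1 :=
  ⟨fun h => h.2, fun h => ⟨Φ.mem_T_of_invol h, h⟩⟩

theorem orderOf_two_iff {u : Γ} : orderOf u = 2 ↔ u * u = 1 ∧ u ≠ 1 := by
  refine ⟨fun h => ⟨?_, fun e => ?_⟩, fun h => orderOf_eq_prime (hp := ⟨Nat.prime_two⟩)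
    (by rw [pow_two]; exact h.1) h.2⟩
  · rw [← pow_two, ← h, pow_orderOf_eq_one]
  · rw [e, orderOf_one] at h; norm_num at h

include Φ in
theorem numInvol_add_one : numInvol Γ + 1 = Nat.card ↥Φ.Om := by
  classical
  letI := Fintype.ofFinite Γ
  rw [numInvol, Nat.card_eq_fintype_card, Nat.card_eq_fintype_card, Fintype.card_subtype,
    Fintype.card_subtype, ← card_insert_of_notMem (a := (1 : Γ)) (by simp)]
  congr 1
  ext u
  simp only [mem_insert, mem_filter, mem_univ, true_and, Φ.mem_Om, orderOf_two_iff]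
  constructor
  · rintro (rfl | h)
    · exact one_mul 1
    · exact h.1
  · intro h
    by_cases h1 : u = 1
    · exact Or.inl h1
    · exact Or.inr ⟨h, h1⟩

include Φ in
theorem seven_le_numInvol : 7 ≤ numInvol Γ := by
  have h := Φ.numInvol_add_one
  have h8 := Φ.eight
  rw [Nat.card_congr (Equiv.subtypeEquivRight fun u => (Φ.mem_Om (u := u)).symm)] at h8
  have : 8 ≤ Nat.card ↥Φ.Om := h8
  omega

include Φ in
theorem exists_invol : ∃ t : Γ, orderOf t = 2 := by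
  by_contra h
  push Not at h
  haveI : IsEmpty {γ : Γ // orderOf γ = 2} := ⟨fun γ => h γ γ.2⟩
  have := Φ.seven_le_numInvol
  rw [numInvol, Nat.card_of_isEmpty] at this
  omega

include Φ in
theorem mul_invol {u v : Γ} (hu : orderOf u = 2) (hv : orderOf v = 2) (hne : u ≠ v) : orderOf (u * v) = 2 := by
  rw [orderOf_two_iff] at hu hv ⊢
  refine ⟨(Φ.mem_Om.1 (mul_mem (Φ.mem_Om.2 hu.1) (Φ.mem_Om.2 hv.1))), fun e => hne ?_⟩
  rw [mul_eq_one_iff_eq_inv.1 e, inv_eq_of_mul_eq_one_right hv.1]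

include Φ in
theorem class_const {F : Γ → ℂ} (hF : IsClassFunction Γ F) {u v : Γ} (hu : orderOf u = 2)
    (hv : orderOf v = 2) : F u = F v :=
  Char.classFun_isConj hF (Φ.trans u v hu hv)

include Φ in
theorem card_centralizer_mul [Fintype Γ] {t : Γ} (ht : orderOf t = 2) :
    numInvol Γ * Nat.card ↥(Subgroup.centralizer ({t} : Set Γ)) = Nat.card Γ := by
  classical
  rw [← card_class_mul t, numInvol, Nat.card_eq_fintype_card, Fintype.card_subtype]
  congr 2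
  refine filter_congr fun u _ => ⟨fun h => Φ.trans t u ht h, fun h => ?_⟩
  obtain ⟨c, rfl⟩ := isConj_iff.1 h
  rw [orderOf_cj, ht]

include Φ in
theorem T_le_centralizer {t : Γ} (ht : orderOf t = 2) : Φ.T ≤ Subgroup.centralizer ({t} : Set Γ) :=
  fun s hs => Subgroup.mem_centralizer_singleton_iff.2
    (Φ.comm s hs t (Φ.mem_T_of_invol (orderOf_two_iff.1 ht).1))

theorem exists_complement : ∃ A : Subgroup Γ, Subgroup.IsComplement' Φ.T A := by
  haveI := Φ.normal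
  haveI : Fact (Nat.Prime 2) := ⟨Nat.prime_two⟩
  obtain ⟨k, hk⟩ := IsPGroup.iff_card.1 Φ.two
  exact Subgroup.exists_right_complement'_of_coprime
    (by rw [hk]; exact ((Nat.prime_two.coprime_iff_not_dvd).2 Φ.odd_index).pow_left k)

/-- The data of a complement `E` of `T` in the centralizer of an involution. -/
structure Stab (Φ : Frame Γ) (t : Γ) where
  E : Subgroup Γ
  le : E ≤ Subgroup.centralizer ({t} : Set Γ)
  disj : ∀ x ∈ E, x ∈ Φ.T → x = 1
  split : ∀ y ∈ Subgroup.centralizer ({t} : Set Γ), ∃ s ∈ Φ.T, ∃ x ∈ E, y = s * x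

theorem exists_stab {t : Γ} (ht : orderOf t = 2) : Nonempty (Stab Φ t) := by
  obtain ⟨A, hA⟩ := Φ.exists_complement
  refine ⟨⟨A ⊓ Subgroup.centralizer ({t} : Set Γ), inf_le_right, fun x hx hxT => ?_, fun y hy => ?_⟩⟩
  · exact Subgroup.mem_bot.1 (hA.disjoint.le_bot ⟨hxT, (Subgroup.mem_inf.1 hx).1⟩)
  · obtain ⟨⟨⟨s, hs⟩, ⟨a, ha⟩⟩, rfl⟩ := hA.2 y
    refine ⟨s, hs, a, Subgroup.mem_inf.2 ⟨ha, ?_⟩, rfl⟩
    have := mul_mem (inv_mem (Φ.T_le_centralizer ht hs)) hy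
    rwa [inv_mul_cancel_left] at this

namespace Stab

variable {Φ} {t : Γ} (E : Stab Φ t)

theorem unique {s s' x x' : Γ} (hs : s ∈ Φ.T) (hs' : s' ∈ Φ.T) (hx : x ∈ E.E) (hx' : x' ∈ E.E)
    (h : s * x = s' * x') : s = s' ∧ x = x' := by
  have e : s'⁻¹ * s = x' * x⁻¹ := by
    rw [← inv_mul_cancel_left s' (x' * x⁻¹), ← mul_assoc s', ← h, mul_inv_cancel_right]
  have h1 := E.disj _ (mul_mem hx' (inv_mem hx)) (e ▸ mul_mem (inv_mem hs') hs)
  refine ⟨?_, (mul_inv_eq_one.1 h1).symm⟩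
  rw [← e] at h1
  exact (inv_mul_eq_one.1 h1).symm

theorem card_mul (ht : orderOf t = 2) :
    Nat.card ↥Φ.T * Nat.card ↥E.E = Nat.card ↥(Subgroup.centralizer ({t} : Set Γ)) := by
  rw [← Nat.card_prod]
  refine Nat.card_congr (Equiv.ofBijective (fun p : ↥Φ.T × ↥E.E =>
    (⟨(p.1 : Γ) * p.2, mul_mem (Φ.T_le_centralizer ht p.1.2) (E.le p.2.2)⟩ :
      ↥(Subgroup.centralizer ({t} : Set Γ)))) ⟨fun p p' h => ?_, fun y => ?_⟩)
  · obtain ⟨h1, h2⟩ := E.unique p.1.2 p'.1.2 p.2.2 p'.2.2 (congrArg Subtype.val h)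
    exact Prod.ext (Subtype.ext h1) (Subtype.ext h2)
  · obtain ⟨s, hs, x, hx, e⟩ := E.split y y.2
    exact ⟨(⟨s, hs⟩, ⟨x, hx⟩), Subtype.ext e.symm⟩

theorem odd_orderOf {x : Γ} (hx : x ∈ E.E) : ¬ 2 ∣ orderOf x := by
  haveI := Φ.normal
  intro h
  obtain ⟨k, hk⟩ := exists_invol_pow h
  have h1 := E.disj _ (pow_mem hx k) (Φ.mem_T_of_invol (orderOf_two_iff.1 hk).1)
  rw [h1, orderOf_one] at hk
  norm_num at hk

theorem odd_card : ¬ 2 ∣ Nat.card ↥E.E := by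
  intro h
  haveI : Fact (Nat.Prime 2) := ⟨Nat.prime_two⟩
  obtain ⟨x, hx⟩ := exists_prime_orderOf_dvd_card' (G := ↥E.E) 2 h
  exact E.odd_orderOf x.2 (by rw [Subgroup.orderOf_coe, hx])

end Stab

/-- The number of elements of `T` commuting with an element. -/
noncomputable def fixCount (x : Γ) : ℕ := Nat.card {s : Γ // s ∈ Φ.T ∧ Commute s x}

theorem fixCount_pos (x : Γ) : 0 < Φ.fixCount x := by
  haveI : Nonempty {s : Γ // s ∈ Φ.T ∧ Commute s x} := ⟨⟨1, one_mem _, Commute.one_left x⟩⟩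
  exact Nat.card_pos

theorem fixCount_one : Φ.fixCount 1 = Nat.card ↥Φ.T :=
  Nat.card_congr (Equiv.subtypeEquivRight fun _ => and_iff_left (Commute.one_right _))

section Elementary

variable [Fintype Γ] (hel : ∀ s ∈ Φ.T, s * s = 1)

open scoped Classical

include Φ hel

theorem sq_odd (γ : Γ) : ¬ 2 ∣ orderOf (γ * γ) := by
  haveI := Φ.normal
  intro h
  obtain ⟨j, hj⟩ := exists_invol_pow h
  have hpos := orderOf_pos γ
  obtain ⟨m, hm⟩ : 2 ∣ orderOf γ := h.trans (by rw [← pow_two]; exact orderOf_pow_dvd 2)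
  have hgg : orderOf (γ * γ) = m := by
    rw [← pow_two, orderOf_pow' γ (by norm_num), hm, Nat.gcd_eq_right (Dvd.intro m rfl),
      Nat.mul_div_cancel_left _ (by norm_num)]
  rw [hgg] at h
  obtain ⟨i, rfl⟩ := h
  -- an element of order four
  have h4 : (γ ^ i) ^ 2 ^ 2 = 1 := by
    rw [← pow_mul, show i * 2 ^ 2 = orderOf γ by rw [hm]; ring, pow_orderOf_eq_one]
  have h2 := hel _ (mem_of_pow_two Φ.odd_index h4)
  rw [← pow_two, ← pow_mul] at h2
  have := Nat.le_of_dvd (by omega) (orderOf_dvd_of_pow_eq_one h2)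
  omega

theorem no_roots {γ : Γ} (h : 2 ∣ orderOf γ) : Nat.card {s : Γ // s * s = γ} = 0 := by
  haveI : IsEmpty {s : Γ // s * s = γ} := ⟨fun s => Φ.sq_odd hel s.1 (by rw [s.2]; exact h)⟩
  exact Nat.card_of_isEmpty

theorem phiFun_even {γ : Γ} (h : 2 ∣ orderOf γ) : phiFun Γ γ = (commCount γ : ℂ) + 1 := by
  rw [phiFun, if_pos h, Φ.no_roots hel h, Nat.cast_zero, sub_zero]

theorem sum_sq_eq_zero {F : Γ → ℂ} (hs : Supported F) : ∑ γ : Γ, F (γ * γ) = 0 :=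
  sum_eq_zero fun γ _ => hs _ (Φ.sq_odd hel γ)

variable {t : Γ} (ht : orderOf t = 2) (E : Stab Φ t)

include ht

theorem exists_T_conj {y : Γ} (hy : y ∈ Subgroup.centralizer ({t} : Set Γ)) (hyo : ¬ 2 ∣ orderOf y) :
    ∃ x ∈ E.E, ∃ s ∈ Φ.T, s * x * s⁻¹ = y := by
  haveI := Φ.normal
  obtain ⟨s0, hs0, x, hx, rfl⟩ := E.split y hy
  refine ⟨x, hx, ?_⟩
  obtain ⟨m, hm⟩ : ∃ m, m = orderOf x := ⟨_, rfl⟩
  -- the partial norms
  let a : ℕ → Γ := fun j => (s0 * x) ^ j * (x ^ j)⁻¹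
  have hsucc : ∀ j, a (j + 1) = s0 * (x * a j * x⁻¹) := fun j => by
    simp only [a, pow_succ']
    group
  have haT : ∀ j, a j ∈ Φ.T := by
    intro j
    induction j with
    | zero => simp [a]
    | succ j ih => rw [hsucc]; exact mul_mem hs0 (Φ.normal.conj_mem _ ih x)
  have ham : a m = 1 := by
    have e : a m = (s0 * x) ^ m := by simp [a, hm, pow_orderOf_eq_one]
    have h1 : a m * a m = 1 := hel _ (haT m)
    by_contra hne
    refine hyo ((orderOf_two_iff.2 ⟨h1, hne⟩).symm.dvd.trans ?_)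
    rw [e]; exact orderOf_pow_dvd m
  letI : CommGroup ↥Φ.T :=
    { (inferInstance : Group ↥Φ.T) with mul_comm := fun a b => Subtype.ext (Φ.comm _ a.2 _ b.2) }
  let b : ℕ → ↥Φ.T := fun j => ⟨a j, haT j⟩
  let σ : ↥Φ.T →* ↥Φ.T :=
    { toFun := fun s => ⟨x * s * x⁻¹, Φ.normal.conj_mem _ s.2 x⟩
      map_one' := Subtype.ext (by simp)
      map_mul' := fun s s' => Subtype.ext (by simp only [Subgroup.coe_mul]; group) }
  have hsq : ∀ s : ↥Φ.T, s * s = 1 := fun s => Subtype.ext (hel _ s.2)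
  have hb : ∀ j, σ (b j) = ⟨s0, hs0⟩ * b (j + 1) := fun j => by
    refine Subtype.ext ?_
    show x * a j * x⁻¹ = s0 * a (j + 1)
    rw [hsucc, ← mul_assoc s0 s0, hel _ hs0, one_mul]
  obtain ⟨s, hs⟩ : ∃ s, s = ∏ j ∈ range m, b j := ⟨_, rfl⟩
  have h01 : b 0 = 1 := Subtype.ext (by simp [b, a])
  have hbm : b m = 1 := Subtype.ext ham
  have hσ : σ s = ⟨s0, hs0⟩ * s := by
    rw [hs, map_prod, prod_congr rfl fun j _ => hb j, prod_mul_distrib, prod_const, card_range]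
    have hm2 : (⟨s0, hs0⟩ : ↥Φ.T) ^ m = ⟨s0, hs0⟩ := by
      obtain ⟨i, hi⟩ : Odd m := by
        rw [hm, ← Nat.not_even_iff_odd, even_iff_two_dvd]; exact E.odd_orderOf hx
      rw [hi, pow_succ, pow_mul, pow_two, hsq, one_pow, one_mul]
    rw [hm2]
    congr 1
    have h := prod_range_succ' b m
    rw [prod_range_succ, h01, hbm, mul_one, mul_one] at h
    exact h.symm
  refine ⟨(s : Γ), s.2, ?_⟩
  have e1 : x * (s : Γ) * x⁻¹ = s0 * (s : Γ) := congrArg Subtype.val hσ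
  have e2 : (s : Γ)⁻¹ = s := inv_eq_of_mul_eq_one_right (hel _ s.2)
  calc (s : Γ) * x * (s : Γ)⁻¹ = s * (x * s * x⁻¹) * x := by rw [e2]; group
    _ = s * (s0 * s) * x := by rw [e1]
    _ = s0 * (s * s) * x := by rw [← mul_assoc (s : Γ) s0, Φ.comm _ s.2 _ hs0, mul_assoc s0]
    _ = s0 * x := by rw [hel _ s.2, mul_one]

/-- The sum over the elements of even order. -/
theorem sum_even_Frame {H : Γ → ℂ} (hH : IsClassFunction Γ H) :
    ∑ γ ∈ univ.filter (fun γ : Γ => 2 ∣ orderOf γ), H γ =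
      (numInvol Γ : ℂ) * ∑ x : ↥E.E, (Nat.card ↥Φ.T : ℂ) / (Φ.fixCount x : ℂ) * H (t * x) := by
  haveI := Φ.normal
  rw [filter_congr (q := fun g : Γ => 2 ∣ orderOf g ∧ ¬ 2 ∣ orderOf (g * g))
    fun g _ => (and_iff_left (Φ.sq_odd hel g)).symm, sum_part_involution]
  have hS : ∀ u ∈ univ.filter (fun u : Γ => orderOf u = 2),
      ∑ y ∈ univ.filter (fun y : Γ => Commute u y ∧ ¬ 2 ∣ orderOf y), H (u * y) =
      ∑ y ∈ univ.filter (fun y : Γ => Commute t y ∧ ¬ 2 ∣ orderOf y), H (t * y) := by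
    intro u hu
    obtain ⟨c, rfl⟩ := isConj_iff.1 (Φ.trans t u ht (mem_filter.1 hu).2)
    refine sum_equiv (MulAut.conj c⁻¹).toEquiv (fun y => ?_) fun y _ => ?_
    · simp only [mem_filter, mem_univ, true_and, MulEquiv.toEquiv_eq_coe, EquivLike.coe_coe,
        MulAut.conj_apply, orderOf_cj]
      refine and_congr_left' ?_
      rw [← Commute.conj_iff c⁻¹, show c⁻¹ * (c * t * c⁻¹) * c⁻¹⁻¹ = t by group]
    · simp only [MulEquiv.toEquiv_eq_coe, EquivLike.coe_coe, MulAut.conj_apply]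
      rw [← hH (c * t * c⁻¹ * y) c⁻¹]
      congr 1
      group
  rw [sum_congr rfl hS, sum_const, nsmul_eq_mul, numInvol, Nat.card_eq_fintype_card (α := {γ : Γ // orderOf γ = 2}),
    Fintype.card_subtype]
  congr 1
  obtain ⟨Y, hY⟩ : ∃ Y : Finset Γ, Y = univ.filter (fun y : Γ => Commute t y ∧ ¬ 2 ∣ orderOf y) := ⟨_, rfl⟩
  rw [← hY]
  have htT : t ∈ Φ.T := Φ.mem_T_of_invol (orderOf_two_iff.1 ht).1
  have hmem : ∀ p ∈ (univ : Finset (↥E.E × ↥Φ.T)), (p.2 : Γ) * p.1 * (p.2 : Γ)⁻¹ ∈ Y := by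
    intro p _
    rw [hY]
    refine mem_filter.2 ⟨mem_univ _, ?_, by rw [orderOf_cj]; exact E.odd_orderOf p.1.2⟩
    exact (Subgroup.mem_centralizer_singleton_iff.1 (mul_mem (mul_mem (Φ.T_le_centralizer ht p.2.2)
      (E.le p.1.2)) (inv_mem (Φ.T_le_centralizer ht p.2.2)))).symm
  have hlhs : ∑ x : ↥E.E, (Nat.card ↥Φ.T : ℂ) / (Φ.fixCount x : ℂ) * H (t * x) =
      ∑ p : ↥E.E × ↥Φ.T, H (t * ((p.2 : Γ) * p.1 * (p.2 : Γ)⁻¹)) / (Φ.fixCount p.1 : ℂ) := by
    rw [← univ_product_univ, sum_product]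
    refine sum_congr rfl fun x _ => ?_
    rw [sum_congr rfl (g := fun _ => H (t * x) / (Φ.fixCount x : ℂ)) fun s _ => ?_, sum_const, card_univ,
      nsmul_eq_mul, ← Nat.card_eq_fintype_card]
    · ring
    show H (t * ((s : Γ) * x * (s : Γ)⁻¹)) / _ = _
    rw [show t * ((s : Γ) * x * (s : Γ)⁻¹) = (s : Γ) * (t * x) * (s : Γ)⁻¹ by
      rw [← mul_assoc, ← mul_assoc, Φ.comm t htT _ s.2]; group, hH]
  rw [hlhs, ← sum_fiberwise_of_maps_to (t := Y) hmem]
  refine sum_congr rfl fun y hy => ?_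
  obtain ⟨hyc, hyo⟩ := (mem_filter.1 (hY ▸ hy)).2
  obtain ⟨x, hx, s, hs, rfl⟩ := Φ.exists_T_conj hel ht E (Subgroup.mem_centralizer_singleton_iff.2 hyc.symm.eq) hyo
  have hfib : ∀ p ∈ univ.filter (fun p : ↥E.E × ↥Φ.T => (p.2 : Γ) * p.1 * (p.2 : Γ)⁻¹ = s * x * s⁻¹),
      (p.1 : Γ) = x ∧ Commute (s⁻¹ * (p.2 : Γ)) x := by
    intro p hp
    have e := (mem_filter.1 hp).2
    have e' : (p.2 : Γ) * (p.1 * (p.2 : Γ)⁻¹ * (p.1 : Γ)⁻¹) * p.1 = s * (x * s⁻¹ * x⁻¹) * x :=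
      calc _ = (p.2 : Γ) * p.1 * (p.2 : Γ)⁻¹ := by group
        _ = s * x * s⁻¹ := e
        _ = _ := by group
    obtain ⟨-, h2⟩ := E.unique (mul_mem p.2.2 (Φ.normal.conj_mem _ (inv_mem p.2.2) _))
      (mul_mem hs (Φ.normal.conj_mem _ (inv_mem hs) _)) p.1.2 hx e'
    refine ⟨h2, ?_⟩
    rw [h2] at e
    show s⁻¹ * (p.2 : Γ) * x = x * (s⁻¹ * p.2)
    calc s⁻¹ * (p.2 : Γ) * x = s⁻¹ * ((p.2 : Γ) * x * (p.2 : Γ)⁻¹) * p.2 := by group
      _ = s⁻¹ * (s * x * s⁻¹) * p.2 := by rw [e]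
      _ = x * (s⁻¹ * p.2) := by group
  rw [sum_congr rfl (g := fun _ => H (t * (s * x * s⁻¹)) / (Φ.fixCount x : ℂ)) fun p hp => by
      rw [(mem_filter.1 hp).2, (hfib p hp).1], sum_const, nsmul_eq_mul,
    show (univ.filter (fun p : ↥E.E × ↥Φ.T => (p.2 : Γ) * p.1 * (p.2 : Γ)⁻¹ = s * x * s⁻¹)).card =
      Φ.fixCount x from ?_, mul_div_cancel₀ _ (Nat.cast_ne_zero.2 (Φ.fixCount_pos x).ne')]
  rw [fixCount, Nat.card_eq_fintype_card, Fintype.card_subtype]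
  refine card_bij (fun p _ => s⁻¹ * (p.2 : Γ)) (fun p hp => mem_filter.2
    ⟨mem_univ _, mul_mem (inv_mem hs) p.2.2, (hfib p hp).2⟩) (fun p hp p' hp' e => ?_) fun c hc => ?_
  · exact Prod.ext (Subtype.ext ((hfib p hp).1.trans (hfib p' hp').1.symm)) (Subtype.ext (mul_left_cancel e))
  · obtain ⟨hcT, hcx⟩ := (mem_filter.1 hc).2
    refine ⟨(⟨x, hx⟩, ⟨s * c, mul_mem hs hcT⟩), mem_filter.2 ⟨mem_univ _, ?_⟩, inv_mul_cancel_left s c⟩
    show s * c * x * (s * c)⁻¹ = s * x * s⁻¹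
    rw [mul_assoc s c x, hcx.eq]; group

theorem commCount_stab (x : ↥E.E) : commCount (t * (x : Γ)) + 1 = Φ.fixCount x := by
  have htT : t ∈ Φ.T := Φ.mem_T_of_invol (orderOf_two_iff.1 ht).1
  rw [commCount, fixCount, Nat.card_eq_fintype_card, Nat.card_eq_fintype_card, Fintype.card_subtype,
    Fintype.card_subtype, ← card_insert_of_notMem (a := (1 : Γ)) (by simp)]
  congr 1
  ext u
  simp only [mem_insert, mem_filter, mem_univ, true_and, orderOf_two_iff]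
  have hiff : u ∈ Φ.T → (Commute u (t * x) ↔ Commute u x) := fun hu => by
    have hut : Commute u t := Φ.comm u hu t htT
    exact ⟨fun h => by simpa using hut.inv_right.mul_right h, fun h => hut.mul_right h⟩
  constructor
  · rintro (rfl | ⟨⟨hu2, -⟩, hc⟩)
    · exact ⟨one_mem _, Commute.one_left _⟩
    · exact ⟨Φ.mem_T_of_invol hu2, (hiff (Φ.mem_T_of_invol hu2)).1 hc⟩
  · rintro ⟨huT, hc⟩
    by_cases h1 : u = 1
    · exact Or.inl h1
    · exact Or.inr ⟨⟨hel u huT, h1⟩, (hiff huT).2 hc⟩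

theorem even_stab (x : ↥E.E) : 2 ∣ orderOf (t * (x : Γ)) := by
  have hc : Commute t (x : Γ) := (Subgroup.mem_centralizer_singleton_iff.1 (E.le x.2)).symm
  rw [hc.orderOf_mul_eq_mul_orderOf_of_coprime (by
    rw [ht]; exact Nat.prime_two.coprime_iff_not_dvd.2 (E.odd_orderOf x.2)), ht]
  exact dvd_mul_right _ _

include E in
theorem phiFun_invol : phiFun Γ t = (Nat.card ↥Φ.T : ℂ) := by
  have h := Φ.commCount_stab hel ht E 1
  simp only [Subgroup.coe_one, mul_one, fixCount_one] at h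
  rw [Φ.phiFun_even hel (by rw [ht]), ← h]
  push_cast
  ring

theorem card_eq : (Nat.card Γ : ℂ) = (numInvol Γ : ℂ) * ((Nat.card ↥Φ.T : ℂ) * (Nat.card ↥E.E : ℂ)) := by
  rw [← Nat.cast_mul, ← Nat.cast_mul, E.card_mul ht, Φ.card_centralizer_mul ht]

theorem norm_phiFun :
    (Nat.card ↥E.E : ℂ) * classInner (phiFun Γ) (phiFun Γ) = ∑ x : ↥E.E, (Φ.fixCount x : ℂ) := by
  have h : ∑ γ : Γ, phiFun Γ γ * conj (phiFun Γ γ) =
      ∑ γ ∈ univ.filter (fun γ : Γ => 2 ∣ orderOf γ), ((commCount γ : ℂ) + 1) * ((commCount γ : ℂ) + 1) := by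
    rw [sum_filter]
    refine sum_congr rfl fun γ _ => ?_
    split_ifs with h
    · rw [Φ.phiFun_even hel h, map_add, map_natCast, map_one]
    · rw [phiFun_supported γ h, zero_mul]
  have hcl : IsClassFunction Γ (fun γ => ((commCount γ : ℂ) + 1) * ((commCount γ : ℂ) + 1)) := fun g k => by
    show ((commCount (k * g * k⁻¹) : ℂ) + 1) * _ = _
    rw [show commCount (k * g * k⁻¹) = commCount g from
      (Nat.card_congr ((MulAut.conj k).toEquiv.subtypeEquiv fun u => by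
        show orderOf u = 2 ∧ Commute u g ↔ orderOf (k * u * k⁻¹) = 2 ∧ Commute (k * u * k⁻¹) (k * g * k⁻¹)
        rw [orderOf_cj, Commute.conj_iff k])).symm]
  rw [classInner, h, Φ.sum_even_Frame hel ht E hcl, Φ.card_eq hel ht E]
  simp only [mul_sum]
  refine sum_congr rfl fun x _ => ?_
  rw [show ((commCount (t * (x : Γ)) : ℂ) + 1) = (Φ.fixCount x : ℂ) by
    rw [← Φ.commCount_stab hel ht E x]; push_cast; ring]
  have h1 : (numInvol Γ : ℂ) ≠ 0 := Nat.cast_ne_zero.2 (by have := Φ.seven_le_numInvol; omega)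
  have h2 : (Nat.card ↥Φ.T : ℂ) ≠ 0 := Nat.cast_ne_zero.2 Nat.card_pos.ne'
  have h3 : (Nat.card ↥E.E : ℂ) ≠ 0 := Nat.cast_ne_zero.2 Nat.card_pos.ne'
  have h4 : (Φ.fixCount x : ℂ) ≠ 0 := Nat.cast_ne_zero.2 (Φ.fixCount_pos x).ne'
  field_simp

theorem classInner_psi {f : Γ → ℂ}
    (hf : ∀ a b : Γ, 2 ∣ orderOf a → f (b * a * b⁻¹) = f a) :
    (Nat.card ↥E.E : ℂ) * classInner (phiFun Γ) f - classInner (invFun Γ) f =
      ∑ x ∈ (univ : Finset ↥E.E).erase 1, conj (f (t * x)) := by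
  obtain ⟨H, hH⟩ : ∃ H : Γ → ℂ, H = fun γ =>
      ((Nat.card ↥E.E : ℂ) * phiFun Γ γ - invFun Γ γ) * conj (f γ) := ⟨_, rfl⟩
  have hHc : IsClassFunction Γ H := fun a b => by
    simp only [hH, phiFun_class a b, invFun_class a b]
    by_cases ha : 2 ∣ orderOf a
    · rw [hf a b ha]
    · rw [phiFun_supported a ha, invFun_supported a ha]; ring
  have h : (Nat.card ↥E.E : ℂ) * classInner (phiFun Γ) f - classInner (invFun Γ) f =
      (Nat.card Γ : ℂ)⁻¹ * ∑ γ ∈ univ.filter (fun γ : Γ => 2 ∣ orderOf γ), H γ := by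
    simp only [classInner, hH]
    rw [sum_filter, mul_left_comm, ← mul_sub, mul_sum, ← sum_sub_distrib]
    congr 1
    refine sum_congr rfl fun γ _ => ?_
    split_ifs with hγ
    · ring
    · rw [phiFun_supported γ hγ, invFun_supported γ hγ]; ring
  rw [h, Φ.sum_even_Frame hel ht E hHc, Φ.card_eq hel ht E, ← add_sum_erase _ _ (mem_univ (1 : ↥E.E))]
  have h1 : (numInvol Γ : ℂ) ≠ 0 := Nat.cast_ne_zero.2 (by have := Φ.seven_le_numInvol; omega)
  have h2 : (Nat.card ↥Φ.T : ℂ) ≠ 0 := Nat.cast_ne_zero.2 Nat.card_pos.ne'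
  have h3 : (Nat.card ↥E.E : ℂ) ≠ 0 := Nat.cast_ne_zero.2 Nat.card_pos.ne'
  have h0 : H (t * ((1 : ↥E.E) : Γ)) = 0 := by
    simp only [hH, Subgroup.coe_one, mul_one, Φ.phiFun_invol hel ht E, invFun_invol ht, Φ.card_eq hel ht E]
    field_simp
    ring
  rw [h0, mul_zero, zero_add, mul_sum, mul_sum]
  refine sum_congr rfl fun x hx => ?_
  have hx1 : (x : Γ) ≠ 1 := fun e => (mem_erase.1 hx).1 (Subtype.ext e)
  have h4 : (Φ.fixCount x : ℂ) ≠ 0 := Nat.cast_ne_zero.2 (Φ.fixCount_pos x).ne'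
  have hne : orderOf (t * (x : Γ)) ≠ 2 := by
    intro e
    refine hx1 (E.disj _ x.2 ?_)
    have := mul_mem (inv_mem (Φ.mem_T_of_invol (orderOf_two_iff.1 ht).1))
      (Φ.mem_T_of_invol (orderOf_two_iff.1 e).1)
    rwa [inv_mul_cancel_left] at this
  simp only [hH, invFun, if_neg hne, sub_zero, Φ.phiFun_even hel (Φ.even_stab hel ht E x)]
  rw [show ((commCount (t * (x : Γ)) : ℂ) + 1) = (Φ.fixCount x : ℂ) by
    rw [← Φ.commCount_stab hel ht E x]; push_cast; ring]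
  field_simp

end Elementary

end Frame

end CfsgLib.AbelianSolv
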