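import Cfsg.Agent.Lib.OddConseq.AbelianSolv.Induce
import Cfsg.Agent.Lib.Char.SquareRoots
import Cfsg.Agent.Lib.Block.FreeElementary.Indicator
import Cfsg.Agent.Lib.Char.ClassMul
import Cfsg.Agent.Lib.OddConseq.ElemEight.CoreCount

/-!
# The Frobenius–Schur indicator and the pairs of involutions

The coefficients of `phiFun` are `m - ν` on the principal block, `m` the multiplicity of the trivial
character in the centralizer of an involution and `ν` the indicator.
-/

set_option autoImplicit false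
set_option linter.unusedSectionVars false
set_option linter.style.haveILetI false

open Finset
open scoped ComplexConjugate

namespace CfsgLib.AbelianSolv

open Cfsg CfsgLib.Char CfsgLib.Block

universe u

/-- The number of involutions commuting with an element. -/
noncomputable def commCount {Γ : Type u} [Group Γ] (γ : Γ) : ℕ :=
  Nat.card {u : Γ // orderOf u = 2 ∧ Commute u γ}

open scoped Classical in
/-- The function with coefficients `m - ν`. -/
noncomputable def phiFun (Γ : Type u) [Group Γ] (γ : Γ) : ℂ :=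
  if 2 ∣ orderOf γ then (commCount γ : ℂ) + 1 - (Nat.card {s : Γ // s * s = γ} : ℂ) else 0

theorem phiFun_supported {Γ : Type u} [Group Γ] : Supported (phiFun Γ) := fun γ h => by
  unfold phiFun; exact if_neg h

theorem phiFun_class {Γ : Type u} [Group Γ] : IsClassFunction Γ (phiFun Γ) := fun g h => by
  unfold phiFun
  rw [orderOf_cj]
  have e1 : commCount (h * g * h⁻¹) = commCount g := by
    refine (Nat.card_congr ((MulAut.conj h).toEquiv.subtypeEquiv fun u => ?_)).symm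
    show orderOf u = 2 ∧ Commute u g ↔ orderOf (h * u * h⁻¹) = 2 ∧ Commute (h * u * h⁻¹) (h * g * h⁻¹)
    rw [orderOf_cj, Commute.conj_iff h]
  have e2 : Nat.card {s : Γ // s * s = h * g * h⁻¹} = Nat.card {s : Γ // s * s = g} := by
    refine (Nat.card_congr ((MulAut.conj h).toEquiv.subtypeEquiv fun u => ?_)).symm
    show u * u = g ↔ h * u * h⁻¹ * (h * u * h⁻¹) = h * g * h⁻¹
    rw [conj_mul, mul_left_inj, mul_right_inj]
  rw [e1, e2]

open scoped Classical

section General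

variable {G : Type u} [Group G] [Fintype G]

/-- The conjugates of an involution times the order of its centralizer. -/
theorem card_class_mul (t : G) :
    (univ.filter (fun g : G => IsConj t g)).card * Nat.card ↥(Subgroup.centralizer ({t} : Set G)) =
      Nat.card G := by
  rw [Nat.card_eq_fintype_card (α := G), ← card_univ,
    card_eq_sum_card_fiberwise (f := fun g : G => g * t * g⁻¹) (s := univ)
      (t := univ.filter (fun g : G => IsConj t g))
      (fun g _ => mem_filter.2 ⟨mem_univ _, isConj_iff.2 ⟨g, rfl⟩⟩), ← smul_eq_mul, ← sum_const]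
  refine sum_congr rfl fun u hu => ?_
  obtain ⟨a, rfl⟩ := isConj_iff.1 (mem_filter.1 hu).2
  rw [Nat.card_eq_fintype_card, ← card_univ]
  refine card_bij (fun c _ => a * (c : G)) (fun c _ => mem_filter.2 ⟨mem_univ _, ?_⟩)
    (fun c _ c' _ e => Subtype.ext (mul_left_cancel e)) fun g hg => ?_
  · have hc := Subgroup.mem_centralizer_singleton_iff.1 c.2
    show a * (c : G) * t * (a * (c : G))⁻¹ = a * t * a⁻¹
    rw [mul_assoc a (c : G) t, hc]
    group
  · have e : g * t * g⁻¹ = a * t * a⁻¹ := (mem_filter.1 hg).2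
    refine ⟨⟨a⁻¹ * g, Subgroup.mem_centralizer_singleton_iff.2 ?_⟩, mem_univ _, mul_inv_cancel_left _ _⟩
    calc a⁻¹ * g * t = a⁻¹ * (g * t * g⁻¹) * g := by group
      _ = t * (a⁻¹ * g) := by rw [e]; group

end General

namespace Setup

variable {G : Type u} [Group G] [Fintype G] [IsSimpleGroup G] (P : Setup G)

include P in
/-- Sums over the elements of even order of `G` are sums over those of `M`. -/
theorem sum_even {f : G → ℂ} (hf : IsClassFunction G f) :
    ∑ g ∈ univ.filter (fun g : G => 2 ∣ orderOf g), f g =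
      (P.M.index : ℂ) * ∑ y ∈ univ.filter (fun y : ↥P.M => 2 ∣ orderOf (y : G)), f y := by
  obtain ⟨θ, hθ⟩ : ∃ θ : ↥P.M → ℂ, θ = (fun y : ↥P.M => if 2 ∣ orderOf (y : G) then (1 : ℂ) else 0) :=
    ⟨_, rfl⟩
  have hθc : IsClassFunction ↥P.M θ := fun a b => by
    simp only [hθ, Subgroup.coe_mul, InvMemClass.coe_inv, orderOf_cj]
  have hθs : ∀ y : ↥P.M, ¬ 2 ∣ orderOf (y : G) → θ y = 0 := fun y h => by simp only [hθ, if_neg h]
  have hind : ∀ g : G, indFun P.M θ g = if 2 ∣ orderOf g then 1 else 0 := by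
    intro g
    by_cases hg : 2 ∣ orderOf g
    · obtain ⟨k, hk⟩ := exists_invol_pow hg
      obtain ⟨s, hs, hso⟩ := P.exists_invol
      obtain ⟨a, ha⟩ := isConj_iff.1 (P.isConj_invol hk hso)
      have hmem : a * g * a⁻¹ ∈ P.M := P.centralizer_le_of_mem_S hs hso
        (Subgroup.mem_centralizer_singleton_iff.2 (by
          rw [← ha]
          exact ((Commute.refl g).pow_right k).map (MulAut.conj a).toMonoidHom))
      rw [← isClassFunction_indFun P.M θ g a, P.indFun_mem hθc hθs hmem]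
      simp only [hθ, orderOf_cj, if_pos hg]
    · rw [if_neg hg, indFun, sum_eq_zero fun x _ => ?_, mul_zero]
      by_cases hm : x⁻¹ * g * x ∈ P.M
      · rw [extendByZero_mem P.M θ hm, hθs _]
        have := orderOf_cj g x⁻¹
        rw [inv_inv] at this
        simpa [this] using hg
      · exact extendByZero_not_mem P.M θ hm
  have hfc : IsClassFunction G (fun g => conj (f g)) := fun a b => by show conj _ = conj _; rw [hf]
  have h := classInner_indFun P.M θ _ hfc
  simp only [classInner, hind, Complex.conj_conj, ite_mul, one_mul, zero_mul, ← sum_filter] at h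
  simp only [hθ, ite_mul, one_mul, zero_mul, ← sum_filter] at h
  have hG : (Nat.card G : ℂ) ≠ 0 := Nat.cast_ne_zero.2 Nat.card_pos.ne'
  have hM : (Nat.card ↥P.M : ℂ) ≠ 0 := Nat.cast_ne_zero.2 Nat.card_pos.ne'
  have hidx : (Nat.card G : ℂ) = (P.M.index : ℂ) * (Nat.card ↥P.M : ℂ) := by
    rw [← Nat.cast_mul, mul_comm, Subgroup.card_mul_index]
  rw [hidx] at h hG
  have hn : (P.M.index : ℂ) ≠ 0 := (mul_ne_zero_iff.1 hG).1
  field_simp at h
  rw [h]

include P in
/-- The involutions of `M`. -/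
theorem card_invol_M {t : G} (ht : orderOf t = 2) :
    ((univ.filter (fun u : ↥P.M => orderOf u = 2)).card : ℂ) *
      (Nat.card ↥(Subgroup.centralizer ({t} : Set G)) : ℂ) = (Nat.card ↥P.M : ℂ) := by
  have h := P.sum_even (f := fun g => if orderOf g = 2 then (1 : ℂ) else 0)
    (fun a b => by simp only [orderOf_cj])
  rw [sum_filter, sum_filter] at h
  simp only [← ite_and] at h
  have e1 : ∀ g : G, (2 ∣ orderOf g ∧ orderOf g = 2) ↔ IsConj t g := fun g =>
    ⟨fun h => P.isConj_invol ht h.2, fun h => by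
      obtain ⟨a, rfl⟩ := isConj_iff.1 h
      rw [orderOf_cj, ht]; exact ⟨dvd_rfl, rfl⟩⟩
  have e2 : ∀ y : ↥P.M, (2 ∣ orderOf (y : G) ∧ orderOf (y : G) = 2) ↔ orderOf y = 2 := fun y => by
    rw [Subgroup.orderOf_coe]; exact ⟨fun h => h.2, fun h => ⟨by rw [h], h⟩⟩
  rw [← sum_filter, ← sum_filter, sum_const, sum_const, nsmul_one, nsmul_one,
    filter_congr fun g _ => e1 g, filter_congr fun y _ => e2 y] at h
  have hc := congrArg (Nat.cast : ℕ → ℂ) (card_class_mul t)
  rw [Nat.cast_mul, h, ← P.M.card_mul_index, Nat.cast_mul] at hc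
  have hn : (P.M.index : ℂ) ≠ 0 := Nat.cast_ne_zero.2 Subgroup.index_ne_zero_of_finite
  refine mul_left_cancel₀ hn ?_
  linear_combination hc

variable {I : Ideal AlgInt} [I.IsMaximal]

/-- The coefficients of the square function. -/
theorem sum_sqInd_coef [Fintype (IrrCharacter G)] {F : P.Quo → ℂ} (hs : Supported F) :
    ∑ χ : IrrCharacter G, sqInd (χ : G → ℂ) * P.coef F χ =
      (Nat.card P.Quo : ℂ)⁻¹ * ∑ γ : P.Quo, F (γ * γ) := by
  simp only [P.coef_eq, Finset.mul_sum]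
  rw [sum_comm]
  have h : ∀ y : ↥P.M, ∑ χ : IrrCharacter G,
      sqInd (χ : G → ℂ) * ((Nat.card ↥P.M : ℂ)⁻¹ * (F (P.proj y) * conj ((χ : G → ℂ) y))) =
      (Nat.card ↥P.M : ℂ)⁻¹ * (∑ x ∈ univ.filter (fun x : ↥P.M => x * x = y), F (P.proj (x * x))) := by
    intro y
    have hR : ∑ x ∈ univ.filter (fun x : ↥P.M => x * x = y), F (P.proj (x * x)) =
        ((univ.filter (fun x : ↥P.M => x * x = y)).card : ℂ) * F (P.proj y) := by
      rw [← nsmul_eq_mul, ← sum_const]
      exact sum_congr rfl fun x hx => by rw [(mem_filter.1 hx).2]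
    rw [hR]
    by_cases hy : 2 ∣ orderOf (y : G)
    · have hc := congrArg conj (card_square_roots (y : G))
      rw [map_sum, map_natCast] at hc
      simp only [map_mul, conj_sqInd] at hc
      have hroots : (univ.filter (fun x : ↥P.M => x * x = y)).card = Nat.card {s : G // s * s = y} := by
        rw [Nat.card_eq_fintype_card, Fintype.card_subtype]
        refine card_bij (fun x _ => (x : G)) (fun x hx => ?_) (fun _ _ _ _ e => Subtype.ext e) fun g hg => ?_
        · exact mem_filter.2 ⟨mem_univ _, congrArg Subtype.val (mem_filter.1 hx).2⟩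
        · have hg' : g * g = (y : G) := (mem_filter.1 hg).2
          obtain ⟨k, hk⟩ := exists_invol_pow hy
          have hgM : g ∈ P.M := P.centralizer_le_M (pow_mem y.2 k) hk
            (Subgroup.mem_centralizer_singleton_iff.2 (by
              rw [← hg']; exact (((Commute.refl g).mul_right (Commute.refl g)).pow_right k).eq))
          exact ⟨⟨g, hgM⟩, mem_filter.2 ⟨mem_univ _, Subtype.ext hg'⟩, rfl⟩
      rw [hroots, hc, sum_mul, mul_sum]
      exact sum_congr rfl fun χ _ => by ring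
    · simp only [P.comp_supported hs hy, zero_mul, mul_zero, sum_const_zero]
  rw [sum_congr rfl fun y _ => h y, ← mul_sum, sum_fiberwise, sum_congr rfl fun x _ => by rw [map_mul],
    P.sum_proj (fun γ => F (γ * γ)), P.card_quo_cast]
  simp only [← mul_sum]
  have h1 : (Nat.card P.Quo : ℂ) ≠ 0 := Nat.cast_ne_zero.2 Nat.card_pos.ne'
  have h2 : (Nat.card ↥P.W : ℂ) ≠ 0 := Nat.cast_ne_zero.2 Nat.card_pos.ne'
  field_simp

/-- The pairs over a class of `M / W`. -/
theorem sum_commuting (γ : P.Quo) :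
    ∑ y ∈ univ.filter (fun y : ↥P.M => P.proj y = γ),
      (univ.filter (fun u : ↥P.M => orderOf u = 2 ∧ Commute u y)).card =
      Nat.card ↥P.W * commCount γ := by
  have hmap : ∀ y ∈ univ.filter (fun y : ↥P.M => P.proj y = γ),
      ∀ u ∈ univ.filter (fun u : ↥P.M => orderOf u = 2 ∧ Commute u y),
        P.proj u ∈ univ.filter (fun v : P.Quo => orderOf v = 2 ∧ Commute v γ) := by
    intro y hy u hu
    obtain ⟨hu2, hc⟩ := (mem_filter.1 hu).2
    rw [(mem_filter.1 hy).2.symm]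
    refine mem_filter.2 ⟨mem_univ _, orderOf_eq_prime (hp := ⟨Nat.prime_two⟩) ?_ fun e => ?_, hc.map P.proj⟩
    · rw [← map_pow, ← hu2, pow_orderOf_eq_one, map_one]
    · have := (P.even_proj u).2 (by rw [Subgroup.orderOf_coe, hu2])
      rw [e, orderOf_one] at this
      norm_num at this
  rw [commCount, Nat.card_eq_fintype_card (α := {v : P.Quo // orderOf v = 2 ∧ Commute v γ}),
    Fintype.card_subtype, mul_comm, ← smul_eq_mul, ← sum_const,
    sum_congr rfl fun y hy => card_eq_sum_card_fiberwise (f := P.proj) (hmap y hy), sum_comm]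
  refine sum_congr rfl fun v hv => ?_
  obtain ⟨hv2, hvc⟩ := (mem_filter.1 hv).2
  obtain ⟨s, hs, hso, rfl⟩ := P.exists_invol_lift hv2
  rw [← card_sigma]
  -- lifts of the classes
  have ha : ∀ u : ↥P.M, orderOf u = 2 → P.proj u = P.proj ⟨s, P.S_le_M hs⟩ →
      ∃ a : ↥P.M, (a : G) ∈ P.W ∧ a * ⟨s, P.S_le_M hs⟩ * a⁻¹ = u := by
    intro u hu he
    obtain ⟨a, ha, hae⟩ := CfsgLib.ElemEight.exists_conj_of_coset P.odd hso
      (z := (u : G)) (by rw [Subgroup.orderOf_coe, hu]) (by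
        have := P.proj_eq.1 he.symm
        rwa [show (⟨s, P.S_le_M hs⟩ : ↥P.M).1⁻¹ = s from CfsgLib.Invol.invol_inv hso] at this)
    exact ⟨⟨a, P.W_le_M ha⟩, ha, Subtype.ext hae⟩
  have hy : ∀ u : ↥P.M, orderOf u = 2 → P.proj u = P.proj ⟨s, P.S_le_M hs⟩ →
      ∃ y : ↥P.M, P.proj y = γ ∧ Commute u y := by
    intro u hu he
    obtain ⟨y0, rfl⟩ := P.proj_surjective γ
    have he' : P.proj (y0 * u * y0⁻¹) = P.proj ⟨s, P.S_le_M hs⟩ := by
      rw [map_mul, map_mul, map_inv, he, ← hvc.eq, mul_inv_cancel_right]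
    obtain ⟨a, haW, hae⟩ := ha _ (by rw [orderOf_cj, hu]) he'
    obtain ⟨b, hb, hbe⟩ := ha u hu he
    refine ⟨b * a⁻¹ * y0, ?_, ?_⟩
    · rw [map_mul, map_mul, map_inv, P.proj_eq_one.2 hb, P.proj_eq_one.2 haW, inv_one, mul_one, one_mul]
    · show u * (b * a⁻¹ * y0) = b * a⁻¹ * y0 * u
      calc u * (b * a⁻¹ * y0) = b * ⟨s, P.S_le_M hs⟩ * b⁻¹ * (b * a⁻¹ * y0) := by rw [hbe]
        _ = b * a⁻¹ * (a * ⟨s, P.S_le_M hs⟩ * a⁻¹) * y0 := by group
        _ = _ := by rw [hae]; group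
  choose! a haW hae using ha
  choose! y hyγ hyc using hy
  obtain ⟨U, hU⟩ : ∃ U : Finset ↥P.M, U = univ.filter (fun w : ↥P.M => (w : G) ∈ P.W) := ⟨_, rfl⟩
  rw [show Nat.card ↥P.W = U.card by
    rw [← Nat.card_congr (Subgroup.subgroupOfEquivOfLe P.W_le_M).toEquiv, Nat.card_eq_fintype_card,
      Fintype.card_subtype, hU]
    simp only [Subgroup.mem_subgroupOf]]
  obtain ⟨u0, hu0⟩ : ∃ u0, u0 = (⟨s, P.S_le_M hs⟩ : ↥P.M) := ⟨_, rfl⟩
  rw [← hu0] at hv2 hvc hae hyγ hyc haW ⊢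
  have hord : ∀ w : ↥P.M, orderOf (w * u0 * w⁻¹) = 2 := fun w => by
    rw [orderOf_cj, hu0, ← Subgroup.orderOf_coe]; exact hso
  have hpr : ∀ w ∈ U, P.proj (w * u0 * w⁻¹) = P.proj u0 := fun w hw => by
    rw [map_mul, map_mul, map_inv, P.proj_eq_one.2 (show (w : G) ∈ P.W by rw [hU] at hw; exact (mem_filter.1 hw).2),
      one_mul, inv_one, mul_one]
  have hcomm : ∀ w : ↥P.M, ∀ u, w * u0 * w⁻¹ = u → ∀ b, b * u0 * b⁻¹ = u → Commute u (w * b⁻¹) := by
    intro w u hw b hb
    show u * (w * b⁻¹) = w * b⁻¹ * u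
    nth_rewrite 1 [← hw]
    rw [← hb]
    group
  symm
  refine card_bij'
    (fun w _ => ⟨y (w * u0 * w⁻¹) * (w * (a (w * u0 * w⁻¹))⁻¹), w * u0 * w⁻¹⟩)
    (fun p _ => (y p.2)⁻¹ * p.1 * a p.2) (fun w hw => ?_) (fun p hp => ?_) (fun w hw => ?_) (fun p hp => ?_)
  · have hwW : (w : G) ∈ P.W := by rw [hU] at hw; exact (mem_filter.1 hw).2
    refine mem_sigma.2 ⟨mem_filter.2 ⟨mem_univ _, ?_⟩, mem_filter.2 ⟨mem_filter.2 ⟨mem_univ _, hord w, ?_⟩, hpr w hw⟩⟩
    · rw [map_mul, hyγ _ (hord w) (hpr w hw), map_mul, map_inv, P.proj_eq_one.2 hwW,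
        P.proj_eq_one.2 (haW _ (hord w) (hpr w hw)), one_mul, inv_one, mul_one]
    · exact (hyc _ (hord w) (hpr w hw)).mul_right (hcomm w _ rfl _ (hae _ (hord w) (hpr w hw)))
  · obtain ⟨p1, p2⟩ := p
    obtain ⟨hp1, hp2⟩ := mem_sigma.1 hp
    obtain ⟨hp2', hp2e⟩ := mem_filter.1 hp2
    obtain ⟨hp2o, hp2c⟩ := (mem_filter.1 hp2').2
    rw [hU]
    refine mem_filter.2 ⟨mem_univ _, P.proj_eq_one.1 ?_⟩
    rw [map_mul, map_mul, map_inv, hyγ _ hp2o hp2e, (mem_filter.1 hp1).2,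
      P.proj_eq_one.2 (haW _ hp2o hp2e), inv_mul_cancel, one_mul]
  · show (y (w * u0 * w⁻¹))⁻¹ * (y (w * u0 * w⁻¹) * (w * (a (w * u0 * w⁻¹))⁻¹)) * a (w * u0 * w⁻¹) = w
    group
  · obtain ⟨p1, p2⟩ := p
    obtain ⟨hp1, hp2⟩ := mem_sigma.1 hp
    obtain ⟨hp2', hp2e⟩ := mem_filter.1 hp2
    obtain ⟨hp2o, hp2c⟩ := (mem_filter.1 hp2').2
    have e : (y p2)⁻¹ * p1 * a p2 * u0 * ((y p2)⁻¹ * p1 * a p2)⁻¹ = p2 := by
      rw [show (y p2)⁻¹ * p1 * a p2 * u0 * ((y p2)⁻¹ * p1 * a p2)⁻¹ =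
        (y p2)⁻¹ * p1 * (a p2 * u0 * (a p2)⁻¹) * ((y p2)⁻¹ * p1)⁻¹ by group, hae _ hp2o hp2e,
        ← ((hyc _ hp2o hp2e).inv_right.mul_right hp2c).eq, mul_inv_cancel_right]
    simp only [e]
    congr 1
    group

include P in
/-- The centralizers in `M` of its involutions are conjugates of that of `t`. -/
theorem sum_cent {f : G → ℂ} (hf : IsClassFunction G f) {t : G} (ht : orderOf t = 2) {u : ↥P.M}
    (hu : orderOf u = 2) :
    ∑ y ∈ univ.filter (fun y : ↥P.M => Commute u y), f y =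
      ∑ g ∈ univ.filter (· ∈ Subgroup.centralizer ({t} : Set G)), f g := by
  have huG : orderOf (u : G) = 2 := by rw [Subgroup.orderOf_coe, hu]
  obtain ⟨c, hc⟩ := isConj_iff.1 (P.isConj_invol ht huG)
  have hce : ∀ g : G, c⁻¹ * g * c ∈ Subgroup.centralizer ({t} : Set G) ↔ Commute (u : G) g := fun g => by
    rw [Subgroup.mem_centralizer_singleton_iff, ← hc]
    constructor
    · intro h
      show c * t * c⁻¹ * g = g * (c * t * c⁻¹)
      calc c * t * c⁻¹ * g = c * (t * (c⁻¹ * g * c)) * c⁻¹ := by group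
        _ = c * (c⁻¹ * g * c * t) * c⁻¹ := by rw [h]
        _ = g * (c * t * c⁻¹) := by group
    · intro h
      calc c⁻¹ * g * c * t = c⁻¹ * (g * (c * t * c⁻¹)) * c := by group
        _ = c⁻¹ * (c * t * c⁻¹ * g) * c := by rw [h.eq]
        _ = t * (c⁻¹ * g * c) := by group
  refine sum_bij (fun y _ => c⁻¹ * (y : G) * c) (fun y hy => mem_filter.2 ⟨mem_univ _, (hce _).2
    (congrArg Subtype.val (mem_filter.1 hy).2.eq :)⟩)
    (fun a _ b _ e => Subtype.ext (mul_left_cancel (mul_right_cancel e))) (fun g hg => ?_) (fun y _ => ?_)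
  · have hcg : Commute (u : G) (c * g * c⁻¹) := (hce _).1 (by
      simpa [mul_assoc] using (mem_filter.1 hg).2)
    exact ⟨⟨c * g * c⁻¹, P.centralizer_le_M u.2 huG
        (Subgroup.mem_centralizer_singleton_iff.2 hcg.symm.eq)⟩,
      mem_filter.2 ⟨mem_univ _, Subtype.ext hcg.eq⟩, by simp [mul_assoc]⟩
  · have := hf (y : G) c⁻¹
    rwa [inv_inv, eq_comm] at this

/-- The coefficient of `phiFun` in the principal block. -/
theorem coef_phi (hI : IsPModular 2 I) {χ : IrrCharacter G} (hχ : χ ∈ principalBlock I G) {t : G}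
    (ht : orderOf t = 2) :
    ∃ m : ℕ, ∑ g ∈ univ.filter (· ∈ Subgroup.centralizer ({t} : Set G)), (χ : G → ℂ) g =
        (m : ℂ) * Nat.card ↥(Subgroup.centralizer ({t} : Set G)) ∧
      P.coef (phiFun P.Quo) χ = (m : ℂ) - sqInd (χ : G → ℂ) + (if χ = oneChar G then 1 else 0) := by
  obtain ⟨C, hC⟩ : ∃ C, C = Subgroup.centralizer ({t} : Set G) := ⟨_, rfl⟩
  obtain ⟨m, hm⟩ := CfsgLib.ElemEight.exists_sum_subgroup C χ
  rw [CfsgLib.ElemEight.sum_subgroup_eq] at hm
  have hm0 := hm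
  rw [← sum_filter_add_sum_filter_not _ (fun g => 2 ∣ orderOf g)] at hm
  have hF : ∀ a b : G, (χ : G → ℂ) (b * a * b⁻¹) = (χ : G → ℂ) a := isClassFunction_irr χ
  obtain ⟨E, hE⟩ : ∃ E : Finset ↥P.M, E = univ.filter (fun y : ↥P.M => 2 ∣ orderOf (y : G)) := ⟨_, rfl⟩
  obtain ⟨J, hJ⟩ : ∃ J : Finset ↥P.M, J = univ.filter (fun u : ↥P.M => orderOf u = 2) := ⟨_, rfl⟩
  obtain ⟨Cs, hCs⟩ : ∃ v : ℂ, v = ∑ g ∈ (univ.filter (· ∈ C)).filter (fun g => 2 ∣ orderOf g),
      (χ : G → ℂ) g := ⟨_, rfl⟩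
  obtain ⟨Cr, hCr⟩ : ∃ v : ℂ, v = ∑ g ∈ (univ.filter (· ∈ C)).filter (fun g => ¬ 2 ∣ orderOf g),
      (χ : G → ℂ) g := ⟨_, rfl⟩
  rw [← hCs, ← hCr] at hm
  obtain ⟨v0, hv0⟩ : ∃ v0 : P.Quo → ℂ, v0 = fun γ => if 2 ∣ orderOf γ then P.val χ γ else 0 := ⟨_, rfl⟩
  have hv : ∀ y : ↥P.M, v0 (P.proj y) = if 2 ∣ orderOf (y : G) then (χ : G → ℂ) y else 0 := fun y => by
    simp only [hv0, P.even_proj y]
    split_ifs with h
    · rw [P.val_proj hI hχ y h]
    · rfl
  -- the square sum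
  have hν : (Nat.card ↥P.M : ℂ) * sqInd (χ : G → ℂ) =
      (Nat.card ↥P.M : ℂ) * (if χ = oneChar G then 1 else 0) +
        (∑ y ∈ E, (χ : G → ℂ) ((y : G) * y) - ∑ y ∈ E, (χ : G → ℂ) y) := by
    have h1 := P.sum_even (f := fun g => (χ : G → ℂ) (g * g) - (χ : G → ℂ) g) fun a b => by
      show (χ : G → ℂ) (b * a * b⁻¹ * (b * a * b⁻¹)) - (χ : G → ℂ) (b * a * b⁻¹) = _
      rw [conj_mul, hF, hF]
    rw [← hE] at h1
    have h2 : ∑ g : G, ((χ : G → ℂ) (g * g) - (χ : G → ℂ) g) =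
        ∑ g ∈ univ.filter (fun g : G => 2 ∣ orderOf g), ((χ : G → ℂ) (g * g) - (χ : G → ℂ) g) := by
      rw [← sum_filter_add_sum_filter_not univ (fun g : G => 2 ∣ orderOf g), add_eq_left, sum_sub_distrib,
        CfsgLib.Block.FreeElementary.sum_regular_sq (fun g => (χ : G → ℂ) g), sub_self]
    have h3 : ∑ g : G, (χ : G → ℂ) g = (Nat.card G : ℂ) * (if χ = oneChar G then 1 else 0) := by
      have h := classInner_irr χ (oneChar G)
      have e1 : ∀ g : G, conj ((oneChar G : G → ℂ) g) = 1 := fun g => map_one _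
      simp only [classInner, e1, mul_one] at h
      rw [← h, mul_inv_cancel_left₀ (Nat.cast_ne_zero.2 Nat.card_pos.ne')]
    rw [h1, sum_sub_distrib, h3, sum_sub_distrib] at h2
    have hidx : (Nat.card G : ℂ) = (P.M.index : ℂ) * (Nat.card ↥P.M : ℂ) := by
      rw [← Nat.cast_mul, mul_comm, Subgroup.card_mul_index]
    have hs : ∑ g : G, (χ : G → ℂ) (g * g) = (Nat.card G : ℂ) * sqInd (χ : G → ℂ) := by
      rw [sqInd, mul_inv_cancel_left₀ (Nat.cast_ne_zero.2 Nat.card_pos.ne')]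
    rw [hs, hidx] at h2
    refine mul_left_cancel₀ (Nat.cast_ne_zero.2 (Subgroup.index_ne_zero_of_finite (H := P.M)) :
      (P.M.index : ℂ) ≠ 0) ?_
    linear_combination h2
  -- the elements with square of odd order
  have hodd : ∑ y ∈ E.filter (fun y : ↥P.M => ¬ 2 ∣ orderOf ((y : G) * y)), (χ : G → ℂ) ((y : G) * y) =
      (J.card : ℂ) * Cr := by
    have h := sum_part_involution (H := ↥P.M) (fun y => (χ : G → ℂ) ((y : G) * y))
    simp only [← Subgroup.orderOf_coe, Subgroup.coe_mul] at h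
    rw [hE, filter_filter, h, ← nsmul_eq_mul, ← sum_const]
    refine sum_congr (by rw [hJ]; simp only [Subgroup.orderOf_coe]) fun u hu => ?_
    have hu' : orderOf u = 2 := by rw [hJ] at hu; exact (mem_filter.1 hu).2
    have hcl : IsClassFunction G (fun g => if ¬ 2 ∣ orderOf g then (χ : G → ℂ) (g * g) else 0) := fun a b => by
      simp only [orderOf_cj, conj_mul, hF]
    have h2 := P.sum_cent hcl ht hu'
    rw [← sum_filter, ← sum_filter, filter_filter, ← hC] at h2
    have hsq := CfsgLib.Block.FreeElementary.sum_regular_sq (G := ↥C) (fun g => (χ : G → ℂ) g)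
    simp only [Subgroup.coe_mul, ← Subgroup.orderOf_coe] at hsq
    rw [hCr]
    conv_rhs => rw [sum_filter,
      ← CfsgLib.ElemEight.sum_subgroup_eq C (fun g => if ¬ 2 ∣ orderOf g then (χ : G → ℂ) g else 0),
      ← sum_filter, ← hsq, sum_filter,
      CfsgLib.ElemEight.sum_subgroup_eq C (fun g => if ¬ 2 ∣ orderOf g then (χ : G → ℂ) (g * g) else 0),
      ← sum_filter, ← h2]
    refine sum_congr rfl fun y hy => ?_
    obtain ⟨hc, -⟩ := (mem_filter.1 hy).2
    have hc' : Commute (u : G) (y : G) := (congrArg Subtype.val hc.eq :)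
    show (χ : G → ℂ) ((u : G) * y * ((u : G) * y)) = _
    rw [← pow_two, hc'.mul_pow, pow_two (y : G), show (u : G) ^ 2 = 1 by
      rw [← SubgroupClass.coe_pow, ← hu', pow_orderOf_eq_one]; rfl, one_mul]
  -- the sums over `M / W`
  have heven : ∑ y ∈ E.filter (fun y : ↥P.M => 2 ∣ orderOf ((y : G) * y)), (χ : G → ℂ) ((y : G) * y) =
      (Nat.card ↥P.W : ℂ) * ∑ γ : P.Quo, (Nat.card {s : P.Quo // s * s = γ} : ℂ) * v0 γ := by
    rw [show ∑ γ : P.Quo, (Nat.card {s : P.Quo // s * s = γ} : ℂ) * v0 γ = ∑ γ : P.Quo, v0 (γ * γ) by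
      rw [← sum_fiberwise univ (fun γ : P.Quo => γ * γ) (fun γ => v0 (γ * γ))]
      refine sum_congr rfl fun γ _ => ?_
      rw [sum_congr rfl (g := fun _ => v0 γ) fun x hx => by rw [(mem_filter.1 hx).2], sum_const,
        nsmul_eq_mul, Nat.card_eq_fintype_card, Fintype.card_subtype],
      ← P.sum_proj (fun γ => v0 (γ * γ)), hE, filter_filter]
    simp only [← map_mul, hv, Subgroup.coe_mul]
    rw [← sum_filter]
    refine sum_congr (filter_congr fun y _ => ⟨fun h => h.2, fun h => ⟨h.trans ?_, h⟩⟩) fun _ _ => rfl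
    rw [← pow_two]; exact orderOf_pow_dvd 2
  have hval : ∑ y ∈ E, (χ : G → ℂ) y = (Nat.card ↥P.W : ℂ) * ∑ γ : P.Quo, v0 γ := by
    rw [← P.sum_proj v0, sum_congr rfl fun y _ => hv y, ← sum_filter, hE]
  have hcom : (J.card : ℂ) * Cs =
      (Nat.card ↥P.W : ℂ) * ∑ γ : P.Quo, (commCount γ : ℂ) * v0 γ := by
    have hcl : IsClassFunction G (fun g => if 2 ∣ orderOf g then (χ : G → ℂ) g else 0) := fun a b => by
      simp only [orderOf_cj, hF]
    rw [hCs, sum_filter, hC, ← nsmul_eq_mul, ← sum_const, sum_congr rfl fun u hu =>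
      (P.sum_cent hcl ht (by rw [hJ] at hu; exact (mem_filter.1 hu).2)).symm,
      sum_congr rfl fun u _ => sum_filter (fun y : ↥P.M => Commute u y) _, sum_comm, mul_sum,
      ← sum_fiberwise univ P.proj]
    refine sum_congr rfl fun γ _ => ?_
    rw [show (Nat.card ↥P.W : ℂ) * ((commCount γ : ℂ) * v0 γ) =
      ((Nat.card ↥P.W * commCount γ : ℕ) : ℂ) * v0 γ by push_cast; ring, ← P.sum_commuting γ,
      Nat.cast_sum, sum_mul]
    refine sum_congr rfl fun y hy => ?_
    rw [← sum_filter, sum_const, nsmul_eq_mul, ← (mem_filter.1 hy).2, hv, hJ, filter_filter]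
  have hcard := P.card_invol_M ht
  rw [← hJ, ← hC] at hcard
  rw [← sum_filter_add_sum_filter_not E (fun y : ↥P.M => 2 ∣ orderOf ((y : G) * y)), heven, hodd, hval] at hν
  have hkey : (Nat.card ↥P.W : ℂ) * ∑ γ : P.Quo, phiFun P.Quo γ * v0 γ =
      (Nat.card ↥P.M : ℂ) * ((m : ℂ) - sqInd (χ : G → ℂ) + (if χ = oneChar G then 1 else 0)) := by
    have h : ∀ γ : P.Quo, phiFun P.Quo γ * v0 γ = (commCount γ : ℂ) * v0 γ + v0 γ -
        (Nat.card {s : P.Quo // s * s = γ} : ℂ) * v0 γ := fun γ => by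
      by_cases h : 2 ∣ orderOf γ
      · rw [phiFun, if_pos h]; ring
      · simp only [hv0, if_neg h, mul_zero, add_zero, sub_zero]
    rw [sum_congr rfl fun γ _ => h γ, sum_sub_distrib, sum_add_distrib, mul_sub, mul_add, ← hcom]
    linear_combination hν + (J.card : ℂ) * hm + (m : ℂ) * hcard
  refine ⟨m, hC ▸ hm0, ?_⟩
  have hconj : conj (classInner (phiFun P.Quo) (P.val χ)) =
      (Nat.card P.Quo : ℂ)⁻¹ * ∑ γ : P.Quo, phiFun P.Quo γ * v0 γ := by
    simp only [classInner, map_mul, map_inv₀, map_natCast, map_sum, Complex.conj_conj]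
    congr 1
    refine sum_congr rfl fun γ _ => ?_
    by_cases h : 2 ∣ orderOf γ
    · simp only [hv0, phiFun, if_pos h, map_sub, map_add, map_natCast, map_one]
    · rw [phiFun, if_neg h, map_zero, zero_mul, zero_mul]
  have e : (Nat.card P.Quo : ℂ)⁻¹ * ∑ γ : P.Quo, phiFun P.Quo γ * v0 γ =
      (m : ℂ) - sqInd (χ : G → ℂ) + (if χ = oneChar G then 1 else 0) := by
    refine mul_left_cancel₀ (Nat.cast_ne_zero.2 (Nat.card_pos (α := ↥P.M)).ne' : (Nat.card ↥P.M : ℂ) ≠ 0) ?_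
    rw [← hkey, P.card_quo_cast]
    have h1 : (Nat.card P.Quo : ℂ) ≠ 0 := Nat.cast_ne_zero.2 Nat.card_pos.ne'
    field_simp
  rw [P.coef_principal hI hχ phiFun_supported, ← Complex.conj_conj (classInner _ _), hconj, e,
    map_add, map_sub, map_natCast, conj_sqInd]
  split_ifs <;> simp

/-- The sum over the pairs of involutions. -/
theorem pairs [Fintype (IrrCharacter G)] {F : P.Quo → ℂ} (hF : IsClassFunction P.Quo F)
    (hs : Supported F) (hprod : ∀ u v : P.Quo, orderOf u = 2 → orderOf v = 2 → u ≠ v → orderOf (u * v) = 2)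
    {t : G} (ht : orderOf t = 2) {τ : P.Quo} (hτ : orderOf τ = 2)
    (hconst : ∀ u : P.Quo, orderOf u = 2 → F u = F τ) :
    ∑ χ : IrrCharacter G, P.coef F χ * ((χ : G → ℂ) t * (χ : G → ℂ) t / (χ : G → ℂ) 1) =
      F τ * ((numInvol P.Quo : ℂ) - 1) / ((P.M.index : ℂ) * (numInvol P.Quo : ℂ)) := by
  obtain ⟨IG, hIG⟩ : ∃ IG : Finset G, IG = univ.filter (fun g => orderOf g = 2) := ⟨_, rfl⟩
  obtain ⟨J, hJ⟩ : ∃ J : Finset ↥P.M, J = univ.filter (fun u : ↥P.M => orderOf u = 2) := ⟨_, rfl⟩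
  obtain ⟨Q, hQ⟩ : ∃ Q : Finset P.Quo, Q = univ.filter (fun u : P.Quo => orderOf u = 2) := ⟨_, rfl⟩
  have hQcard : (Q.card : ℂ) = numInvol P.Quo := by
    rw [numInvol, Nat.card_eq_fintype_card, Fintype.card_subtype, hQ]
  have hiff : ∀ g : G, IsConj t g ↔ orderOf g = 2 := fun g => ⟨fun h => by
    obtain ⟨k, rfl⟩ := isConj_iff.1 h
    rw [orderOf_cj, ht], P.isConj_invol ht⟩
  -- the structure constants
  have hclass : (Nat.card {x : G // IsConj t x} : ℂ) = IG.card := by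
    rw [hIG, ← Fintype.card_subtype, ← Nat.card_eq_fintype_card,
      Nat.card_congr (Equiv.subtypeEquivRight hiff)]
  have hfib : ∀ f : G → ℂ, ∑ z : G, (Char.classConst t t z : ℂ) * f z =
      ∑ p ∈ IG ×ˢ IG, f (p.1 * p.2) := by
    intro f
    rw [← sum_fiberwise (IG ×ˢ IG) (fun p : G × G => p.1 * p.2)]
    refine sum_congr rfl fun z _ => ?_
    rw [sum_congr rfl (g := fun _ => f z) fun p hp => by rw [(mem_filter.1 hp).2],
      sum_const, nsmul_eq_mul, Char.classConst, Nat.card_eq_fintype_card, Fintype.card_subtype]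
    congr 3
    ext p
    simp [hIG, hiff, and_assoc, -isConj_iff]
  have hchar : ∀ χ : IrrCharacter G, ∑ p ∈ IG ×ˢ IG, (χ : G → ℂ) (p.1 * p.2) =
      (IG.card : ℂ) ^ 2 * ((χ : G → ℂ) t * (χ : G → ℂ) t / (χ : G → ℂ) 1) := by
    intro χ
    have h := Char.omega_mul χ t t
    rw [← sum_div, hfib] at h
    simp only [Char.omega, hclass] at h
    have h1 := Char.irr_one_ne_zero χ
    field_simp at h ⊢
    linear_combination -h
  have hT : ∑ p ∈ IG ×ˢ IG, indFun P.M (fun y => F (P.proj y)) (p.1 * p.2) =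
      (IG.card : ℂ) ^ 2 * ∑ χ : IrrCharacter G, P.coef F χ *
        ((χ : G → ℂ) t * (χ : G → ℂ) t / (χ : G → ℂ) 1) := by
    rw [classFun_expand (isClassFunction_indFun P.M (fun y => F (P.proj y)))]
    simp only [Finset.sum_apply, Pi.smul_apply, smul_eq_mul]
    rw [sum_comm, mul_sum]
    refine sum_congr rfl fun χ _ => ?_
    rw [← mul_sum, hchar, coef]
    ring
  -- pairs in `M`
  have hM : ∑ p ∈ IG ×ˢ IG, indFun P.M (fun y => F (P.proj y)) (p.1 * p.2) =
      (P.M.index : ℂ) * ∑ p ∈ J ×ˢ J, F (P.proj (p.1 * p.2)) := by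
    obtain ⟨X, hX⟩ : ∃ X : ℂ, X = ∑ p ∈ IG ×ˢ IG, extendByZero P.M (fun y => F (P.proj y)) (p.1 * p.2) :=
      ⟨_, rfl⟩
    have hinv : ∀ x : G, ∑ p ∈ IG ×ˢ IG, extendByZero P.M (fun y => F (P.proj y)) (x⁻¹ * (p.1 * p.2) * x) = X := by
      intro x
      rw [hX]
      refine sum_equiv ((MulAut.conj x⁻¹).toEquiv.prodCongr (MulAut.conj x⁻¹).toEquiv) (fun p => ?_) fun p _ => ?_
      · have e : ∀ a : G, orderOf (x⁻¹ * a * x) = orderOf a := fun a => by
          have := orderOf_cj a x⁻¹; rwa [inv_inv] at this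
        simp [hIG, e]
      · simp [mul_assoc]
    have hXJ : X = ∑ p ∈ J ×ˢ J, F (P.proj (p.1 * p.2)) := by
      rw [hX]
      refine (sum_subset_zero_on_sdiff (s₁ := (J ×ˢ J).image fun p => ((p.1 : G), (p.2 : G)))
        (fun p hp => ?_) (fun p hp => ?_) (fun _ _ => rfl)).symm.trans ?_
      · obtain ⟨q, hq, rfl⟩ := mem_image.1 hp
        rw [hJ, mem_product, mem_filter, mem_filter] at hq
        simp [hIG, ← Subgroup.orderOf_coe] at hq ⊢
        exact hq
      · obtain ⟨hp1, hp2⟩ := mem_sdiff.1 hp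
        simp only [hIG, mem_product, mem_filter, mem_univ, true_and] at hp1
        by_contra hne
        have hm : p.1 * p.2 ∈ P.M := by
          by_contra hm; exact hne (extendByZero_not_mem P.M _ hm)
        rw [extendByZero_mem P.M _ hm] at hne
        have h2 : 2 ∣ orderOf (p.1 * p.2) := by
          by_contra h2; exact hne (P.comp_supported hs h2)
        obtain ⟨k, hk⟩ := exists_invol_pow h2
        have hu : p.1 ∈ P.M := by
          refine P.centralizer_le_M (pow_mem hm k) hk (Subgroup.mem_centralizer_singleton_iff.2 ?_)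
          have h := congrArg (· ^ k) (CfsgLib.Invol.invol_conj_mul hp1.1 hp1.2)
          simp only [conj_pow, inv_pow, CfsgLib.Invol.invol_inv hk] at h
          exact mul_inv_eq_iff_eq_mul.1 h
        have hv : p.2 ∈ P.M := by
          have := mul_mem (inv_mem hu) hm; rwa [inv_mul_cancel_left] at this
        refine hp2 (mem_image.2 ⟨(⟨p.1, hu⟩, ⟨p.2, hv⟩), ?_, rfl⟩)
        rw [mem_product, hJ, mem_filter, mem_filter, Subgroup.orderOf_mk, Subgroup.orderOf_mk]
        exact ⟨⟨mem_univ _, hp1.1⟩, mem_univ _, hp1.2⟩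
      · rw [sum_image fun a _ b _ e => Prod.ext (Subtype.ext (congrArg Prod.fst e))
          (Subtype.ext (congrArg Prod.snd e))]
        refine sum_congr rfl fun p _ => ?_
        rw [extendByZero_mem P.M _ (mul_mem p.1.2 p.2.2)]
        rfl
    simp only [indFun, ← mul_sum]
    rw [sum_comm, sum_congr rfl fun x _ => hinv x, sum_const, card_univ, ← Nat.card_eq_fintype_card,
      nsmul_eq_mul, ← hXJ, ← P.M.card_mul_index, Nat.cast_mul]
    have h1 : (Nat.card ↥P.M : ℂ) ≠ 0 := Nat.cast_ne_zero.2 Nat.card_pos.ne'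
    field_simp
  -- pairs in `M / W`
  obtain ⟨c, hc⟩ : ∃ c, c = (J.filter fun u => P.proj u = τ).card := ⟨_, rfl⟩
  have hcon : ∀ v ∈ Q, (J.filter fun u => P.proj u = v).card = c := by
    intro v hv
    rw [hQ, mem_filter] at hv
    obtain ⟨Φ, -⟩ := P.nonempty_frame
    obtain ⟨δ, hδ⟩ := isConj_iff.1 (Φ.trans v τ hv.2 hτ)
    obtain ⟨a, rfl⟩ := P.proj_surjective δ
    rw [hc]
    refine card_equiv (MulAut.conj a).toEquiv fun u => ?_
    simp only [hJ, mem_filter, mem_univ, true_and, MulEquiv.toEquiv_eq_coe, EquivLike.coe_coe,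
      MulAut.conj_apply, orderOf_cj, map_mul, map_inv, ← hδ, mul_left_inj, mul_right_inj]
  have hmapJ : ∀ u ∈ J, P.proj u ∈ Q := fun u hu => by
    rw [hJ, mem_filter] at hu
    obtain ⟨s, hs, hso, a, ha, hae⟩ := P.invol_mem_M u.2 (by rw [Subgroup.orderOf_coe]; exact hu.2)
    rw [hQ, show u = (⟨a, P.W_le_M ha⟩ : ↥P.M) * ⟨s, P.S_le_M hs⟩ * ⟨a, P.W_le_M ha⟩⁻¹ from Subtype.ext hae.symm,
      map_mul, map_mul, map_inv, (P.proj_eq_one (y := ⟨a, P.W_le_M ha⟩)).2 ha, one_mul, inv_one, mul_one]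
    exact mem_filter.2 ⟨mem_univ _, P.orderOf_proj_invol hs hso⟩
  have hJcard : (J.card : ℂ) = (numInvol P.Quo : ℂ) * c := by
    rw [card_eq_sum_card_fiberwise hmapJ, sum_congr rfl hcon, sum_const, smul_eq_mul, Nat.cast_mul, hQcard]
  have hJQ : ∑ p ∈ J ×ˢ J, F (P.proj (p.1 * p.2)) =
      (c : ℂ) ^ 2 * (F τ * ((numInvol P.Quo : ℂ) * ((numInvol P.Quo : ℂ) - 1))) := by
    rw [← sum_fiberwise_of_maps_to (t := Q ×ˢ Q) (g := fun p : ↥P.M × ↥P.M => (P.proj p.1, P.proj p.2))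
      fun p hp => mem_product.2 ⟨hmapJ _ (mem_product.1 hp).1, hmapJ _ (mem_product.1 hp).2⟩]
    have h : ∀ q ∈ Q ×ˢ Q, ∑ p ∈ (J ×ˢ J).filter (fun p => (P.proj p.1, P.proj p.2) = q),
        F (P.proj (p.1 * p.2)) = (c : ℂ) ^ 2 * (if q.1 = q.2 then 0 else F τ) := by
      intro q hq
      obtain ⟨hq1, hq2⟩ := mem_product.1 hq
      rw [sum_congr rfl (g := fun _ => F (q.1 * q.2)) fun p hp => by
        rw [map_mul, ← (mem_filter.1 hp).2], sum_const, nsmul_eq_mul]
      congr 1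
      · rw [show (J ×ˢ J).filter (fun p => (P.proj p.1, P.proj p.2) = q) =
          (J.filter fun u => P.proj u = q.1) ×ˢ (J.filter fun u => P.proj u = q.2) by
            ext p; simp only [mem_filter, mem_product, Prod.ext_iff]; tauto,
          card_product, hcon _ hq1, hcon _ hq2, Nat.cast_mul, pow_two]
      · rw [hQ, mem_filter] at hq1 hq2
        split_ifs with he
        · refine hs _ ?_
          rw [← he, ← pow_two, show q.1 ^ 2 = 1 by rw [← hq1.2, pow_orderOf_eq_one], orderOf_one]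
          norm_num
        · exact hconst _ (hprod _ _ hq1.2 hq2.2 he)
    rw [sum_congr rfl h, ← mul_sum, sum_ite, sum_const_zero, zero_add, sum_const, nsmul_eq_mul]
    congr 1
    rw [show (Q ×ˢ Q).filter (fun q => ¬ q.1 = q.2) = Q.offDiag by
      ext q; simp only [mem_filter, mem_product, mem_offDiag]; tauto, offDiag_card, Nat.cast_sub
        (Nat.le_mul_self _), Nat.cast_mul, hQcard]
    ring
  have hIcard : (IG.card : ℂ) = (P.M.index : ℂ) * (J.card : ℂ) := by
    have h := P.sum_even (f := fun g => if orderOf g = 2 then (1 : ℂ) else 0)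
      (fun a b => by simp only [orderOf_cj])
    simp only [sum_boole, filter_filter] at h
    rw [show IG = univ.filter (fun g : G => 2 ∣ orderOf g ∧ orderOf g = 2) by
      rw [hIG]; exact filter_congr fun g _ => ⟨fun h => ⟨by rw [h], h⟩, fun h => h.2⟩, h]
    congr 3
    rw [hJ]
    exact filter_congr fun y _ => by
      rw [Subgroup.orderOf_coe]; exact ⟨fun h => h.2, fun h => ⟨by rw [h], h⟩⟩
  rw [hM, hJQ, hIcard, hJcard] at hT
  have hc0 : (c : ℂ) ≠ 0 := by
    intro e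
    rw [e, mul_zero] at hJcard
    have h := P.card_invol_M ht
    rw [← hJ, hJcard, zero_mul] at h
    exact Nat.cast_ne_zero.2 (Nat.card_pos (α := ↥P.M)).ne' h.symm
  have hn : (P.M.index : ℂ) ≠ 0 := Nat.cast_ne_zero.2 Subgroup.index_ne_zero_of_finite
  have hk : (numInvol P.Quo : ℂ) ≠ 0 := Nat.cast_ne_zero.2 P.numInvol_pos.ne'
  rw [eq_div_iff (mul_ne_zero hn hk)]
  refine mul_left_cancel₀ (mul_ne_zero (mul_ne_zero hn hk) (pow_ne_zero 2 hc0)) ?_
  linear_combination -hT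

end Setup

end CfsgLib.AbelianSolv
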