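import Cfsg.Agent.Lib.OddConseq.AbelianSolv.Block
import Cfsg.Agent.Lib.Block.KleinFour
import Cfsg.Agent.Lib.Char.Virtual
import Cfsg.Agent.Lib.Char.NormTwo
import Cfsg.Agent.Lib.Char.Induction

/-!
# Induction from the strongly embedded subgroup of functions on `M / W`

For a class function `F` on `M / W` supported on the elements of even order, inducing its inflation
to `G` is an isometry, and the coefficients vanish outside the principal block.
-/

set_option autoImplicit false
set_option linter.unusedSectionVars false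
set_option linter.style.haveILetI false

open Finset
open scoped ComplexConjugate

namespace CfsgLib.AbelianSolv

open Cfsg CfsgLib.Char CfsgLib.Block

universe u

/-- A function supported on the elements of even order. -/
def Supported {Γ : Type u} [Group Γ] (F : Γ → ℂ) : Prop := ∀ γ : Γ, ¬ 2 ∣ orderOf γ → F γ = 0

/-- The number of involutions. -/
noncomputable def numInvol (Γ : Type u) [Group Γ] : ℕ := Nat.card {γ : Γ // orderOf γ = 2}

theorem orderOf_cj {Γ : Type u} [Group Γ] (g h : Γ) : orderOf (h * g * h⁻¹) = orderOf g :=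
  orderOf_injective (MulAut.conj h).toMonoidHom (MulAut.conj h).injective g

open scoped Classical in
/-- The function whose coefficients are the values at an involution. -/
noncomputable def invFun (Γ : Type u) [Group Γ] (γ : Γ) : ℂ :=
  if orderOf γ = 2 then (Nat.card Γ : ℂ) / (numInvol Γ : ℂ) else 0

theorem invFun_class {Γ : Type u} [Group Γ] : IsClassFunction Γ (invFun Γ) := fun g h => by
  unfold invFun; rw [orderOf_cj]

theorem invFun_supported {Γ : Type u} [Group Γ] : Supported (invFun Γ) := fun γ h => by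
  unfold invFun; exact if_neg fun e => h (by rw [e])

theorem invFun_invol {Γ : Type u} [Group Γ] {γ : Γ} (h : orderOf γ = 2) :
    invFun Γ γ = (Nat.card Γ : ℂ) / (numInvol Γ : ℂ) := by
  unfold invFun; rw [if_pos h]

open scoped Classical

namespace Setup

variable {G : Type u} [Group G] [Fintype G] [IsSimpleGroup G] (P : Setup G)

/-- The coefficient of a character in the function induced from a function on `M / W`. -/
noncomputable def coef (F : P.Quo → ℂ) (χ : IrrCharacter G) : ℂ :=
  classInner (indFun P.M (fun y => F (P.proj y))) (χ : G → ℂ)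

theorem comp_class {F : P.Quo → ℂ} (hF : IsClassFunction P.Quo F) :
    IsClassFunction ↥P.M (fun y => F (P.proj y)) := fun a b => by
  show F (P.proj (b * a * b⁻¹)) = F (P.proj a)
  rw [map_mul, map_mul, map_inv]; exact hF _ _

theorem comp_supported {F : P.Quo → ℂ} (hs : Supported F) {y : ↥P.M} (h : ¬ 2 ∣ orderOf (y : G)) :
    F (P.proj y) = 0 :=
  hs _ fun e => h ((P.even_proj y).1 e)

/-- Induction of a function supported on even order restricts back to it. -/
theorem indFun_mem {θ : ↥P.M → ℂ} (hθ : IsClassFunction ↥P.M θ)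
    (hs : ∀ y : ↥P.M, ¬ 2 ∣ orderOf (y : G) → θ y = 0) {y : G} (hy : y ∈ P.M) :
    indFun P.M θ y = θ ⟨y, hy⟩ := by
  have hord : ∀ x : G, orderOf (x⁻¹ * y * x) = orderOf y := fun x => by
    have := orderOf_conj_eq x⁻¹ y
    rwa [inv_inv] at this
  have key : ∀ x : G, extendByZero P.M θ (x⁻¹ * y * x) = if x ∈ P.M then θ ⟨y, hy⟩ else 0 := by
    intro x
    by_cases hx : x ∈ P.M
    · rw [if_pos hx, extendByZero_mem P.M θ (mul_mem (mul_mem (inv_mem hx) hy) hx)]
      have := hθ ⟨y, hy⟩ (⟨x, hx⟩⁻¹ : ↥P.M)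
      rw [inv_inv] at this
      exact this
    · rw [if_neg hx]
      by_cases hm : x⁻¹ * y * x ∈ P.M
      · rw [extendByZero_mem P.M θ hm]
        refine hs _ fun h2 => hx ?_
        rw [show ((⟨x⁻¹ * y * x, hm⟩ : ↥P.M) : G) = x⁻¹ * y * x from rfl, hord] at h2
        exact inv_mem_iff.1 (P.mem_M_of_conj_even hy h2 (by rwa [inv_inv]))
      · exact extendByZero_not_mem P.M θ hm
  rw [indFun, sum_congr rfl fun x _ => key x, ← sum_filter, sum_const, nsmul_eq_mul, ← mul_assoc,
    ← Fintype.card_subtype, Nat.card_eq_fintype_card, inv_mul_cancel₀ (Nat.cast_ne_zero.2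
      (Fintype.card_pos (α := ↥P.M)).ne'), one_mul]

theorem card_quo_cast : (Nat.card ↥P.M : ℂ) = (Nat.card P.Quo : ℂ) * (Nat.card ↥P.W : ℂ) := by
  rw [← Nat.cast_mul, P.card_quo]

theorem inner_comp (f h : P.Quo → ℂ) :
    classInner (fun y : ↥P.M => f (P.proj y)) (fun y : ↥P.M => h (P.proj y)) = classInner f h := by
  simp only [classInner]
  rw [P.sum_proj (fun γ => f γ * conj (h γ)), P.card_quo_cast]
  have h1 : (Nat.card P.Quo : ℂ) ≠ 0 := Nat.cast_ne_zero.2 Nat.card_pos.ne'
  have h2 : (Nat.card ↥P.W : ℂ) ≠ 0 := Nat.cast_ne_zero.2 Nat.card_pos.ne'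
  field_simp

/-- Induction is an isometry on supported functions. -/
theorem inner_ind {f h : P.Quo → ℂ} (hh : IsClassFunction P.Quo h) (hhs : Supported h) :
    classInner (indFun P.M (fun y => f (P.proj y))) (indFun P.M (fun y => h (P.proj y))) =
      classInner f h := by
  rw [classInner_indFun P.M _ _ (isClassFunction_indFun _ _), ← P.inner_comp f h]
  congr 1
  funext y
  exact P.indFun_mem (P.comp_class hh) (fun z hz => P.comp_supported hhs hz) y.2

theorem coef_eq (F : P.Quo → ℂ) (χ : IrrCharacter G) :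
    P.coef F χ = (Nat.card ↥P.M : ℂ)⁻¹ * ∑ y : ↥P.M, F (P.proj y) * conj ((χ : G → ℂ) y) := by
  rw [coef, classInner_indFun P.M _ _ (isClassFunction_irr χ)]
  rfl

theorem parseval [Fintype (IrrCharacter G)] {f h : P.Quo → ℂ} (hh : IsClassFunction P.Quo h)
    (hhs : Supported h) :
    ∑ χ : IrrCharacter G, P.coef f χ * conj (P.coef h χ) = classInner f h := by
  rw [← P.inner_ind hh hhs, classInner_expand (isClassFunction_indFun _ _)]
  rfl

theorem coef_value [Fintype (IrrCharacter G)] {F : P.Quo → ℂ} (hF : IsClassFunction P.Quo F)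
    (hs : Supported F) {y : G} (hy : y ∈ P.M) :
    ∑ χ : IrrCharacter G, P.coef F χ * (χ : G → ℂ) y = F (P.proj ⟨y, hy⟩) := by
  rw [← P.indFun_mem (P.comp_class hF) (fun z hz => P.comp_supported hs hz) hy]
  conv_rhs => rw [classFun_expand (isClassFunction_indFun P.M (fun z => F (P.proj z)))]
  simp only [Finset.sum_apply, Pi.smul_apply, smul_eq_mul]
  rfl

theorem coef_int {F : P.Quo → ℂ} (hF : IsGeneralizedCharacter P.Quo F) (χ : IrrCharacter G) :
    ∃ m : ℤ, P.coef F χ = m := by
  obtain ⟨a, b, ha, hb, rfl⟩ := hF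
  refine classInner_generalized_int (isGeneralizedCharacter_indFun P.M
    ⟨_, _, isCharacter_comp ha P.proj, isCharacter_comp hb P.proj, rfl⟩)
    ⟨(χ : G → ℂ), 0, isCharacter_irr χ, isCharacter_zero, (sub_zero _).symm⟩

/-- The value of a character at some lift. -/
noncomputable def val (χ : IrrCharacter G) (γ : P.Quo) : ℂ :=
  (χ : G → ℂ) ((P.proj_surjective γ).choose : G)

section Principal

variable {I : Ideal AlgInt} [I.IsMaximal]

theorem val_proj (hI : IsPModular 2 I) {χ : IrrCharacter G} (hχ : χ ∈ principalBlock I G) (y : ↥P.M)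
    (hy : 2 ∣ orderOf (y : G)) : P.val χ (P.proj y) = (χ : G → ℂ) y := by
  have h := P.proj_eq.1 (P.proj_surjective (P.proj y)).choose_spec.symm
  rw [val]
  have e := P.irr_mul_W hI hχ y.2 hy h
  rwa [mul_inv_cancel_left] at e

theorem val_conj (hI : IsPModular 2 I) {χ : IrrCharacter G} (hχ : χ ∈ principalBlock I G) {γ : P.Quo}
    (hγ : 2 ∣ orderOf γ) (δ : P.Quo) : P.val χ (δ * γ * δ⁻¹) = P.val χ γ := by
  obtain ⟨a, rfl⟩ := P.proj_surjective γ
  obtain ⟨b, rfl⟩ := P.proj_surjective δ
  have ha : 2 ∣ orderOf (a : G) := (P.even_proj a).1 hγ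
  rw [← map_inv, ← map_mul, ← map_mul, P.val_proj hI hχ _ (by
      rw [Subgroup.coe_mul, Subgroup.coe_mul, InvMemClass.coe_inv, orderOf_conj_eq]; exact ha),
    P.val_proj hI hχ a ha, Subgroup.coe_mul, Subgroup.coe_mul, InvMemClass.coe_inv]
  exact isClassFunction_irr χ (a : G) (b : G)

theorem val_invol (hI : IsPModular 2 I) {χ : IrrCharacter G} (hχ : χ ∈ principalBlock I G) {γ : P.Quo}
    (hγ : orderOf γ = 2) {t : G} (ht : orderOf t = 2) : P.val χ γ = (χ : G → ℂ) t := by
  obtain ⟨s, hs, hso, rfl⟩ := P.exists_invol_lift hγ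
  rw [P.val_proj hI hχ _ (by show 2 ∣ orderOf s; rw [hso])]
  exact Char.classFun_isConj (isClassFunction_irr χ) (P.isConj_invol hso ht)

/-- In the principal block a coefficient is an inner product on `M / W`. -/
theorem coef_principal (hI : IsPModular 2 I) {χ : IrrCharacter G} (hχ : χ ∈ principalBlock I G)
    {F : P.Quo → ℂ} (hs : Supported F) : P.coef F χ = classInner F (P.val χ) := by
  rw [P.coef_eq, ← P.inner_comp F (P.val χ), classInner]
  congr 1
  refine sum_congr rfl fun y _ => ?_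
  by_cases hy : 2 ∣ orderOf (y : G)
  · rw [P.val_proj hI hχ y hy]
  · rw [P.comp_supported hs hy, zero_mul, zero_mul]

theorem coef_zero (hI : IsPModular 2 I) {χ : IrrCharacter G} (hχ : χ ∉ principalBlock I G)
    {F : P.Quo → ℂ} (hs : Supported F) : P.coef F χ = 0 := by
  rw [P.coef_eq]
  refine mul_eq_zero_of_right _ (mul_left_cancel₀
    (Nat.cast_ne_zero.2 (Nat.card_pos (α := ↥P.W)).ne' : (Nat.card ↥P.W : ℂ) ≠ 0) ?_)
  rw [mul_zero, Nat.card_eq_fintype_card, Fintype.card_subtype, ← nsmul_eq_mul, ← sum_const]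
  have h : ∀ w ∈ univ.filter (fun w : G => w ∈ P.W),
      ∑ y : ↥P.M, F (P.proj y) * conj ((χ : G → ℂ) y) =
        ∑ y : ↥P.M, F (P.proj y) * conj ((χ : G → ℂ) ((y : G) * w)) := by
    intro w hw
    have hwW := (mem_filter.1 hw).2
    refine (Fintype.sum_equiv (Equiv.mulRight (⟨w, P.W_le_M hwW⟩ : ↥P.M)) _ _ fun y => ?_).symm
    show F (P.proj y) * _ = F (P.proj (y * ⟨w, P.W_le_M hwW⟩)) * _
    rw [map_mul, (P.proj_eq_one (y := ⟨w, P.W_le_M hwW⟩)).2 hwW, mul_one]
    rfl
  rw [sum_congr rfl h, sum_comm]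
  refine sum_eq_zero fun y _ => ?_
  by_cases hy : 2 ∣ orderOf (y : G)
  · rw [← mul_sum, ← map_sum, P.sum_coset hI χ y.2 hy, if_neg hχ, map_zero, mul_zero]
  · simp only [P.comp_supported hs hy, zero_mul, sum_const_zero]

theorem conj_irr_invol (χ : IrrCharacter G) {t : G} (ht : orderOf t = 2) :
    conj ((χ : G → ℂ) t) = (χ : G → ℂ) t := by
  rw [← Char.irr_inv, CfsgLib.Invol.invol_inv ht]

theorem numInvol_pos : 0 < numInvol P.Quo := by
  obtain ⟨s, hs, hso⟩ := P.exists_invol
  haveI : Nonempty {γ : P.Quo // orderOf γ = 2} := ⟨⟨_, P.orderOf_proj_invol hs hso⟩⟩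
  exact Nat.card_pos

theorem coef_invFun (hI : IsPModular 2 I) (χ : IrrCharacter G) {t : G} (ht : orderOf t = 2) :
    P.coef (invFun P.Quo) χ = if χ ∈ principalBlock I G then (χ : G → ℂ) t else 0 := by
  split_ifs with hχ
  swap
  · exact P.coef_zero hI hχ invFun_supported
  rw [P.coef_principal hI hχ invFun_supported, classInner]
  have h : ∀ γ : P.Quo, invFun P.Quo γ * conj (P.val χ γ) =
      if orderOf γ = 2 then (Nat.card P.Quo : ℂ) / (numInvol P.Quo : ℂ) * (χ : G → ℂ) t else 0 := by
    intro γ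
    split_ifs with hγ
    · rw [invFun_invol hγ, P.val_invol hI hχ hγ ht, conj_irr_invol χ ht]
    · rw [invFun, if_neg hγ, zero_mul]
  rw [sum_congr rfl fun γ _ => h γ, ← sum_filter, sum_const, nsmul_eq_mul, ← Fintype.card_subtype,
    ← Nat.card_eq_fintype_card, ← numInvol]
  have h1 : (Nat.card P.Quo : ℂ) ≠ 0 := Nat.cast_ne_zero.2 Nat.card_pos.ne'
  have h2 : (numInvol P.Quo : ℂ) ≠ 0 := Nat.cast_ne_zero.2 P.numInvol_pos.ne'
  field_simp

end Principal

end Setup

end CfsgLib.AbelianSolv
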