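import Cfsg.Agent.Lib.OddConseq.TwoGenCoreEmbedded
import Cfsg.Agent.Lib.OddConseq.ElemEight.CorePoints
import Cfsg.Agent.Lib.Invol.StronglyEmbeddedOrbits
import Cfsg.Agent.Lib.PGroup.CentralizerCount

/-!
# The strongly embedded subgroup over an abelian Sylow 2-subgroup with solvable centralizers

`W` is an odd subgroup, possibly trivial, normalized by `N(S)` and containing the cores of the
centralizers of the involutions of `S`. Then `M = W N(S)` is strongly embedded.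
-/

set_option autoImplicit false
set_option linter.unusedSectionVars false
set_option linter.style.haveILetI false

namespace CfsgLib.AbelianSolv

open Subgroup MulAction
open CfsgLib.ElemEight (clean_of_solvable mem_split card_sup_mul exists_conj_of_coset)

universe u

/-- An odd subgroup above the cores of the centralizers of the involutions of `S`. -/
structure Setup (G : Type u) [Group G] [Finite G] where
  S : Sylow 2 G
  comm : ∀ a ∈ (S : Subgroup G), ∀ b ∈ (S : Subgroup G), a * b = b * a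
  eight : 8 ≤ Nat.card {s : G // s ∈ (S : Subgroup G) ∧ s * s = 1}
  W : Subgroup G
  odd : ¬ 2 ∣ Nat.card ↥W
  norm : normalizer ((S : Subgroup G) : Set G) ≤ normalizer (W : Set G)
  theta_le : ∀ t ∈ (S : Subgroup G), orderOf t = 2 → Cfsg.centralizerPPrimeCore 2 t ≤ W
  solvable : ∀ t : G, orderOf t = 2 → Group.IsSolvable ↥(centralizer ({t} : Set G))
  nonab : ¬ IsMulCommutative G

theorem exists_invol_pow {G : Type u} [Group G] [Finite G] {g : G} (h : 2 ∣ orderOf g) :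
    ∃ k : ℕ, orderOf (g ^ k) = 2 := by
  obtain ⟨m, hm⟩ := h
  refine ⟨m, ?_⟩
  have hpos := orderOf_pos g
  rw [orderOf_pow' g (by omega), hm, Nat.gcd_eq_right (Dvd.intro_left 2 rfl),
    Nat.mul_div_cancel _ (by omega)]

namespace Setup

variable {G : Type u} [Group G] [Finite G] (P : Setup G)

/-- The strongly embedded subgroup. -/
def M : Subgroup G := P.W ⊔ normalizer ((P.S : Subgroup G) : Set G)

theorem S_le_NW : (P.S : Subgroup G) ≤ normalizer (P.W : Set G) := le_normalizer.trans P.norm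

theorem M_le_NW : P.M ≤ normalizer (P.W : Set G) := sup_le le_normalizer P.norm

theorem W_le_M : P.W ≤ P.M := le_sup_left

theorem N_le_M : normalizer ((P.S : Subgroup G) : Set G) ≤ P.M := le_sup_right

theorem S_le_M : (P.S : Subgroup G) ≤ P.M := le_normalizer.trans P.N_le_M

theorem conj_W {g : G} (hg : g ∈ P.M) {w : G} (hw : w ∈ P.W) : g * w * g⁻¹ ∈ P.W :=
  (mem_normalizer_iff.1 (P.M_le_NW hg) w).1 hw

theorem eq_one_of_mem_W {s : G} (hs : s ∈ (P.S : Subgroup G)) (hw : s ∈ P.W) : s = 1 := by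
  haveI : Fact (Nat.Prime 2) := ⟨Nat.prime_two⟩
  obtain ⟨k, hk⟩ := P.S.isPGroup' ⟨s, hs⟩
  have h2 : orderOf s ∣ 2 ^ k := orderOf_dvd_of_pow_eq_one (congrArg Subtype.val hk)
  obtain ⟨i, -, hi⟩ := (Nat.dvd_prime_pow Nat.prime_two).1 h2
  rcases i with _ | i
  · exact orderOf_eq_one_iff.1 (by simpa using hi)
  · exact absurd ((Dvd.intro_left _ (pow_succ 2 i).symm : 2 ∣ 2 ^ (i + 1)).trans
      (hi ▸ Subgroup.orderOf_dvd_natCard P.W hw)) P.odd

include P in
theorem exists_invol : ∃ t ∈ (P.S : Subgroup G), orderOf t = 2 := by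
  by_contra h
  push Not at h
  have hsub : Subsingleton {s : G // s ∈ (P.S : Subgroup G) ∧ s * s = 1} := ⟨fun a b => by
    have key : ∀ c : {s : G // s ∈ (P.S : Subgroup G) ∧ s * s = 1}, (c : G) = 1 := fun c => by
      by_contra h1
      exact h c c.2.1 (orderOf_eq_prime (hp := ⟨Nat.prime_two⟩) (by rw [pow_two]; exact c.2.2) h1)
    exact Subtype.ext ((key a).trans (key b).symm)⟩
  have := P.eight
  have h1 : Nat.card {s : G // s ∈ (P.S : Subgroup G) ∧ s * s = 1} ≤ 1 := Finite.card_le_one_iff_subsingleton.2 hsub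
  omega

theorem invol_mem_M {x : G} (hx : x ∈ P.M) (hxo : orderOf x = 2) :
    ∃ s ∈ (P.S : Subgroup G), orderOf s = 2 ∧ ∃ a ∈ P.W, a * s * a⁻¹ = x := by
  haveI : Fact (Nat.Prime 2) := ⟨Nat.prime_two⟩
  obtain ⟨m, hm⟩ := CfsgLib.Invol.exists_conj_le_sylow (Q := zpowers (⟨x, hx⟩ : P.M))
    (IsPGroup.of_card (n := 1) (by rw [Nat.card_zpowers, ← Subgroup.orderOf_coe, hxo, pow_one]))
    (P.S.subtype P.S_le_M)
  have hms : (m : G) * x * (m : G)⁻¹ ∈ (P.S : Subgroup G) := hm _ (mem_zpowers _)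
  obtain ⟨w, hw, h, hh, he⟩ := mem_split P.norm (show (m : G) ∈ P.W ⊔ _ from m.2)
  obtain ⟨r, hr⟩ : ∃ r, r = (m : G) * x * (m : G)⁻¹ := ⟨_, rfl⟩
  rw [← hr] at hms
  refine ⟨h⁻¹ * r * h, ?_, ?_, h⁻¹ * w⁻¹ * h, ?_, ?_⟩
  · have := (mem_normalizer_iff.1 (inv_mem hh) r).1 hms
    rwa [inv_inv] at this
  · have := CfsgLib.Invol.invol_conj hxo (h⁻¹ * (m : G))
    rwa [show h⁻¹ * (m : G) * x * (h⁻¹ * (m : G))⁻¹ = h⁻¹ * r * h by rw [hr]; group] at this
  · have := P.conj_W (P.N_le_M (inv_mem hh)) (inv_mem hw)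
    rwa [inv_inv] at this
  · rw [hr, he]; group

/-- The centralizer of an involution of `S`: the Sylow subgroup is normal modulo the core. -/
theorem core_sup_normal {t : G} (htS : t ∈ (P.S : Subgroup G)) (hto : orderOf t = 2) :
    (∀ c ∈ centralizer ({t} : Set G), ∀ s ∈ (P.S : Subgroup G),
      c * s * c⁻¹ ∈ Cfsg.centralizerPPrimeCore 2 t ⊔ (P.S : Subgroup G)) ∧
    ∀ c ∈ centralizer ({t} : Set G),
      (∀ s ∈ (P.S : Subgroup G), c * s * c⁻¹ * s⁻¹ ∈ Cfsg.centralizerPPrimeCore 2 t) →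
      c ∈ Cfsg.centralizerPPrimeCore 2 t ⊔ (P.S : Subgroup G) := by
  haveI : Fact (Nat.Prime 2) := ⟨Nat.prime_two⟩
  obtain ⟨C, hC⟩ : ∃ C, C = centralizer ({t} : Set G) := ⟨_, rfl⟩
  have hcl := clean_of_solvable (P.solvable t hto)
  unfold CfsgLib.ElemEight.CoreBlock.Clean at hcl
  rw [Cfsg.centralizerPPrimeCore, ← hC]
  have hSC : (P.S : Subgroup G) ≤ C := fun s hs => hC ▸ mem_centralizer_singleton_iff.2 (P.comm s hs t htS)
  subst hC
  obtain ⟨N, hN⟩ : ∃ N, N = Cfsg.pPrimeCore 2 ↥(centralizer ({t} : Set G)) := ⟨_, rfl⟩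
  haveI hNn : N.Normal := by
    rw [hN]
    haveI := CfsgLib.Coprime.pPrimeCore_characteristic (G := ↥(centralizer ({t} : Set G))) 2
    infer_instance
  have hcl' : Subgroup.centralizer (Cfsg.pCore 2 (↥(centralizer ({t} : Set G)) ⧸ N) : Set _) ≤
      Cfsg.pCore 2 (↥(centralizer ({t} : Set G)) ⧸ N) := by subst hN; exact hcl
  obtain ⟨f, hf⟩ : ∃ f, f = QuotientGroup.mk' N := ⟨_, rfl⟩
  have hfs : Function.Surjective f := hf ▸ QuotientGroup.mk'_surjective N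
  obtain ⟨O, hO⟩ : ∃ O, O = Cfsg.pCore 2 (↥(centralizer ({t} : Set G)) ⧸ N) := ⟨_, rfl⟩
  rw [← hO] at hcl'
  obtain ⟨T, hT⟩ : ∃ T, T = (P.S : Subgroup G).subgroupOf (centralizer ({t} : Set G)) := ⟨_, rfl⟩
  haveI : O.Normal := hO ▸ CfsgLib.Coprime.pCore_normal' 2
  have hOT : O ≤ T.map f := by
    have h := (hO ▸ CfsgLib.Coprime.pCore_isPGroup 2 : IsPGroup 2 O).le_sylow_of_normal
      ((P.S.subtype hSC).mapSurjective hfs)
    rw [Sylow.coe_mapSurjective] at h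
    rw [hT]
    exact h
  have hTO : T.map f = O := by
    refine le_antisymm ?_ hOT
    rintro _ ⟨a, ha, rfl⟩
    refine hcl' (mem_centralizer_iff.2 fun y hy => ?_)
    obtain ⟨b, hb, rfl⟩ := hOT hy
    rw [← map_mul, ← map_mul]
    exact congrArg f (Subtype.ext (P.comm _ (hT ▸ hb : b ∈ (P.S : Subgroup G).subgroupOf _) _
      (hT ▸ ha : a ∈ (P.S : Subgroup G).subgroupOf _)))
  have hlift : ∀ c : ↥(centralizer ({t} : Set G)), f c ∈ O →
      (c : G) ∈ N.map (centralizer ({t} : Set G)).subtype ⊔ (P.S : Subgroup G) := by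
    intro c hc
    rw [← hTO] at hc
    obtain ⟨a, ha, hac⟩ := hc
    have hn : c * a⁻¹ ∈ N := by
      rw [hf, QuotientGroup.mk'_apply, QuotientGroup.mk'_apply, QuotientGroup.eq] at hac
      have := hNn.conj_mem _ hac a
      rwa [← mul_assoc, mul_inv_cancel, one_mul] at this
    have hmem : (c : G) * (a : G)⁻¹ ∈ N.map (centralizer ({t} : Set G)).subtype := ⟨_, hn, rfl⟩
    have := mul_mem_sup hmem (hT ▸ ha : a ∈ (P.S : Subgroup G).subgroupOf _)
    simpa using this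
  rw [← hN]
  refine ⟨fun c hc s hs => ?_, fun c hc h => ?_⟩
  · refine hlift (⟨c, hc⟩ * ⟨s, hSC hs⟩ * ⟨c, hc⟩⁻¹) ?_
    rw [map_mul, map_mul, map_inv]
    exact Subgroup.Normal.conj_mem inferInstance _ (hTO ▸ ⟨_, hT ▸ hs, rfl⟩) _
  · refine hlift ⟨c, hc⟩ (hcl' (mem_centralizer_iff.2 fun y hy => ?_))
    obtain ⟨a, ha, rfl⟩ := hOT hy
    have ha' : (a : G) ∈ (P.S : Subgroup G) := (hT ▸ ha : a ∈ (P.S : Subgroup G).subgroupOf _)
    obtain ⟨d, hd, hde⟩ := h _ ha'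
    have h1 : f (⟨c, hc⟩ * a * ⟨c, hc⟩⁻¹ * a⁻¹) = 1 := by
      rw [hf, QuotientGroup.mk'_apply, QuotientGroup.eq_one_iff]
      rwa [show (⟨c, hc⟩ * a * ⟨c, hc⟩⁻¹ * a⁻¹ : ↥(centralizer ({t} : Set G))) = d from Subtype.ext hde.symm]
    rw [map_mul, map_mul, map_mul, map_inv, map_inv, mul_inv_eq_one, mul_inv_eq_iff_eq_mul] at h1
    exact h1.symm

theorem centralizer_le_of_mem_S {t : G} (htS : t ∈ (P.S : Subgroup G)) (hto : orderOf t = 2) :
    centralizer ({t} : Set G) ≤ P.M := by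
  haveI : Fact (Nat.Prime 2) := ⟨Nat.prime_two⟩
  intro c hc
  obtain ⟨P₀, hP₀⟩ : ∃ P₀, P₀ = Cfsg.centralizerPPrimeCore 2 t ⊔ (P.S : Subgroup G) := ⟨_, rfl⟩
  have hSP : (P.S : Subgroup G) ≤ P₀ := hP₀ ▸ le_sup_right
  have hP₀M : P₀ ≤ P.M := hP₀ ▸ sup_le ((P.theta_le t htS hto).trans P.W_le_M) P.S_le_M
  obtain ⟨Q, hQ⟩ : ∃ Q, Q = (P.S : Subgroup G).map (MulAut.conj c).toMonoidHom := ⟨_, rfl⟩
  have hQP : Q ≤ P₀ := by
    rw [hQ, hP₀]
    rintro _ ⟨s, hs, rfl⟩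
    exact (P.core_sup_normal htS hto).1 c hc s hs
  obtain ⟨p, hp⟩ := CfsgLib.Invol.exists_conj_le_sylow (Q := Q.subgroupOf P₀)
    ((hQ ▸ P.S.isPGroup'.map _ : IsPGroup 2 Q).comap_subtype) (P.S.subtype hSP)
  have hN : (p : G) * c ∈ normalizer ((P.S : Subgroup G) : Set G) := by
    rw [mem_normalizer_iff_map_conj_eq]
    refine Subgroup.eq_of_le_of_card_ge ?_ (le_of_eq (card_map_of_injective (MulAut.conj _).injective).symm)
    rintro _ ⟨s, hs, rfl⟩
    have hq : c * s * c⁻¹ ∈ Q := hQ ▸ ⟨s, hs, rfl⟩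
    have := hp ⟨c * s * c⁻¹, hQP hq⟩ hq
    show (p : G) * c * s * ((p : G) * c)⁻¹ ∈ (P.S : Subgroup G)
    rw [mul_inv_rev, ← mul_assoc, mul_assoc (p : G) c s, mul_assoc (p : G) (c * s) c⁻¹]
    exact this
  have := mul_mem (inv_mem (hP₀M p.2)) (P.N_le_M hN)
  rwa [inv_mul_cancel_left] at this

theorem fusion {a b g : G} (ha : a ∈ (P.S : Subgroup G)) (hb : b ∈ (P.S : Subgroup G))
    (h : g * a * g⁻¹ = b) : ∃ n ∈ normalizer ((P.S : Subgroup G) : Set G), n * a * n⁻¹ = b := by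
  haveI : Fact (Nat.Prime 2) := ⟨Nat.prime_two⟩
  haveI : IsMulCommutative ↥(P.S : Subgroup G) :=
    ⟨⟨fun x y => Subtype.ext (P.comm _ x.2 _ y.2)⟩⟩
  obtain ⟨n, hn, hne⟩ := P.S.conj_eq_normalizer_conj_of_mem a g⁻¹ ha (by rw [inv_inv, h]; exact hb)
  rw [inv_inv, h] at hne
  exact ⟨n⁻¹, inv_mem hn, by rw [inv_inv]; exact hne.symm⟩

theorem centralizer_le_M {z : G} (hz : z ∈ P.M) (hzo : orderOf z = 2) :
    centralizer ({z} : Set G) ≤ P.M := by
  obtain ⟨s, hs, hso, a, ha, rfl⟩ := P.invol_mem_M hz hzo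
  intro c hc
  rw [mem_centralizer_singleton_iff] at hc
  have h1 : a⁻¹ * c * a ∈ centralizer ({s} : Set G) := by
    rw [mem_centralizer_singleton_iff]
    calc a⁻¹ * c * a * s = a⁻¹ * (c * (a * s * a⁻¹)) * a := by group
      _ = a⁻¹ * (a * s * a⁻¹ * c) * a := by rw [hc]
      _ = s * (a⁻¹ * c * a) := by group
  have := mul_mem (mul_mem (P.W_le_M ha) (P.centralizer_le_of_mem_S hs hso h1)) (inv_mem (P.W_le_M ha))
  rwa [show a * (a⁻¹ * c * a) * a⁻¹ = c by group] at this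

theorem theta_le_of_mem {z : G} (hz : z ∈ P.M) (hzo : orderOf z = 2) :
    Cfsg.centralizerPPrimeCore 2 z ≤ P.W := by
  obtain ⟨s, hs, hso, a, ha, rfl⟩ := P.invol_mem_M hz hzo
  rw [CfsgLib.TwoGenCore.theta_conj]
  rintro _ ⟨y, hy, rfl⟩
  exact P.conj_W (P.W_le_M ha) (P.theta_le s hs hso hy)

/-- The fixed points of `W` and the core agree. -/
theorem inf_centralizer {z : G} (hz : z ∈ P.M) (hzo : orderOf z = 2) :
    centralizer ({z} : Set G) ⊓ P.W = Cfsg.centralizerPPrimeCore 2 z := by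
  refine le_antisymm ?_ (le_inf (map_subtype_le _) (P.theta_le_of_mem hz hzo))
  obtain ⟨C, hC⟩ : ∃ C, C = centralizer ({z} : Set G) := ⟨_, rfl⟩
  rw [Cfsg.centralizerPPrimeCore, ← hC]
  have hCM : C ≤ P.M := hC ▸ P.centralizer_le_M hz hzo
  subst hC
  haveI : ((centralizer ({z} : Set G) ⊓ P.W).subgroupOf (centralizer ({z} : Set G))).Normal :=
    ⟨fun w hw g => mem_subgroupOf.2 (mem_inf.2 ⟨(g * w * g⁻¹).2,
      P.conj_W (hCM g.2) (mem_inf.1 (mem_subgroupOf.1 hw)).2⟩)⟩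
  have h1 := CfsgLib.Coprime.le_pPrimeCore_of_not_dvd Nat.prime_two
    (N := (centralizer ({z} : Set G) ⊓ P.W).subgroupOf (centralizer ({z} : Set G)))
    (fun h => P.odd (by
      rw [Nat.card_congr (subgroupOfEquivOfLe inf_le_left).toEquiv] at h
      exact h.trans (card_dvd_of_le inf_le_right)))
  have h2 := map_mono (f := (centralizer ({z} : Set G)).subtype) h1
  rwa [map_subgroupOf_eq_of_le inf_le_left] at h2

theorem even_card : 2 ∣ Nat.card ↥(P.S : Subgroup G) := by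
  obtain ⟨t, htS, hto⟩ := P.exists_invol
  have h := Subgroup.orderOf_dvd_natCard _ htS
  rwa [hto] at h

variable [IsSimpleGroup G]

theorem M_ne_top : P.M ≠ ⊤ := by
  intro h
  obtain ⟨t, htS, hto⟩ := P.exists_invol
  haveI : P.W.Normal := normalizer_eq_top_iff.1 (eq_top_iff.2 (h.ge.trans P.M_le_NW))
  rcases IsSimpleGroup.eq_bot_or_eq_top_of_normal P.W inferInstance with e | e
  · have hN : normalizer ((P.S : Subgroup G) : Set G) = ⊤ := by
      rw [M, e, bot_sup_eq] at h; exact h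
    haveI : (P.S : Subgroup G).Normal := normalizer_eq_top_iff.1 hN
    rcases IsSimpleGroup.eq_bot_or_eq_top_of_normal (P.S : Subgroup G) inferInstance with e' | e'
    · rw [e', mem_bot] at htS; rw [htS, orderOf_one] at hto; norm_num at hto
    · exact P.nonab ⟨⟨fun a b => P.comm a (e' ▸ mem_top a) b (e' ▸ mem_top b)⟩⟩
  · refine P.odd ?_
    rw [e, card_top]
    exact P.even_card.trans (card_subgroup_dvd_card _)

theorem stronglyEmbedded : Cfsg.IsStronglyEmbedded P.M := by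
  rw [CfsgLib.Invol.stronglyEmbedded_iff P.M_ne_top (even_iff_two_dvd.2
    (P.even_card.trans (card_dvd_of_le P.S_le_M)))]
  intro x hx hxo g hg
  obtain ⟨s, hs, hso, a, ha, rfl⟩ := P.invol_mem_M hx hxo
  obtain ⟨r, hr, hro, b, hb, hbe⟩ := P.invol_mem_M hg (CfsgLib.Invol.invol_conj hxo g)
  have e : (b⁻¹ * g * a) * s * (b⁻¹ * g * a)⁻¹ = r := by
    rw [show (b⁻¹ * g * a) * s * (b⁻¹ * g * a)⁻¹ = b⁻¹ * (g * (a * s * a⁻¹) * g⁻¹) * b by group, ← hbe]
    group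
  obtain ⟨n, hn, hne⟩ := P.fusion hs hr e
  have hc : n⁻¹ * (b⁻¹ * g * a) ∈ centralizer ({s} : Set G) := by
    rw [mem_centralizer_singleton_iff]
    calc n⁻¹ * (b⁻¹ * g * a) * s = n⁻¹ * ((b⁻¹ * g * a) * s * (b⁻¹ * g * a)⁻¹) * (b⁻¹ * g * a) := by group
      _ = n⁻¹ * (n * s * n⁻¹) * (b⁻¹ * g * a) := by rw [e, hne]
      _ = s * (n⁻¹ * (b⁻¹ * g * a)) := by group
  have h1 := mul_mem (mul_mem (P.W_le_M hb)
    (mul_mem (P.N_le_M hn) (P.centralizer_le_of_mem_S hs hso hc))) (inv_mem (P.W_le_M ha))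
  rwa [show b * (n * (n⁻¹ * (b⁻¹ * g * a))) * a⁻¹ = g by group] at h1

include P in
theorem isConj_invol {a b : G} (ha : orderOf a = 2) (hb : orderOf b = 2) : IsConj a b :=
  CfsgLib.Invol.exists_conj_fixing P.stronglyEmbedded ha hb

theorem exists_normalizer_conj {a b : G} (ha : a ∈ (P.S : Subgroup G)) (hb : b ∈ (P.S : Subgroup G))
    (hao : orderOf a = 2) (hbo : orderOf b = 2) :
    ∃ n ∈ normalizer ((P.S : Subgroup G) : Set G), n * a * n⁻¹ = b := by
  obtain ⟨g, hg⟩ := isConj_iff.1 (P.isConj_invol hao hbo)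
  exact P.fusion ha hb hg

theorem mem_M_of_conj {z x : G} (hz : z ∈ P.M) (hzo : orderOf z = 2) (h : x * z * x⁻¹ ∈ P.M) :
    x ∈ P.M :=
  CfsgLib.Invol.mem_of_conj_mem P.stronglyEmbedded hz hzo h

/-- An element of even order of `M` is conjugated into `M` only by `M`. -/
theorem mem_M_of_conj_even {g x : G} (hg : g ∈ P.M) (h2 : 2 ∣ orderOf g) (h : x * g * x⁻¹ ∈ P.M) :
    x ∈ P.M := by
  obtain ⟨k, hk⟩ := exists_invol_pow h2
  refine P.mem_M_of_conj (pow_mem hg k) hk ?_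
  rw [← conj_pow]
  exact pow_mem h k

theorem index_ne_one : P.M.index ≠ 1 := fun h => P.M_ne_top (index_eq_one.1 h)

include P in
theorem index_odd : ¬ 2 ∣ P.M.index := fun h =>
  haveI : Fact (Nat.Prime 2) := ⟨Nat.prime_two⟩
  P.S.not_dvd_index (h.trans (index_dvd_of_le P.S_le_M))

theorem fixed_eq {s : G} (hs : s ∈ (P.S : Subgroup G)) (hs1 : s ≠ 1) {x : G ⧸ P.M} (hx : s • x = x) :
    x = ((1 : G) : G ⧸ P.M) := by
  have h2 : 2 ∣ orderOf s := by
    haveI : Fact (Nat.Prime 2) := ⟨Nat.prime_two⟩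
    obtain ⟨k, hk⟩ := P.S.isPGroup' ⟨s, hs⟩
    obtain ⟨i, -, hi⟩ := (Nat.dvd_prime_pow Nat.prime_two).1
      (orderOf_dvd_of_pow_eq_one (congrArg Subtype.val hk) : orderOf s ∣ 2 ^ k)
    rcases i with _ | i
    · exact absurd (orderOf_eq_one_iff.1 (by simpa using hi)) hs1
    · exact hi ▸ (Dvd.intro_left _ (pow_succ 2 i).symm)
  obtain ⟨k, hk⟩ := exists_invol_pow h2
  refine CfsgLib.Invol.fixed_unique P.stronglyEmbedded hk ?_
    (CfsgLib.Invol.fixed_one_iff.2 (pow_mem (P.S_le_M hs) k))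
  clear hk
  induction k with
  | zero => rw [pow_zero, one_smul]
  | succ k ih => rw [pow_succ', mul_smul, ih, hx]

/-- `S` acts freely outside the base point. -/
theorem card_dvd_index_sub_one : Nat.card ↥(P.S : Subgroup G) ∣ P.M.index - 1 := by
  classical
  obtain ⟨o, ho⟩ : ∃ o : G ⧸ P.M, o = ((1 : G) : G ⧸ P.M) := ⟨_, rfl⟩
  obtain ⟨H, hH⟩ : ∃ H, H = (P.S : Subgroup G) := ⟨_, rfl⟩
  rw [← hH]
  have hfix : ∀ s : ↥H, s • o = o := fun s => by
    show (s : G) • o = o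
    rw [ho]; exact CfsgLib.Invol.fixed_one_iff.2 (P.S_le_M (hH ▸ s.2))
  have horb : ∀ x : G ⧸ P.M, x ≠ o → Nat.card (orbit ↥H x) = Nat.card ↥H := by
    intro x hx
    have hst : stabilizer ↥H x = ⊥ := (Subgroup.eq_bot_iff_forall _).2 fun s hs => by
      by_contra h1
      exact hx (ho ▸ P.fixed_eq (hH ▸ s.2) (fun e => h1 (Subtype.ext e)) (mem_stabilizer_iff.1 hs))
    rw [Nat.card_congr (orbitEquivQuotientStabilizer ↥H x)]
    have h := (stabilizer ↥H x).card_eq_card_quotient_mul_card_subgroup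
    rw [hst, card_bot, mul_one] at h
    rw [hst]; exact h.symm
  letI := Fintype.ofFinite (G ⧸ P.M)
  letI := Fintype.ofFinite (orbitRel.Quotient ↥H (G ⧸ P.M))
  have hcard : P.M.index = ∑ ω : orbitRel.Quotient ↥H (G ⧸ P.M), Nat.card (orbitRel.Quotient.orbit ω) := by
    rw [index_eq_card, Nat.card_congr (selfEquivSigmaOrbits' ↥H (G ⧸ P.M)), Nat.card_sigma]
  rw [hcard, ← Finset.add_sum_erase _ _ (Finset.mem_univ (Quotient.mk'' o : orbitRel.Quotient ↥H (G ⧸ P.M)))]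
  have hbase : Nat.card (orbitRel.Quotient.orbit (Quotient.mk'' o : orbitRel.Quotient ↥H (G ⧸ P.M))) = 1 := by
    rw [orbitRel.Quotient.orbit_mk, show orbit ↥H o = {o} from by
      ext y
      exact ⟨fun ⟨s, hs⟩ => hs ▸ hfix s, fun hy => by rw [Set.mem_singleton_iff.1 hy]; exact mem_orbit_self o⟩,
      Nat.card_unique]
  rw [hbase, add_tsub_cancel_left]
  refine Finset.dvd_sum fun ω hω => ?_
  induction ω using Quotient.inductionOn' with
  | h x =>
    rw [orbitRel.Quotient.orbit_mk, horb x fun e => (Finset.mem_erase.1 hω).1 (by rw [e])]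

/-- A nontrivial `W` makes the index large. -/
theorem three_mul_lt_index (hW : P.W ≠ ⊥) : 3 * Nat.card ↥(P.S : Subgroup G) < P.M.index := by
  classical
  haveI : Fact (Nat.Prime 2) := ⟨Nat.prime_two⟩
  obtain ⟨o, ho⟩ : ∃ o : G ⧸ P.M, o = ((1 : G) : G ⧸ P.M) := ⟨_, rfl⟩
  have hfo : ∀ g ∈ P.M, g • o = o := fun g hg => ho ▸ CfsgLib.Invol.fixed_one_iff.2 hg
  obtain ⟨x, w, hwW, hwx⟩ : ∃ x : G ⧸ P.M, ∃ w ∈ P.W, w • x ≠ x := by
    by_contra hno
    push Not at hno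
    have hker : P.W ≤ (toPermHom G (G ⧸ P.M)).ker := fun w hw => Equiv.ext fun x => hno x w hw
    rcases IsSimpleGroup.eq_bot_or_eq_top_of_normal (toPermHom G (G ⧸ P.M)).ker inferInstance with e | e
    · exact hW (le_bot_iff.1 (e ▸ hker))
    · refine P.M_ne_top (eq_top_iff.2 fun g _ => CfsgLib.Invol.fixed_one_iff.1 ?_)
      exact congrArg (fun p : Equiv.Perm (G ⧸ P.M) => p ((1 : G) : G ⧸ P.M)) (MonoidHom.mem_ker.1 (e ▸ mem_top g))
  obtain ⟨O, hO⟩ : ∃ O : Set (G ⧸ P.M), O = orbit ↥P.W x := ⟨_, rfl⟩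
  have hxO : x ∈ O := hO ▸ mem_orbit_self x
  have hOo : o ∉ O := by
    intro h
    rw [hO] at h
    obtain ⟨a, ha⟩ := h
    have hxo : x = o := by
      have ha' : (a : G) • x = o := ha
      rw [← inv_smul_smul (a : G) x, ha', hfo _ (inv_mem (P.W_le_M a.2))]
    exact hwx (hxo ▸ hfo w (P.W_le_M hwW))
  have hOcard : 3 ≤ O.ncard ∧ ¬ 2 ∣ O.ncard := by
    have hdvd : O.ncard ∣ Nat.card ↥P.W := by
      rw [hO, ← index_stabilizer]; exact index_dvd_card _
    have hodd : ¬ 2 ∣ O.ncard := fun h => P.odd (h.trans hdvd)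
    have h2 : 2 ≤ O.ncard := (Set.one_lt_ncard_iff (Set.toFinite O)).2
      ⟨x, w • x, hxO, hO ▸ ⟨⟨w, hwW⟩, rfl⟩, Ne.symm hwx⟩
    exact ⟨by omega, hodd⟩
  have hmove : ∀ s ∈ (P.S : Subgroup G), s ≠ 1 → ∀ y ∈ O, s • y ∉ O := by
    intro s hs hs1 y hy hsy
    have hstab : ∀ z ∈ O, s • z ∈ O := by
      intro z hz
      rw [hO] at hy hz hsy ⊢
      rw [← orbit_eq_iff.2 hsy]
      rw [← orbit_eq_iff.2 hy] at hz
      obtain ⟨a, rfl⟩ := hz
      refine ⟨⟨s * (a : G) * s⁻¹, P.conj_W (P.S_le_M hs) a.2⟩, ?_⟩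
      show (s * (a : G) * s⁻¹) • (s • y) = s • ((a : G) • y)
      simp [mul_smul]
    letI := Fintype.ofFinite ↥O
    have hσ : ∀ z ∈ O, ∀ i : ℕ, s ^ i • z ∈ O := fun z hz i => by
      induction i with
      | zero => rwa [pow_zero, one_smul]
      | succ i ih => rw [pow_succ', mul_smul]; exact hstab _ ih
    obtain ⟨j, hj⟩ := P.S.isPGroup' ⟨s, hs⟩
    have hj' : s ^ 2 ^ j = 1 := congrArg Subtype.val hj
    let σ : Equiv.Perm ↥O :=
      { toFun := fun z => ⟨s • (z : G ⧸ P.M), hstab _ z.2⟩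
        invFun := fun z => ⟨s ^ (2 ^ j - 1) • (z : G ⧸ P.M), hσ _ z.2 _⟩
        left_inv := fun z => Subtype.ext (by
          show s ^ (2 ^ j - 1) • s • (z : G ⧸ P.M) = z
          rw [← mul_smul, ← pow_succ, Nat.sub_add_cancel Nat.one_le_two_pow, hj', one_smul])
        right_inv := fun z => Subtype.ext (by
          show s • s ^ (2 ^ j - 1) • (z : G ⧸ P.M) = z
          rw [← mul_smul, ← pow_succ', Nat.sub_add_cancel Nat.one_le_two_pow, hj', one_smul]) }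
    have hσi : ∀ (i : ℕ) (z : ↥O), ((σ ^ i) z : G ⧸ P.M) = s ^ i • (z : G ⧸ P.M) := fun i z => by
      induction i with
      | zero => simp
      | succ i ih =>
        rw [pow_succ', Equiv.Perm.mul_apply, pow_succ', mul_smul, ← ih]
        rfl
    obtain ⟨z, hz⟩ := Equiv.Perm.exists_fixed_point_of_prime (p := 2) (n := j) (α := ↥O)
      (σ := σ) (by rw [← Nat.card_eq_fintype_card, Nat.card_coe_set_eq]; exact hOcard.2)
      (Equiv.ext fun z => Subtype.ext (by rw [hσi, hj', one_smul]; rfl))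
    refine hOo ?_
    rw [show o = (z : G ⧸ P.M) from (ho.trans (P.fixed_eq hs hs1 (congrArg Subtype.val hz)).symm)]
    exact z.2
  have hinj : Function.Injective (fun p : ↥(P.S : Subgroup G) × ↥O =>
      (⟨(p.1 : G) • (p.2 : G ⧸ P.M), fun e => hOo (by
        have h : (p.2 : G ⧸ P.M) = o := by
          rw [← inv_smul_smul (p.1 : G) (p.2 : G ⧸ P.M), e, hfo _ (inv_mem (P.S_le_M p.1.2))]
        exact h ▸ p.2.2)⟩ : {z : G ⧸ P.M // z ≠ o})) := by
    rintro ⟨s, y⟩ ⟨s', y'⟩ h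
    have he : (s : G) • (y : G ⧸ P.M) = (s' : G) • (y' : G ⧸ P.M) := congrArg Subtype.val h
    have he' : ((s' : G)⁻¹ * (s : G)) • (y : G ⧸ P.M) = y' := by rw [mul_smul, he, inv_smul_smul]
    by_cases hss : (s' : G)⁻¹ * (s : G) = 1
    · rw [hss, one_smul] at he'
      exact Prod.ext (Subtype.ext (inv_mul_eq_one.1 hss).symm) (Subtype.ext he')
    · exact absurd (he' ▸ y'.2) (hmove _ (mul_mem (inv_mem s'.2) s.2) hss _ y.2)
  have hle := Nat.card_le_card_of_injective _ hinj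
  rw [Nat.card_prod, Nat.card_coe_set_eq] at hle
  haveI := Fintype.ofFinite (G ⧸ P.M)
  rw [Nat.card_eq_fintype_card (α := {z : G ⧸ P.M // z ≠ o}), Fintype.card_subtype_compl (fun z : G ⧸ P.M => z = o),
    Fintype.card_subtype_eq, ← Nat.card_eq_fintype_card, ← index_eq_card] at hle
  have h3 := Nat.mul_le_mul_left (Nat.card ↥(P.S : Subgroup G)) hOcard.1
  have hpos : 0 < P.M.index := Nat.pos_of_ne_zero index_ne_zero_of_finite
  omega

end Setup

end CfsgLib.AbelianSolv
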