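import Cfsg.Agent.Lib.OddConseq.AbelianSolv.Points
import Cfsg.Agent.Lib.Block.PrincipalCoreInflation

/-!
# The quotient of the strongly embedded subgroup by its odd normal subgroup

`M / W` has a self-centralizing normal abelian Sylow 2-subgroup, and its involutions are conjugate.
-/

set_option autoImplicit false
set_option linter.unusedSectionVars false
set_option linter.style.haveILetI false

namespace CfsgLib.AbelianSolv

open Subgroup
open CfsgLib.ElemEight (mem_split)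

universe u

/-- A group with a self-centralizing normal abelian Sylow 2-subgroup and one class of involutions. -/
structure Frame (Γ : Type u) [Group Γ] [Finite Γ] where
  T : Subgroup Γ
  normal : T.Normal
  comm : ∀ a ∈ T, ∀ b ∈ T, a * b = b * a
  two : IsPGroup 2 ↥T
  odd_index : ¬ 2 ∣ T.index
  self : ∀ x : Γ, (∀ s ∈ T, x * s = s * x) → x ∈ T
  eight : 8 ≤ Nat.card {s : Γ // s * s = 1}
  trans : ∀ a b : Γ, orderOf a = 2 → orderOf b = 2 → IsConj a b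

/-- Elements of 2-power order lie in a normal subgroup of odd index. -/
theorem mem_of_pow_two {Γ : Type u} [Group Γ] [Finite Γ] {T : Subgroup Γ} [T.Normal] (hi : ¬ 2 ∣ T.index)
    {x : Γ} {k : ℕ} (hx : x ^ 2 ^ k = 1) : x ∈ T := by
  have h1 : orderOf (x : Γ ⧸ T) ∣ 2 ^ k := orderOf_dvd_of_pow_eq_one (by
    rw [← QuotientGroup.mk_pow, hx, QuotientGroup.mk_one])
  have h2 : orderOf (x : Γ ⧸ T) ∣ T.index := by
    rw [index_eq_card]; exact orderOf_dvd_natCard _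
  have h3 := Nat.eq_one_of_dvd_coprimes
    (((Nat.prime_two.coprime_iff_not_dvd).2 hi).pow_left k) h1 h2
  exact (QuotientGroup.eq_one_iff x).1 (orderOf_eq_one_iff.1 h3)

namespace Setup

variable {G : Type u} [Group G] [Finite G] (P : Setup G)

theorem normal_WM : (P.W.subgroupOf P.M).Normal :=
  (normal_subgroupOf_iff_le_normalizer P.W_le_M).2 P.M_le_NW

instance (P : Setup G) : (P.W.subgroupOf P.M).Normal := P.normal_WM

/-- The quotient `M / W`. -/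
abbrev Quo : Type u := ↥P.M ⧸ P.W.subgroupOf P.M

/-- The quotient map. -/
def proj : ↥P.M →* P.Quo := QuotientGroup.mk' _

theorem proj_surjective : Function.Surjective P.proj := QuotientGroup.mk'_surjective _

theorem proj_eq_one {y : ↥P.M} : P.proj y = 1 ↔ (y : G) ∈ P.W :=
  (QuotientGroup.eq_one_iff y).trans mem_subgroupOf

theorem proj_eq {a b : ↥P.M} : P.proj a = P.proj b ↔ (a : G)⁻¹ * (b : G) ∈ P.W :=
  QuotientGroup.eq.trans mem_subgroupOf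

theorem odd_WM : ¬ 2 ∣ Nat.card ↥(P.W.subgroupOf P.M) := by
  rw [Nat.card_congr (subgroupOfEquivOfLe P.W_le_M).toEquiv]; exact P.odd

/-- An element of `M` and its image have even order together. -/
theorem even_proj (y : ↥P.M) : 2 ∣ orderOf (P.proj y) ↔ 2 ∣ orderOf (y : G) := by
  haveI : Fact (Nat.Prime 2) := ⟨Nat.prime_two⟩
  classical
  letI := Fintype.ofFinite ↥P.M
  rw [Subgroup.orderOf_coe]
  exact CfsgLib.Block.PrincipalCore.orderOf_mk_iff P.odd_WM y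

theorem sum_proj [Fintype ↥P.M] [Fintype P.Quo] (F : P.Quo → ℂ) :
    ∑ y : ↥P.M, F (P.proj y) = (Nat.card ↥P.W : ℂ) * ∑ γ : P.Quo, F γ := by
  classical
  rw [← Finset.sum_fiberwise Finset.univ P.proj, Finset.mul_sum]
  refine Finset.sum_congr rfl fun γ _ => ?_
  rw [Finset.sum_congr rfl (g := fun _ => F γ) fun y hy => by rw [(Finset.mem_filter.1 hy).2],
    Finset.sum_const, nsmul_eq_mul]
  obtain ⟨y₀, rfl⟩ := P.proj_surjective γ
  congr 1
  rw [Nat.cast_inj, ← Nat.card_congr (subgroupOfEquivOfLe P.W_le_M).toEquiv, Nat.card_eq_fintype_card,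
    ← Finset.card_univ]
  refine (Finset.card_bij (fun (w : ↥(P.W.subgroupOf P.M)) _ => y₀ * (w : ↥P.M)) (fun w _ => ?_)
    (fun a _ b _ e => Subtype.ext (mul_left_cancel e)) fun y hy => ?_).symm
  · refine Finset.mem_filter.2 ⟨Finset.mem_univ _, ?_⟩
    rw [map_mul, P.proj_eq_one.2 (mem_subgroupOf.1 w.2), mul_one]
  · refine ⟨⟨y₀⁻¹ * y, mem_subgroupOf.2 ?_⟩, Finset.mem_univ _, mul_inv_cancel_left _ _⟩
    exact P.proj_eq.1 (Finset.mem_filter.1 hy).2.symm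

theorem card_quo : Nat.card P.Quo * Nat.card ↥P.W = Nat.card ↥P.M := by
  rw [← Nat.card_congr (subgroupOfEquivOfLe P.W_le_M).toEquiv]
  exact (card_eq_card_quotient_mul_card_subgroup _).symm

/-- The image of `S`. -/
def TQ : Subgroup P.Quo := ((P.S : Subgroup G).subgroupOf P.M).map P.proj

theorem mem_TQ {γ : P.Quo} :
    γ ∈ P.TQ ↔ ∃ (s : G) (h : s ∈ (P.S : Subgroup G)), P.proj ⟨s, P.S_le_M h⟩ = γ :=
  ⟨fun ⟨y, hy, e⟩ => ⟨y, hy, e⟩, fun ⟨_, h, e⟩ => ⟨_, h, e⟩⟩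

theorem proj_inj_S {s s' : G} (hs : s ∈ (P.S : Subgroup G)) (hs' : s' ∈ (P.S : Subgroup G))
    (h : P.proj ⟨s, P.S_le_M hs⟩ = P.proj ⟨s', P.S_le_M hs'⟩) : s = s' :=
  inv_mul_eq_one.1 (P.eq_one_of_mem_W (mul_mem (inv_mem hs) hs') (P.proj_eq.1 h))

theorem card_TQ : Nat.card ↥P.TQ = Nat.card ↥(P.S : Subgroup G) := by
  refine (Nat.card_congr (Equiv.ofBijective (fun s : ↥(P.S : Subgroup G) =>
    (⟨P.proj ⟨s, P.S_le_M s.2⟩, P.mem_TQ.2 ⟨s, s.2, rfl⟩⟩ : ↥P.TQ)) ⟨fun a b h => ?_, fun γ => ?_⟩)).symm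
  · exact Subtype.ext (P.proj_inj_S a.2 b.2 (congrArg Subtype.val h))
  · obtain ⟨s, hs, e⟩ := P.mem_TQ.1 γ.2
    exact ⟨⟨s, hs⟩, Subtype.ext e⟩

theorem TQ_sylow : IsPGroup 2 ↥P.TQ ∧ ¬ 2 ∣ P.TQ.index := by
  haveI : Fact (Nat.Prime 2) := ⟨Nat.prime_two⟩
  have e : (((P.S.subtype P.S_le_M).mapSurjective P.proj_surjective) : Subgroup P.Quo) = P.TQ := by
    rw [Sylow.coe_mapSurjective]; rfl
  exact e ▸ ⟨Sylow.isPGroup' _, Sylow.not_dvd_index _⟩

theorem TQ_normal : P.TQ.Normal := by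
  refine ⟨fun γ hγ δ => ?_⟩
  obtain ⟨s, hs, rfl⟩ := P.mem_TQ.1 hγ
  obtain ⟨g, rfl⟩ := P.proj_surjective δ
  obtain ⟨w, hw, h, hh, he⟩ := mem_split P.norm (show (g : G) ∈ P.W ⊔ _ from g.2)
  refine P.mem_TQ.2 ⟨h * s * h⁻¹, (mem_normalizer_iff.1 hh s).1 hs, ?_⟩
  have e1 : P.proj g = P.proj ⟨h, P.N_le_M hh⟩ := by
    rw [show g = ⟨w, P.W_le_M hw⟩ * ⟨h, P.N_le_M hh⟩ from Subtype.ext he, map_mul,
      (P.proj_eq_one (y := ⟨w, P.W_le_M hw⟩)).2 hw, one_mul]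
  rw [e1, ← map_mul, ← map_inv, ← map_mul]
  rfl

theorem exists_invol_lift {γ : P.Quo} (hγ : orderOf γ = 2) :
    ∃ (s : G) (h : s ∈ (P.S : Subgroup G)), orderOf s = 2 ∧ P.proj ⟨s, P.S_le_M h⟩ = γ := by
  haveI := P.TQ_normal
  obtain ⟨s, hs, rfl⟩ := P.mem_TQ.1 (mem_of_pow_two P.TQ_sylow.2 (x := γ) (k := 1)
    (by rw [pow_one, ← hγ, pow_orderOf_eq_one]))
  refine ⟨s, hs, orderOf_eq_prime (hp := ⟨Nat.prime_two⟩) ?_ fun e => ?_, rfl⟩
  · refine P.eq_one_of_mem_W (pow_mem hs 2) ?_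
    have := P.proj_eq_one (y := ⟨s, P.S_le_M hs⟩ ^ 2)
    rw [map_pow] at this
    simpa using this.1 (orderOf_dvd_iff_pow_eq_one.1 hγ.dvd)
  · subst e
    rw [show (⟨1, P.S_le_M hs⟩ : ↥P.M) = 1 from rfl, map_one, orderOf_one] at hγ
    norm_num at hγ

theorem orderOf_proj_invol {s : G} (hs : s ∈ (P.S : Subgroup G)) (hso : orderOf s = 2) :
    orderOf (P.proj ⟨s, P.S_le_M hs⟩) = 2 := by
  refine orderOf_eq_prime (hp := ⟨Nat.prime_two⟩) ?_ fun e => ?_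
  · rw [← map_pow, show (⟨s, P.S_le_M hs⟩ : ↥P.M) ^ 2 = 1 from Subtype.ext
      (by rw [SubgroupClass.coe_pow, ← hso, pow_orderOf_eq_one]; rfl), map_one]
  · rw [P.eq_one_of_mem_W hs (P.proj_eq_one.1 e), orderOf_one] at hso
    norm_num at hso

variable [IsSimpleGroup G]

/-- The frame on `M / W`. -/
theorem nonempty_frame : ∃ Φ : Frame P.Quo, Φ.T = P.TQ := by
  refine ⟨{ T := P.TQ, normal := P.TQ_normal, comm := ?_, two := P.TQ_sylow.1,
            odd_index := P.TQ_sylow.2, self := ?_, eight := ?_, trans := ?_ }, rfl⟩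
  · intro a ha b hb
    obtain ⟨s, hs, rfl⟩ := P.mem_TQ.1 ha
    obtain ⟨s', hs', rfl⟩ := P.mem_TQ.1 hb
    rw [← map_mul, ← map_mul]
    exact congrArg P.proj (Subtype.ext (P.comm s hs s' hs'))
  · intro x hx
    obtain ⟨g, rfl⟩ := P.proj_surjective x
    obtain ⟨w, hw, h, hh, he⟩ := mem_split P.norm (show (g : G) ∈ P.W ⊔ _ from g.2)
    have e1 : P.proj g = P.proj ⟨h, P.N_le_M hh⟩ := by
      rw [show g = ⟨w, P.W_le_M hw⟩ * ⟨h, P.N_le_M hh⟩ from Subtype.ext he, map_mul,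
        (P.proj_eq_one (y := ⟨w, P.W_le_M hw⟩)).2 hw, one_mul]
    rw [e1] at hx ⊢
    have hC : ∀ s ∈ (P.S : Subgroup G), h * s * h⁻¹ * s⁻¹ = 1 := by
      intro s hs
      refine P.eq_one_of_mem_W (mul_mem ((mem_normalizer_iff.1 hh s).1 hs) (inv_mem hs)) ?_
      have e := hx _ (P.mem_TQ.2 ⟨s, hs, rfl⟩)
      refine P.proj_eq_one (y := ⟨h, P.N_le_M hh⟩ * ⟨s, P.S_le_M hs⟩ * ⟨h, P.N_le_M hh⟩⁻¹ *
        ⟨s, P.S_le_M hs⟩⁻¹) |>.1 ?_
      rw [map_mul, map_mul, map_mul, map_inv, map_inv, e]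
      group
    obtain ⟨t, htS, hto⟩ := P.exists_invol
    have hc : h ∈ centralizer ({t} : Set G) := mem_centralizer_singleton_iff.2
      (mul_inv_eq_one.1 (hC t htS) |> fun e => mul_inv_eq_iff_eq_mul.1 e)
    have hmem := (P.core_sup_normal htS hto).2 h hc fun s hs => by rw [hC s hs]; exact one_mem _
    obtain ⟨v, hv, s, hs, hvs⟩ := mem_split P.S_le_NW
      (sup_le_sup_right (P.theta_le t htS hto) _ hmem)
    refine P.mem_TQ.2 ⟨s, hs, ?_⟩
    rw [show (⟨h, P.N_le_M hh⟩ : ↥P.M) = ⟨v, P.W_le_M hv⟩ * ⟨s, P.S_le_M hs⟩ from Subtype.ext hvs,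
      map_mul, (P.proj_eq_one (y := ⟨v, P.W_le_M hv⟩)).2 hv, one_mul]
  · refine le_trans P.eight (Nat.card_le_card_of_injective (fun s => ⟨P.proj ⟨s.1, P.S_le_M s.2.1⟩, by
      rw [← map_mul, show (⟨s.1, P.S_le_M s.2.1⟩ : ↥P.M) * ⟨s.1, P.S_le_M s.2.1⟩ = 1 from
        Subtype.ext s.2.2, map_one]⟩) fun a b h => ?_)
    exact Subtype.ext (P.proj_inj_S a.2.1 b.2.1 (congrArg Subtype.val h))
  · intro a b ha hb
    obtain ⟨s, hs, hso, rfl⟩ := P.exists_invol_lift ha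
    obtain ⟨s', hs', hso', rfl⟩ := P.exists_invol_lift hb
    obtain ⟨m, hm, hme⟩ := P.exists_normalizer_conj hs hs' hso hso'
    refine isConj_iff.2 ⟨P.proj ⟨m, P.N_le_M hm⟩, ?_⟩
    rw [← map_mul, ← map_inv, ← map_mul]
    exact congrArg P.proj (Subtype.ext hme)

end Setup

end CfsgLib.AbelianSolv
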