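import Cfsg.Agent.Lib.OddConseq.AbelianSolv.Values
import Cfsg.Agent.Lib.OddConseq.AbelianSolv.Semi

/-!
# An elementary Sylow subgroup with small index

If `W = 1` and the index is at most `3q`, the centralizers of the involutions are 2-groups.
-/

set_option autoImplicit false
set_option linter.unusedSectionVars false
set_option linter.style.haveILetI false

open Finset MulAction
open scoped ComplexConjugate commutatorElement

namespace CfsgLib.AbelianSolv

open Cfsg CfsgLib.Char CfsgLib.Block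

universe u

open scoped Classical

/-- The values of a linear character have absolute value one. -/
theorem conj_lin_mul {H : Type u} [Group H] [Finite H] (φ : H →* ℂˣ) (y : H) :
    (φ y : ℂ) * conj (φ y : ℂ) = 1 := by
  have h := Char.irr_inv (⟨fun g => (φ g : ℂ), Char.isIrrCharacter_lin φ⟩ : IrrCharacter H) y
  rw [← (show (φ y⁻¹ : ℂ) = conj (φ y : ℂ) from h), ← Units.val_mul, ← map_mul, mul_inv_cancel, map_one, Units.val_one]

namespace Setup

variable {G : Type u} [Group G] [Fintype G] [IsSimpleGroup G] (P : Setup G)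

section

variable (hel : ∀ s ∈ (P.S : Subgroup G), s * s = 1) (hW : P.W = ⊥)

include hel hW

omit hel in
theorem M_eq_normalizer : P.M = Subgroup.normalizer ((P.S : Subgroup G) : Set G) := by
  rw [M, hW, bot_sup_eq]

omit hel in
theorem S_conj_mem {g s : G} (hg : g ∈ P.M) (hs : s ∈ (P.S : Subgroup G)) :
    g * s * g⁻¹ ∈ (P.S : Subgroup G) := by
  rw [P.M_eq_normalizer hW] at hg
  exact (Subgroup.mem_normalizer_iff.1 hg s).1 hs

omit hel in
theorem invol_mem_S {x : G} (hx : x ∈ P.M) (hxo : orderOf x = 2) : x ∈ (P.S : Subgroup G) := by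
  obtain ⟨s, hs, -, a, ha, rfl⟩ := P.invol_mem_M hx hxo
  rw [hW, Subgroup.mem_bot] at ha
  subst ha
  simpa using hs

omit hel in
theorem eq_one_of_mem_S_odd {x : G} (hxS : x ∈ (P.S : Subgroup G)) (hx : ¬ 2 ∣ orderOf x) : x = 1 := by
  haveI : Fact (Nat.Prime 2) := ⟨Nat.prime_two⟩
  obtain ⟨k, hk⟩ := P.S.isPGroup' ⟨x, hxS⟩
  obtain ⟨i, -, hi⟩ := (Nat.dvd_prime_pow Nat.prime_two).1
    (orderOf_dvd_of_pow_eq_one (congrArg Subtype.val hk) : orderOf x ∣ 2 ^ k)
  rcases i with _ | i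
  · exact orderOf_eq_one_iff.1 (by simpa using hi)
  · exact absurd (hi ▸ Dvd.intro_left _ (pow_succ 2 i).symm) hx

/-- An element of `S` centralized by a complement is trivial. -/
theorem eq_one_of_central {s : G} (hs : s ∈ (P.S : Subgroup G)) (hc : ∀ g ∈ P.M, g * s = s * g) :
    s = 1 := by
  by_contra h1
  have hso : orderOf s = 2 := orderOf_eq_prime (hp := ⟨Nat.prime_two⟩) (by rw [pow_two]; exact hel s hs) h1
  have hall : ∀ v ∈ (P.S : Subgroup G), orderOf v = 2 → v = s := fun v hv hvo => by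
    obtain ⟨n, hn, hne⟩ := P.exists_normalizer_conj hs hv hso hvo
    rw [← hne, hc n (P.N_le_M hn), mul_inv_cancel_right]
  have h8 := P.eight
  have hle : Nat.card {v : G // v ∈ (P.S : Subgroup G) ∧ v * v = 1} ≤ Nat.card ({1, s} : Finset G) := by
    refine Nat.card_le_card_of_injective (fun v => ⟨v.1, ?_⟩) fun a b h => Subtype.ext (congrArg Subtype.val h :)
    by_cases hv : v.1 = 1
    · simp [hv]
    · simp [hall v.1 v.2.1 (orderOf_eq_prime (hp := ⟨Nat.prime_two⟩) (by rw [pow_two]; exact v.2.2) hv)]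
  rw [Nat.card_eq_fintype_card (α := ({1, s} : Finset G)), Fintype.card_coe] at hle
  have := card_le_two (a := (1 : G)) (b := s)
  omega

variable (hn : P.M.index ≤ 3 * Nat.card ↥(P.S : Subgroup G))

include hn

omit hel in
/-- The data at a point outside the base point. -/
theorem point_data {a : G ⧸ P.M} (ha : a ≠ ((1 : G) : G ⧸ P.M)) :
    Nat.card ↥(P.M ⊓ stabilizer G a) * Nat.card ↥(P.S : Subgroup G) = Nat.card ↥P.M ∧
    (∀ x ∈ P.M ⊓ stabilizer G a, ¬ 2 ∣ orderOf x) ∧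
    (∀ g ∈ P.M, ∃ s ∈ (P.S : Subgroup G), g • a = s • a) ∧
    (∀ g ∈ P.M, ∃ s ∈ (P.S : Subgroup G), ∃ d ∈ P.M ⊓ stabilizer G a, g = s * d) := by
  have hodd : ∀ x ∈ P.M ⊓ stabilizer G a, ¬ 2 ∣ orderOf x := by
    intro x hx h
    obtain ⟨k, hk⟩ := exists_invol_pow h
    have hk' := pow_mem hx k
    exact ha (CfsgLib.Invol.fixed_unique P.stronglyEmbedded hk (mem_stabilizer_iff.1 (Subgroup.mem_inf.1 hk').2)
      (CfsgLib.Invol.fixed_one_iff.2 (Subgroup.mem_inf.1 hk').1))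
  have hfree : ∀ s ∈ (P.S : Subgroup G), ∀ s' ∈ (P.S : Subgroup G), s • a = s' • a → s = s' := by
    intro s hs s' hs' h
    by_contra hne
    refine ha (P.fixed_eq (mul_mem (inv_mem hs') hs) (fun e => hne (inv_mul_eq_one.1 e).symm) ?_)
    rw [mul_smul, h, inv_smul_smul]
  obtain ⟨O, hO⟩ : ∃ O : Finset (G ⧸ P.M), O = univ.filter (fun z => ∃ g ∈ P.M, g • a = z) := ⟨_, rfl⟩
  obtain ⟨R, hR⟩ : ∃ R : Finset (G ⧸ P.M), R = univ.filter (fun z => ∃ s ∈ (P.S : Subgroup G), s • a = z) := ⟨_, rfl⟩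
  have hRcard : R.card = Nat.card ↥(P.S : Subgroup G) := by
    rw [Nat.card_eq_fintype_card, ← card_univ, hR]
    refine (card_bij (fun (s : ↥(P.S : Subgroup G)) _ => (s : G) • a)
      (fun s _ => mem_filter.2 ⟨mem_univ _, s, s.2, rfl⟩)
      (fun s _ s' _ e => Subtype.ext (hfree _ s.2 _ s'.2 e)) fun z hz => ?_).symm
    obtain ⟨s, hs, rfl⟩ := (mem_filter.1 hz).2
    exact ⟨⟨s, hs⟩, mem_univ _, rfl⟩
  have hRO : R ⊆ O := fun z hz => by
    rw [hR] at hz; rw [hO]
    obtain ⟨s, hs, e⟩ := (mem_filter.1 hz).2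
    exact mem_filter.2 ⟨mem_univ _, s, P.S_le_M hs, e⟩
  have hOcard : Nat.card ↥(P.M ⊓ stabilizer G a) * O.card = Nat.card ↥P.M := by
    have e1 : Nat.card (orbit ↥P.M a) = O.card := by
      rw [hO, Nat.card_eq_fintype_card, Fintype.card_of_subtype]
      intro z
      simp only [mem_filter, mem_univ, true_and, mem_orbit_iff, Subtype.exists]
      exact ⟨fun ⟨g, hg, e⟩ => ⟨g, hg, e⟩, fun ⟨g, hg, e⟩ => ⟨g, hg, e⟩⟩
    have e2 : Nat.card ↥(stabilizer ↥P.M a) = Nat.card ↥(P.M ⊓ stabilizer G a) :=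
      Nat.card_congr
        { toFun := fun x => ⟨(x : ↥P.M).1, Subgroup.mem_inf.2 ⟨(x : ↥P.M).2, x.2⟩⟩
          invFun := fun x => ⟨⟨x.1, (Subgroup.mem_inf.1 x.2).1⟩, (Subgroup.mem_inf.1 x.2).2⟩
          left_inv := fun _ => rfl
          right_inv := fun _ => rfl }
    rw [← e1, ← e2, Nat.card_congr (orbitEquivQuotientStabilizer ↥P.M a), mul_comm]
    exact (Subgroup.card_eq_card_quotient_mul_card_subgroup _).symm
  have hOlt : O.card < P.M.index := by
    rw [Subgroup.index_eq_card, Nat.card_eq_fintype_card, ← card_univ]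
    refine card_lt_card ⟨subset_univ _, fun h => ?_⟩
    have h1 := h (mem_univ ((1 : G) : G ⧸ P.M))
    rw [hO] at h1
    obtain ⟨g, hg, e⟩ := (mem_filter.1 h1).2
    refine ha ?_
    rw [← inv_smul_smul g a, e, CfsgLib.Invol.fixed_one_iff.2 (inv_mem hg)]
  have hqO : Nat.card ↥(P.S : Subgroup G) ≤ O.card := hRcard ▸ card_le_card hRO
  obtain ⟨q, hq⟩ : ∃ q, q = Nat.card ↥(P.S : Subgroup G) := ⟨_, rfl⟩
  obtain ⟨D, hD⟩ : ∃ D, D = Nat.card ↥(P.M ⊓ stabilizer G a) := ⟨_, rfl⟩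
  have hDodd : ¬ 2 ∣ D := by
    intro h
    haveI : Fact (Nat.Prime 2) := ⟨Nat.prime_two⟩
    obtain ⟨x, hx⟩ := exists_prime_orderOf_dvd_card' (G := ↥(P.M ⊓ stabilizer G a)) 2 (hD ▸ h)
    exact hodd x x.2 (by rw [Subgroup.orderOf_coe, hx])
  have hqdvd : q ∣ O.card := by
    obtain ⟨k, hk⟩ := IsPGroup.iff_card.1 P.S.isPGroup'
    have h1 : q ∣ D * O.card := by
      rw [hD, hOcard, hq]; exact Subgroup.card_dvd_of_le P.S_le_M
    rw [hq, hk] at h1 ⊢
    exact (Nat.Coprime.pow_left k ((Nat.prime_two.coprime_iff_not_dvd).2 hDodd)).dvd_of_dvd_mul_left h1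
  obtain ⟨j, hj⟩ := hqdvd
  have hjodd : ¬ 2 ∣ j := by
    intro h
    obtain ⟨i, rfl⟩ := h
    haveI : Fact (Nat.Prime 2) := ⟨Nat.prime_two⟩
    refine P.S.not_dvd_index ?_
    have h2 : Nat.card ↥(P.S : Subgroup G) * 2 ∣ Nat.card G := by
      refine dvd_trans ⟨D * i, ?_⟩ P.M.card_subgroup_dvd_card
      rw [← hOcard, ← hD, hj, hq]; ring
    rw [← (P.S : Subgroup G).card_mul_index] at h2
    exact Nat.dvd_of_mul_dvd_mul_left Nat.card_pos h2
  have hj1 : j = 1 := by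
    have hqpos : 0 < q := hq ▸ Nat.card_pos
    rw [← hq] at hn hqO
    have : j < 3 := by
      by_contra h
      have : q * 3 ≤ q * j := Nat.mul_le_mul_left q (by omega)
      omega
    have : 1 ≤ j := by
      rcases Nat.eq_zero_or_pos j with h | h
      · subst h; omega
      · omega
    omega
  have hRO' : R = O := eq_of_subset_of_card_le hRO (by rw [hRcard, hj, hj1, mul_one, hq])
  have horb : ∀ g ∈ P.M, ∃ s ∈ (P.S : Subgroup G), g • a = s • a := by
    intro g hg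
    have h : g • a ∈ R := hRO' ▸ hO ▸ mem_filter.2 ⟨mem_univ _, g, hg, rfl⟩
    rw [hR] at h
    obtain ⟨s, hs, e⟩ := (mem_filter.1 h).2
    exact ⟨s, hs, e.symm⟩
  refine ⟨?_, hodd, horb, fun g hg => ?_⟩
  · rw [← hq, ← hD, ← hOcard, ← hD, hj, hj1, mul_one]
  · obtain ⟨s, hs, e⟩ := horb g hg
    refine ⟨s, hs, s⁻¹ * g, Subgroup.mem_inf.2 ⟨mul_mem (inv_mem (P.S_le_M hs)) hg, ?_⟩, (mul_inv_cancel_left s g).symm⟩
    rw [mem_stabilizer_iff, mul_smul, e, inv_smul_smul]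

/-- Index `2q + 1` is impossible. -/
theorem false_of_two_orbits {t : G} (ht : orderOf t = 2)
    (h2 : P.M.index = 2 * Nat.card ↥(P.S : Subgroup G) + 1) : False := by
  obtain ⟨o, ho⟩ : ∃ o : G ⧸ P.M, o = ((1 : G) : G ⧸ P.M) := ⟨_, rfl⟩
  obtain ⟨q, hq⟩ : ∃ q, q = Nat.card ↥(P.S : Subgroup G) := ⟨_, rfl⟩
  have hqpos : 0 < q := hq ▸ Nat.card_pos
  let R : G ⧸ P.M → Finset (G ⧸ P.M) := fun z =>
    univ.filter (fun y => ∃ s ∈ (P.S : Subgroup G), s • z = y)
  have hRmem : ∀ {z y}, y ∈ R z ↔ ∃ s ∈ (P.S : Subgroup G), s • z = y := fun {z y} => by simp [R]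
  have hRo : ∀ z, z ≠ o → o ∉ R z := fun z hz h => by
    obtain ⟨s, hs, e⟩ := hRmem.1 h
    refine hz ?_
    rw [← inv_smul_smul s z, e, ho, CfsgLib.Invol.fixed_one_iff.2 (inv_mem (P.S_le_M hs))]
  have hfree : ∀ z, z ≠ o → ∀ s ∈ (P.S : Subgroup G), ∀ s' ∈ (P.S : Subgroup G), s • z = s' • z → s = s' := by
    intro z hz s hs s' hs' h
    by_contra hne
    refine hz (ho ▸ P.fixed_eq (mul_mem (inv_mem hs') hs) (fun e => hne (inv_mul_eq_one.1 e).symm) ?_)
    rw [mul_smul, h, inv_smul_smul]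
  have hRcard : ∀ z, z ≠ o → (R z).card = q := fun z hz => by
    rw [hq, Nat.card_eq_fintype_card, ← card_univ]
    refine (card_bij (fun (s : ↥(P.S : Subgroup G)) _ => (s : G) • z)
      (fun s _ => hRmem.2 ⟨s, s.2, rfl⟩)
      (fun s _ s' _ e => Subtype.ext (hfree z hz _ s.2 _ s'.2 e)) fun y hy => ?_).symm
    obtain ⟨s, hs, rfl⟩ := hRmem.1 hy
    exact ⟨⟨s, hs⟩, mem_univ _, rfl⟩
  have hcardU : (univ : Finset (G ⧸ P.M)).card = 2 * q + 1 := by
    rw [card_univ, ← Nat.card_eq_fintype_card, ← Subgroup.index_eq_card, h2, hq]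
  obtain ⟨a, ha⟩ : ∃ a : G ⧸ P.M, a ≠ o := by
    by_contra h
    push Not at h
    have : (univ : Finset (G ⧸ P.M)).card ≤ 1 := card_le_one.2 fun x _ y _ => (h x).trans (h y).symm
    omega
  obtain ⟨hDcard, hDodd, hDorb, hsplit⟩ := P.point_data hW hn (ho ▸ ha)
  obtain ⟨D, hD⟩ : ∃ D, D = P.M ⊓ stabilizer G a := ⟨_, rfl⟩
  rw [← hD] at hDcard hDodd hsplit
  have hDM : D ≤ P.M := hD ▸ inf_le_left
  have hDfix : ∀ {d}, d ∈ D ↔ d • o = o ∧ d • a = a := fun {d} => by
    rw [hD, Subgroup.mem_inf, mem_stabilizer_iff, ho, CfsgLib.Invol.fixed_one_iff]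
  obtain ⟨b, hb⟩ : ∃ b, b ∉ insert o (R a) := by
    by_contra h
    push Not at h
    have := card_le_card (fun z (_ : z ∈ (univ : Finset (G ⧸ P.M))) => h z)
    rw [card_insert_of_notMem (hRo a ha), hRcard a ha, hcardU] at this
    omega
  obtain ⟨hbo, hba⟩ : b ≠ o ∧ b ∉ R a := by simpa [not_or] using hb
  have hcover : ∀ z, z ≠ o → z ∉ R a → z ∈ R b := by
    intro z hz hza
    by_contra hzb
    have hdisj : Disjoint (R a) (R b) := disjoint_left.2 fun y hya hyb => by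
      obtain ⟨s, hs, rfl⟩ := hRmem.1 hya
      obtain ⟨s', hs', e⟩ := hRmem.1 hyb
      refine hba (hRmem.2 ⟨s'⁻¹ * s, mul_mem (inv_mem hs') hs, ?_⟩)
      rw [mul_smul, ← e, inv_smul_smul]
    have h := card_le_card (subset_univ (insert z (insert o (R a ∪ R b))))
    rw [card_insert_of_notMem (by simp [hz, hza, hzb]), card_insert_of_notMem (by simp [hRo a ha, hRo b hbo]),
      card_union_of_disjoint hdisj, hRcard a ha, hRcard b hbo, hcardU] at h
    omega
  -- a fixed point of `D` in the second orbit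
  obtain ⟨-, -, hborb, -⟩ := P.point_data hW hn (ho ▸ hbo)
  have hc0 : ∀ d : ↥D, ∃ s : ↥(P.S : Subgroup G), (d : G) • b = (s : G) • b := fun d => by
    obtain ⟨s, hs, e⟩ := hborb d (hDM d.2); exact ⟨⟨s, hs⟩, e⟩
  choose c hc using hc0
  letI : CommGroup ↥(P.S : Subgroup G) :=
    { (inferInstance : Group ↥(P.S : Subgroup G)) with mul_comm := fun x y => Subtype.ext (P.comm _ x.2 _ y.2) }
  let cj : ↥D → ↥(P.S : Subgroup G) →* ↥(P.S : Subgroup G) := fun d =>
    { toFun := fun s => ⟨(d : G) * s * (d : G)⁻¹, P.S_conj_mem hW (hDM d.2) s.2⟩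
      map_one' := Subtype.ext (by simp)
      map_mul' := fun s s' => Subtype.ext (by simp only [Subgroup.coe_mul]; group) }
  have hcoc : ∀ d d' : ↥D, c (d * d') = cj d (c d') * c d := by
    intro d d'
    refine Subtype.ext (hfree b hbo _ (c (d * d')).2 _ (cj d (c d') * c d).2 ?_)
    rw [← hc]
    show ((d : G) * (d' : G)) • b = ((d : G) * (c d' : G) * (d : G)⁻¹ * (c d : G)) • b
    rw [mul_smul, hc, mul_smul ((d : G) * (c d' : G) * (d : G)⁻¹), ← hc d, ← mul_smul, ← mul_smul,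
      inv_mul_cancel_right]
  obtain ⟨π, hπ⟩ : ∃ π, π = ∏ d : ↥D, c d := ⟨_, rfl⟩
  have hsq : ∀ s : ↥(P.S : Subgroup G), s * s = 1 := fun s => Subtype.ext (hel s s.2)
  have hfix : ∀ d : ↥D, c d = π * cj d π := by
    intro d
    have h : π = cj d π * c d ^ Nat.card ↥D := by
      calc π = ∏ d' : ↥D, c (d * d') := by rw [hπ]; exact (Equiv.prod_comp (Equiv.mulLeft d) c).symm
        _ = cj d π * c d ^ Nat.card ↥D := by
          rw [prod_congr rfl fun d' _ => hcoc d d', prod_mul_distrib, prod_const, card_univ,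
            ← Nat.card_eq_fintype_card, ← map_prod, ← hπ]
    have hodd : Odd (Nat.card ↥D) := by
      rw [← Nat.not_even_iff_odd, even_iff_two_dvd]
      intro h
      haveI : Fact (Nat.Prime 2) := ⟨Nat.prime_two⟩
      obtain ⟨x, hx⟩ := exists_prime_orderOf_dvd_card' (G := ↥D) 2 h
      exact hDodd x x.2 (by rw [Subgroup.orderOf_coe, hx])
    obtain ⟨i, hi⟩ := hodd
    rw [hi, pow_succ, pow_mul, pow_two, hsq, one_pow, one_mul] at h
    nth_rewrite 1 [h]
    rw [mul_comm (cj d π) (c d), mul_assoc, hsq, mul_one]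
  obtain ⟨z, hz⟩ : ∃ z, z = (π : G) • b := ⟨_, rfl⟩
  have hzfix : ∀ d ∈ D, d • z = z := fun d hd => by
    have e : ((cj ⟨d, hd⟩ π * c ⟨d, hd⟩ : ↥(P.S : Subgroup G)) : G) = (π : G) := by
      rw [hfix ⟨d, hd⟩, mul_left_comm, hsq, mul_one]
    rw [hz, ← mul_smul, show d * (π : G) = (d * (π : G) * d⁻¹) * d by group, mul_smul, hc ⟨d, hd⟩, ← mul_smul]
    exact congrArg (· • b) e
  have huniq : ∀ x y, x ≠ o → y ∈ R x → (∀ d ∈ D, d • x = x) → (∀ d ∈ D, d • y = y) → x = y := by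
    intro x y hx hy hxd hyd
    obtain ⟨s, hs, rfl⟩ := hRmem.1 hy
    have hs1 : s = 1 := by
      refine P.eq_one_of_central hel hW hs fun g hg => ?_
      obtain ⟨s', hs', d, hd, rfl⟩ := hsplit g hg
      have h1 : d * s * d⁻¹ = s := hfree x hx _ (P.S_conj_mem hW (hDM hd) hs) _ hs (by
        rw [mul_smul, mul_smul]
        have : d⁻¹ • x = x := by conv_lhs => rw [← hxd d hd, inv_smul_smul]
        rw [this, hyd d hd])
      rw [mul_assoc, mul_inv_eq_iff_eq_mul.1 h1, ← mul_assoc, P.comm _ hs' _ hs, mul_assoc]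
    rw [hs1, one_smul]
  have hzb : z ∈ R b := hz ▸ hRmem.2 ⟨π, π.2, rfl⟩
  have hzo : z ≠ o := fun e => hRo b hbo (e ▸ hzb)
  have hzRa : z ∉ R a := fun h => by
    obtain ⟨s, hs, e⟩ := hRmem.1 h
    refine hba (hRmem.2 ⟨(π : G)⁻¹ * s, mul_mem (inv_mem π.2) hs, ?_⟩)
    rw [mul_smul, e, hz, inv_smul_smul]
  have hfixset : ∀ y, (∀ d ∈ D, d • y = y) → y = o ∨ y = a ∨ y = z := by
    intro y hy
    by_cases hyo : y = o
    · exact Or.inl hyo
    by_cases hya : y ∈ R a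
    · exact Or.inr (Or.inl (huniq a y ha hya (fun d hd => (hDfix.1 hd).2) hy).symm)
    · refine Or.inr (Or.inr (huniq z y hzo ?_ hzfix hy).symm)
      obtain ⟨s, hs, rfl⟩ := hRmem.1 (hcover y hyo hya)
      refine hRmem.2 ⟨s * (π : G)⁻¹, mul_mem hs (inv_mem π.2), ?_⟩
      rw [hz, mul_smul, inv_smul_smul]
  -- the involution interchanging `o` and `a`
  obtain ⟨s₀, hs₀S, hs₀⟩ := P.exists_invol
  obtain ⟨w, hw, hwa⟩ := CfsgLib.Invol.exists_invol_fixing P.stronglyEmbedded a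
  obtain ⟨u, hu, huo, -⟩ := CfsgLib.Invol.exists_swap P.stronglyEmbedded hs₀ hw
    (ho ▸ CfsgLib.Invol.fixed_one_iff.2 (P.S_le_M hs₀S)) hwa (Ne.symm ha)
  have hua : u • a = o := by rw [← huo, CfsgLib.Invol.invol_smul_smul hu]
  have hunorm : ∀ d ∈ D, u * d * u⁻¹ ∈ D := fun d hd => by
    obtain ⟨h1, h2⟩ := hDfix.1 hd
    rw [CfsgLib.Invol.invol_inv hu]
    exact hDfix.2 ⟨by rw [mul_smul, mul_smul, huo, h2, hua], by rw [mul_smul, mul_smul, hua, h1, huo]⟩
  have huz : u • z = z := by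
    have hf : ∀ d ∈ D, d • (u • z) = u • z := fun d hd => by
      have := hzfix _ (hunorm d hd)
      rw [mul_smul, mul_smul, CfsgLib.Invol.invol_inv hu] at this
      calc d • u • z = u • (u • d • u • z) := (CfsgLib.Invol.invol_smul_smul hu _).symm
        _ = u • z := by rw [this]
    rcases hfixset _ hf with h | h | h
    · exact absurd (by rw [← CfsgLib.Invol.invol_smul_smul hu z, h, huo]) (fun e : z = a => hzRa (e ▸ hRmem.2 ⟨1, one_mem _, one_smul _ _⟩))
    · exact absurd (by rw [← CfsgLib.Invol.invol_smul_smul hu z, h, hua]) hzo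
    · exact h
  obtain ⟨g, hg⟩ : ∃ g : G, z = g • o := by
    obtain ⟨g, rfl⟩ := QuotientGroup.mk_surjective z
    exact ⟨g, by rw [ho, MulAction.Quotient.smul_mk, smul_eq_mul, mul_one]⟩
  have hconj : ∀ x : G, x • z = z → g⁻¹ * x * g ∈ P.M := fun x hx => by
    refine CfsgLib.Invol.fixed_one_iff.1 ?_
    rw [← ho, mul_smul, mul_smul, ← hg, hx, hg, inv_smul_smul]
  have huS : g⁻¹ * u * g ∈ (P.S : Subgroup G) := P.invol_mem_S hW (hconj u huz) (by
    have := CfsgLib.Invol.invol_conj hu g⁻¹; rwa [inv_inv] at this)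
  have hDC : D ≤ Subgroup.centralizer ({u} : Set G) := by
    intro d hd
    have hdM : g⁻¹ * d * g ∈ P.M := hconj d (hzfix d hd)
    have h1 : (g⁻¹ * u * g) * ((g⁻¹ * d * g) * (g⁻¹ * u * g)⁻¹ * (g⁻¹ * d * g)⁻¹) ∈ (P.S : Subgroup G) :=
      mul_mem huS (P.S_conj_mem hW hdM (inv_mem huS))
    have e : (g⁻¹ * u * g) * ((g⁻¹ * d * g) * (g⁻¹ * u * g)⁻¹ * (g⁻¹ * d * g)⁻¹) = g⁻¹ * (u * d * u⁻¹ * d⁻¹) * g := by group
    rw [e] at h1
    have hodd : ¬ 2 ∣ orderOf (g⁻¹ * (u * d * u⁻¹ * d⁻¹) * g) := by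
      have := orderOf_cj (u * d * u⁻¹ * d⁻¹) g⁻¹
      rw [inv_inv] at this
      rw [this]
      exact hDodd _ (mul_mem (hunorm d hd) (inv_mem hd))
    have h3 := P.eq_one_of_mem_S_odd hW h1 hodd
    have h4 : u * d * u⁻¹ * d⁻¹ = 1 := by
      calc u * d * u⁻¹ * d⁻¹ = g * (g⁻¹ * (u * d * u⁻¹ * d⁻¹) * g) * g⁻¹ := by group
        _ = 1 := by rw [h3, mul_one, mul_inv_cancel]
    exact Subgroup.mem_centralizer_singleton_iff.2
      (mul_inv_eq_iff_eq_mul.1 (mul_inv_eq_one.1 h4)).symm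
  -- the orders
  obtain ⟨k, hk⟩ := isConj_iff.1 (P.isConj_invol ht hu)
  have hCcard : Nat.card ↥(Subgroup.centralizer ({u} : Set G)) = Nat.card ↥(Subgroup.centralizer ({t} : Set G)) := by
    have h1 := card_class_mul t
    have h2 := card_class_mul u
    rw [filter_congr fun x _ => (show IsConj u x ↔ IsConj t x from
      ⟨fun h => (isConj_iff.2 ⟨k, hk⟩).trans h, fun h => (isConj_iff.2 ⟨k, hk⟩).symm.trans h⟩), ← h1] at h2
    exact Nat.eq_of_mul_eq_mul_left (Finset.card_pos.2 ⟨t, mem_filter.2 ⟨mem_univ _, IsConj.refl t⟩⟩) h2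
  have hqC : q ∣ Nat.card ↥(Subgroup.centralizer ({t} : Set G)) := by
    obtain ⟨c', hc'⟩ := isConj_iff.1 (P.isConj_invol hs₀ ht)
    have h1 := card_class_mul s₀
    have h2 := card_class_mul t
    rw [filter_congr fun x _ => (show IsConj t x ↔ IsConj s₀ x from
      ⟨fun h => (isConj_iff.2 ⟨c', hc'⟩).trans h, fun h => (isConj_iff.2 ⟨c', hc'⟩).symm.trans h⟩), ← h1] at h2
    rw [Nat.eq_of_mul_eq_mul_left (Finset.card_pos.2 ⟨s₀, mem_filter.2 ⟨mem_univ _, IsConj.refl s₀⟩⟩) h2, hq]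
    exact Subgroup.card_dvd_of_le fun s hs => Subgroup.mem_centralizer_singleton_iff.2 (P.comm s hs s₀ hs₀S)
  have hMC : Nat.card ↥P.M ∣ Nat.card ↥(Subgroup.centralizer ({t} : Set G)) := by
    rw [← hDcard, ← hq, mul_comm]
    refine Nat.Coprime.mul_dvd_of_dvd_of_dvd ?_ hqC (hCcard ▸ Subgroup.card_dvd_of_le hDC)
    obtain ⟨i, hi⟩ := IsPGroup.iff_card.1 P.S.isPGroup'
    rw [hq, hi]
    refine ((Nat.prime_two.coprime_iff_not_dvd).2 fun h => ?_).pow_left i
    haveI : Fact (Nat.Prime 2) := ⟨Nat.prime_two⟩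
    obtain ⟨x, hx⟩ := exists_prime_orderOf_dvd_card' (G := ↥D) 2 h
    exact hDodd x x.2 (by rw [Subgroup.orderOf_coe, hx])
  have hJ := P.card_invol_M ht
  have h7 : 7 ≤ (univ.filter (fun v : ↥P.M => orderOf v = 2)).card := by
    have h8 := P.eight
    obtain ⟨J, hJdef⟩ : ∃ J : Finset ↥P.M, J = insert (1 : ↥P.M) (univ.filter (fun v : ↥P.M => orderOf v = 2)) := ⟨_, rfl⟩
    have hle : Nat.card {v : G // v ∈ (P.S : Subgroup G) ∧ v * v = 1} ≤ Nat.card ↥J :=
      Nat.card_le_card_of_injective (fun v => ⟨⟨v.1, P.S_le_M v.2.1⟩, by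
        rw [hJdef]
        by_cases hv : v.1 = 1
        · exact mem_insert.2 (Or.inl (Subtype.ext hv))
        · refine mem_insert.2 (Or.inr (mem_filter.2 ⟨mem_univ _, ?_⟩))
          rw [← Subgroup.orderOf_coe]
          exact orderOf_eq_prime (hp := ⟨Nat.prime_two⟩) (by rw [pow_two]; exact v.2.2) hv⟩)
        fun x y h => Subtype.ext (congrArg (fun v => ((v.1 : ↥P.M) : G)) h :)
    rw [Nat.card_eq_fintype_card (α := ↥J), Fintype.card_coe, hJdef,
      card_insert_of_notMem (by simp)] at hle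
    omega
  have hJ' : (univ.filter (fun v : ↥P.M => orderOf v = 2)).card *
      Nat.card ↥(Subgroup.centralizer ({t} : Set G)) = Nat.card ↥P.M := by exact_mod_cast hJ
  obtain ⟨j, hj⟩ := hMC
  rw [hj, ← mul_assoc, mul_comm _ (Nat.card ↥P.M), mul_assoc] at hJ'
  have hpos : 0 < Nat.card ↥P.M := Nat.card_pos
  have h1 := (Nat.mul_eq_left hpos.ne').1 hJ'
  have := Nat.eq_one_of_mul_eq_one_right h1
  omega

/-- Index `q + 1` forces the centralizers of involutions to be 2-groups. -/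
theorem card_centralizer_le_of_one_orbit (hFT : CfsgLib.OddConseq.OddSolvable.{u}) {t : G} (ht : orderOf t = 2)
    (h1 : P.M.index = Nat.card ↥(P.S : Subgroup G) + 1) :
    Nat.card ↥(Subgroup.centralizer ({t} : Set G)) ≤ Nat.card ↥(P.S : Subgroup G) := by
  by_contra hlt
  obtain ⟨o, ho⟩ : ∃ o : G ⧸ P.M, o = ((1 : G) : G ⧸ P.M) := ⟨_, rfl⟩
  obtain ⟨q, hq⟩ : ∃ q, q = Nat.card ↥(P.S : Subgroup G) := ⟨_, rfl⟩
  have hqpos : 0 < q := hq ▸ Nat.card_pos
  have hcardU : Nat.card (G ⧸ P.M) = q + 1 := by rw [← Subgroup.index_eq_card, h1, hq]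
  obtain ⟨a, ha⟩ : ∃ a : G ⧸ P.M, a ≠ o := by
    haveI : Nontrivial (G ⧸ P.M) := Finite.one_lt_card_iff_nontrivial.1 (by omega)
    exact exists_ne o
  obtain ⟨hDcard, hDodd, -, hsplit⟩ := P.point_data hW hn (ho ▸ ha)
  obtain ⟨D, hD⟩ : ∃ D, D = P.M ⊓ stabilizer G a := ⟨_, rfl⟩
  rw [← hD] at hDcard hDodd hsplit
  have hDM : D ≤ P.M := hD ▸ inf_le_left
  have hDfix : ∀ {d}, d ∈ D ↔ d • o = o ∧ d • a = a := fun {d} => by
    rw [hD, Subgroup.mem_inf, mem_stabilizer_iff, ho, CfsgLib.Invol.fixed_one_iff]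
  have hfree : ∀ s ∈ (P.S : Subgroup G), ∀ s' ∈ (P.S : Subgroup G), s • a = s' • a → s = s' := by
    intro s hs s' hs' h
    by_contra hne
    refine ha (ho ▸ P.fixed_eq (mul_mem (inv_mem hs') hs) (fun e => hne (inv_mul_eq_one.1 e).symm) ?_)
    rw [mul_smul, h, inv_smul_smul]
  have hcover : ∀ z, z ≠ o → ∃ s ∈ (P.S : Subgroup G), s • a = z := by
    intro z hz
    by_contra hno
    have hinj : Function.Injective (fun s : Option (Option ↥(P.S : Subgroup G)) =>
        match s with | none => o | some none => z | some (some s) => (s : G) • a) := by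
      have hso : ∀ s : ↥(P.S : Subgroup G), (s : G) • a ≠ o := fun s e => ha (by
        rw [← inv_smul_smul (s : G) a, e, ho, CfsgLib.Invol.fixed_one_iff.2 (inv_mem (P.S_le_M s.2))])
      rintro (_ | _ | s) (_ | _ | s') h
      · rfl
      · exact absurd h.symm hz
      · exact absurd h.symm (hso s')
      · exact absurd h hz
      · rfl
      · exact absurd ⟨s', s'.2, h.symm⟩ hno
      · exact absurd h (hso s)
      · exact absurd ⟨s, s.2, h⟩ hno
      · exact congrArg (some ∘ some) (Subtype.ext (hfree _ s.2 _ s'.2 h))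
    have h := Nat.card_le_card_of_injective _ hinj
    rw [Finite.card_option, Finite.card_option, hcardU, hq] at h
    omega
  obtain ⟨s₀, hs₀S, hs₀⟩ := P.exists_invol
  obtain ⟨w, hw, hwa⟩ := CfsgLib.Invol.exists_invol_fixing P.stronglyEmbedded a
  obtain ⟨u, hu, huo, -⟩ := CfsgLib.Invol.exists_swap P.stronglyEmbedded hs₀ hw
    (ho ▸ CfsgLib.Invol.fixed_one_iff.2 (P.S_le_M hs₀S)) hwa (Ne.symm ha)
  have hua : u • a = o := by rw [← huo, CfsgLib.Invol.invol_smul_smul hu]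
  have hunorm : ∀ d ∈ D, u * d * u⁻¹ ∈ D := fun d hd => by
    obtain ⟨h1, h2⟩ := hDfix.1 hd
    rw [CfsgLib.Invol.invol_inv hu]
    exact hDfix.2 ⟨by rw [mul_smul, mul_smul, huo, h2, hua], by rw [mul_smul, mul_smul, hua, h1, huo]⟩
  -- the fixed point of `u`
  obtain ⟨k, hk⟩ := isConj_iff.1 (P.isConj_invol hs₀ hu)
  obtain ⟨c, hc⟩ : ∃ c, c = k • o := ⟨_, rfl⟩
  have huc : u • c = c := by
    rw [hc, ← hk, CfsgLib.Invol.conj_fixes, ho]
    exact CfsgLib.Invol.fixed_one_iff.2 (P.S_le_M hs₀S)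
  have hco : c ≠ o := fun e => ha (by rw [← huo, ← e, huc, e])
  have hca : c ≠ a := fun e => ha (by rw [← hua, ← e, huc])
  obtain ⟨s, hs, hsc⟩ := hcover c hco
  have hs1 : s ≠ 1 := fun e => hca (by rw [← hsc, e, one_smul])
  -- an element centralizing `u` in `D`
  obtain ⟨C, hC⟩ : ∃ C, C = Subgroup.centralizer ({u} : Set G) := ⟨_, rfl⟩
  have hCc : ∀ x ∈ C, x • c = c := fun x hx => by
    refine CfsgLib.Invol.fixed_unique P.stronglyEmbedded hu ?_ huc
    rw [hC, Subgroup.mem_centralizer_singleton_iff] at hx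
    rw [← mul_smul, ← hx, mul_smul, huc]
  have hClt : q < Nat.card ↥C := by
    obtain ⟨k', hk'⟩ := isConj_iff.1 (P.isConj_invol ht hu)
    have h1 := card_class_mul t
    have h2 := card_class_mul u
    rw [filter_congr fun x _ => (show IsConj u x ↔ IsConj t x from
      ⟨fun h => (isConj_iff.2 ⟨k', hk'⟩).trans h, fun h => (isConj_iff.2 ⟨k', hk'⟩).symm.trans h⟩), ← h1] at h2
    rw [hC, Nat.eq_of_mul_eq_mul_left (Finset.card_pos.2 ⟨t, mem_filter.2 ⟨mem_univ _, IsConj.refl t⟩⟩) h2, hq]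
    omega
  obtain ⟨x, hxC, hxo, hx1⟩ : ∃ x ∈ C, x • o = o ∧ x ≠ 1 := by
    by_contra hno
    push Not at hno
    have hinj : Function.Injective (fun x : ↥C => (⟨(x : G) • o, fun e => hco (by
        have := congrArg (fun z => (x : G)⁻¹ • z) e
        simp only [inv_smul_smul] at this
        rw [this, hCc _ (inv_mem x.2)])⟩ : {z : G ⧸ P.M // z ≠ c})) := by
      intro x y h
      have e : (x : G) • o = (y : G) • o := congrArg Subtype.val h
      refine Subtype.ext (inv_mul_eq_one.1 (hno _ (mul_mem (inv_mem y.2) x.2) ?_)).symm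
      rw [mul_smul, e, inv_smul_smul]
    have h := Nat.card_le_card_of_injective _ hinj
    rw [Nat.card_eq_fintype_card (α := {z : G ⧸ P.M // z ≠ c}),
      Fintype.card_subtype_compl (fun z : G ⧸ P.M => z = c), Fintype.card_subtype_eq,
      ← Nat.card_eq_fintype_card (α := G ⧸ P.M), hcardU] at h
    omega
  have hxu : Commute x u := Subgroup.mem_centralizer_singleton_iff.1 (hC ▸ hxC)
  have hxD : x ∈ D := hDfix.2 ⟨hxo, by rw [← huo, ← mul_smul, hxu.eq, mul_smul, hxo]⟩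
  have hxs : Commute x s := by
    have h : (x * s * x⁻¹) • a = s • a := by
      rw [mul_smul, mul_smul, show x⁻¹ • a = a by
        conv_lhs => rw [← (hDfix.1 hxD).2, inv_smul_smul], hsc, hCc x hxC]
    exact mul_inv_eq_iff_eq_mul.1 (hfree _ (P.S_conj_mem hW (hDM hxD) hs) _ hs h)
  -- `x` is outside the commutator
  have hxcomm : (⟨x, hxD⟩ : ↥D) ∉ commutator ↥D := by
    intro hmem
    obtain ⟨Φ, hΦ⟩ := P.nonempty_frame
    obtain ⟨f, hf⟩ : ∃ f : ↥D →* P.Quo, f = P.proj.comp (Subgroup.inclusion hDM) := ⟨_, rfl⟩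
    have hinjP : Function.Injective P.proj := (injective_iff_map_eq_one _).2 fun y hy => by
      have := P.proj_eq_one.1 hy
      rw [hW, Subgroup.mem_bot] at this
      exact Subtype.ext this
    have hinj : Function.Injective f := hf ▸ hinjP.comp (Subgroup.inclusion_injective hDM)
    have hA : Subgroup.IsComplement' Φ.T f.range := by
      refine Subgroup.isComplement'_of_card_mul_and_disjoint ?_ ?_
      · rw [hΦ, P.card_TQ, ← Nat.card_congr (MonoidHom.ofInjective hinj).toEquiv, mul_comm, hDcard,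
          ← P.card_quo, hW, Subgroup.card_bot, mul_one]
      · refine disjoint_iff_inf_le.2 fun γ hγ => Subgroup.mem_bot.2 ?_
        obtain ⟨hγT, d, rfl⟩ := Subgroup.mem_inf.1 hγ
        rw [hΦ] at hγT
        obtain ⟨s', hs', e⟩ := P.mem_TQ.1 hγT
        rw [hf] at e
        have h1 : s' = (d : G) := congrArg Subtype.val (hinjP e)
        have h2 : (d : G) = 1 := P.eq_one_of_mem_S_odd hW (h1 ▸ hs') (hDodd d d.2)
        rw [show d = 1 from Subtype.ext h2, map_one]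
    have hso : orderOf s = 2 := orderOf_eq_prime (hp := ⟨Nat.prime_two⟩) (by rw [pow_two]; exact hel s hs) hs1
    obtain ⟨E, r, -, -, -, -, hsemi⟩ := Φ.stab_semilinear hFT hA
      (P.orderOf_proj_invol hs hso)
    have h1 : f ⟨x, hxD⟩ ∈ ⁅f.range, f.range⁆ := by
      rw [MonoidHom.range_eq_map, ← Subgroup.map_commutator]
      exact ⟨_, hmem, rfl⟩
    have h2 := hsemi _ h1 (by
      rw [hf]
      show P.proj _ * P.proj _ = P.proj _ * P.proj _
      rw [← map_mul, ← map_mul]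
      exact congrArg P.proj (Subtype.ext hxs.eq))
    exact hx1 (congrArg Subtype.val (hinj (h2.trans (map_one f).symm)))
  -- an invariant linear character
  obtain ⟨cu, hcu⟩ : ∃ cu : ↥D →* ↥D, ∀ d : ↥D, (cu d : G) = u * (d : G) * u⁻¹ :=
    ⟨{ toFun := fun d => ⟨u * (d : G) * u⁻¹, hunorm d d.2⟩
       map_one' := Subtype.ext (by simp)
       map_mul' := fun d d' => Subtype.ext (by simp only [Subgroup.coe_mul]; group) }, fun _ => rfl⟩
  have hsq : Abelianization.of (⟨x, hxD⟩ : ↥D) * Abelianization.of (⟨x, hxD⟩ : ↥D) ≠ 1 := by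
    intro e
    refine hxcomm ((QuotientGroup.eq_one_iff _).1 ?_)
    show Abelianization.of (⟨x, hxD⟩ : ↥D) = 1
    have hd : orderOf (Abelianization.of (⟨x, hxD⟩ : ↥D)) ∣ orderOf x := by
      have := orderOf_map_dvd (Abelianization.of (G := ↥D)) ⟨x, hxD⟩
      rwa [Subgroup.orderOf_mk] at this
    rcases (Nat.dvd_prime Nat.prime_two).1 (orderOf_dvd_of_pow_eq_one (by rw [pow_two]; exact e) :
      orderOf (Abelianization.of (⟨x, hxD⟩ : ↥D)) ∣ 2) with h | h
    · exact orderOf_eq_one_iff.1 h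
    · exact absurd (h ▸ hd) (hDodd x hxD)
  obtain ⟨μ, hμ⟩ := CommGroup.exists_apply_ne_one_of_hasEnoughRootsOfUnity (Abelianization ↥D) ℂ hsq
  obtain ⟨lam, hlam⟩ : ∃ lam : ↥D →* ℂˣ, lam = (μ.comp Abelianization.of) * ((μ.comp Abelianization.of).comp cu) :=
    ⟨_, rfl⟩
  have hlamx : lam ⟨x, hxD⟩ ≠ 1 := by
    have e : cu ⟨x, hxD⟩ = ⟨x, hxD⟩ := Subtype.ext (by
      rw [hcu]; show u * x * u⁻¹ = x; rw [← hxu.eq, mul_inv_cancel_right])
    rw [hlam, MonoidHom.mul_apply, MonoidHom.comp_apply (μ.comp _) cu, e, MonoidHom.comp_apply, ← map_mul]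
    exact hμ
  have hlamu : ∀ d : ↥D, lam (cu d) = lam d := fun d => by
    have e : cu (cu d) = d := Subtype.ext (by
      rw [hcu, hcu, ← mul_assoc u (u * (d : G)), ← mul_assoc u u, CfsgLib.Invol.invol_mul_self hu, one_mul,
        CfsgLib.Invol.invol_inv hu, mul_assoc, CfsgLib.Invol.invol_mul_self hu, mul_one])
    rw [hlam]
    simp only [MonoidHom.mul_apply, MonoidHom.comp_apply, e]
    exact mul_comm _ _
  -- its extension to `M`
  have hex : ∀ g : ↥P.M, ∃ d : ↥D, (g : G) * (d : G)⁻¹ ∈ (P.S : Subgroup G) := fun g => by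
    obtain ⟨s', hs', d, hd, e⟩ := hsplit g g.2
    exact ⟨⟨d, hd⟩, by rw [e]; simpa using hs'⟩
  choose ℓ hℓ using hex
  have hℓu : ∀ (g : ↥P.M) (d : ↥D), (g : G) * (d : G)⁻¹ ∈ (P.S : Subgroup G) → d = ℓ g := fun g d hd => by
    have h := mul_mem (inv_mem hd) (hℓ g)
    rw [show ((g : G) * (d : G)⁻¹)⁻¹ * ((g : G) * (ℓ g : G)⁻¹) = (d : G) * (ℓ g : G)⁻¹ by group] at h
    exact Subtype.ext (mul_inv_eq_one.1 (P.eq_one_of_mem_S_odd hW h (hDodd _ (mul_mem d.2 (inv_mem (ℓ g).2)))))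
  let L : ↥P.M →* ↥D := MonoidHom.mk' ℓ fun g g' => (hℓu _ _ (by
    show (g : G) * (g' : G) * ((ℓ g : G) * (ℓ g' : G))⁻¹ ∈ (P.S : Subgroup G)
    rw [show (g : G) * (g' : G) * ((ℓ g : G) * (ℓ g' : G))⁻¹ =
      (g : G) * ((g' : G) * (ℓ g' : G)⁻¹) * (g : G)⁻¹ * ((g : G) * (ℓ g : G)⁻¹) by group]
    exact mul_mem (P.S_conj_mem hW g.2 (hℓ g')) (hℓ g))).symm
  have hLD : ∀ (d : ↥D), L ⟨d, hDM d.2⟩ = d := fun d => (hℓu _ d (by
    show (d : G) * (d : G)⁻¹ ∈ _; rw [mul_inv_cancel]; exact one_mem _)).symm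
  have hLS : ∀ {g : G} (hg : g ∈ (P.S : Subgroup G)), L ⟨g, P.S_le_M hg⟩ = 1 := fun {g} hg => (hℓu _ 1 (by
    show g * (1 : G)⁻¹ ∈ _; rwa [inv_one, mul_one])).symm
  obtain ⟨θ, hθ⟩ : ∃ θ : ↥P.M → ℂ, θ = fun g => (lam (L g) : ℂ) := ⟨_, rfl⟩
  have hθirr : IsIrrCharacter ↥P.M θ := hθ ▸ isIrrCharacter_lin (lam.comp L)
  have hθc : IsClassFunction ↥P.M θ := isClassFunction_of_isCharacter (isCharacter_of_isIrr hθirr)
  obtain ⟨Θ, hΘ⟩ : ∃ Θ, Θ = indFun P.M θ := ⟨_, rfl⟩
  -- its norm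
  have hnorm : classInner Θ Θ = 2 := by
    rw [hΘ, classInner_indFun P.M θ _ (isClassFunction_indFun _ _)]
    have hθθ : classInner θ θ = 1 := classInner_irr_self (⟨θ, hθirr⟩ : IrrCharacter ↥P.M)
    have hkey : ∀ x : G, x ∉ P.M →
        ∑ g : ↥P.M, θ g * conj (extendByZero P.M θ (x⁻¹ * (g : G) * x)) = (Nat.card ↥D : ℂ) := by
      intro x hx
      -- `x` lies in the double coset of `u`
      obtain ⟨s', hs', e⟩ := hcover (x • o) (fun e => hx (CfsgLib.Invol.fixed_one_iff.1 (ho ▸ e)))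
      obtain ⟨m2, hm2, hxeq⟩ : ∃ m2 ∈ P.M, x = s' * u * m2 := ⟨(s' * u)⁻¹ * x, CfsgLib.Invol.fixed_one_iff.1 (by
        rw [← ho, mul_smul, ← e, mul_inv_rev, mul_smul, inv_smul_smul, CfsgLib.Invol.invol_inv hu, hua]),
        (mul_inv_cancel_left _ _).symm⟩
      have hcrit : ∀ g : ↥P.M, x⁻¹ * (g : G) * x ∈ P.M ↔ s'⁻¹ * (g : G) * s' ∈ D := by
        intro g
        rw [hxeq, show (s' * u * m2)⁻¹ * (g : G) * (s' * u * m2) = m2⁻¹ * (u⁻¹ * (s'⁻¹ * g * s') * u) * m2 by group,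
          Subgroup.mul_mem_cancel_right _ hm2, Subgroup.mul_mem_cancel_left _ (inv_mem hm2), hDfix,
          ← CfsgLib.Invol.fixed_one_iff (t := u⁻¹ * (s'⁻¹ * (g : G) * s') * u), ← ho]
        constructor
        · intro h
          refine ⟨?_, ?_⟩
          · rw [ho]
            exact CfsgLib.Invol.fixed_one_iff.2 (mul_mem (mul_mem (inv_mem (P.S_le_M hs')) g.2) (P.S_le_M hs'))
          · rw [mul_smul, mul_smul, huo] at h
            have h' := congrArg (fun z => u • z) h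
            simp only [smul_inv_smul, huo] at h'
            exact h'
        · rintro ⟨-, h⟩
          rw [mul_smul, mul_smul, huo, h, CfsgLib.Invol.invol_inv hu, hua]
      rw [← sum_filter_add_sum_filter_not _ (fun g : ↥P.M => s'⁻¹ * (g : G) * s' ∈ D),
        sum_eq_zero (s := univ.filter fun g : ↥P.M => ¬ s'⁻¹ * (g : G) * s' ∈ D) fun g hg => by
          rw [extendByZero_not_mem P.M θ fun h => (mem_filter.1 hg).2 ((hcrit g).1 h), map_zero, mul_zero],
        add_zero, sum_congr rfl (g := fun _ => (1 : ℂ)) fun g hg => ?_, sum_const, nsmul_one,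
        Nat.card_eq_fintype_card, ← card_univ]
      · congr 1
        refine card_bij (fun g hg => ⟨s'⁻¹ * (g : G) * s', (mem_filter.1 hg).2⟩) (fun _ _ => mem_univ _)
          (fun g _ g' _ e => Subtype.ext (mul_left_cancel (mul_right_cancel (congrArg Subtype.val e)))) fun d _ => ?_
        refine ⟨⟨s' * (d : G) * s'⁻¹, mul_mem (mul_mem (P.S_le_M hs') (hDM d.2)) (inv_mem (P.S_le_M hs'))⟩,
          mem_filter.2 ⟨mem_univ _, ?_⟩, Subtype.ext ?_⟩
        · show s'⁻¹ * (s' * (d : G) * s'⁻¹) * s' ∈ D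
          rw [show s'⁻¹ * (s' * (d : G) * s'⁻¹) * s' = d by group]; exact d.2
        · show s'⁻¹ * (s' * (d : G) * s'⁻¹) * s' = d
          group
      · obtain ⟨d, hd⟩ : ∃ d : ↥D, (d : G) = s'⁻¹ * (g : G) * s' := ⟨⟨_, (mem_filter.1 hg).2⟩, rfl⟩
        have h1 : θ g = lam d := by
          rw [← hθc g (⟨s', P.S_le_M hs'⟩⁻¹ : ↥P.M), inv_inv,
            show (⟨s', P.S_le_M hs'⟩⁻¹ : ↥P.M) * g * ⟨s', P.S_le_M hs'⟩ = ⟨d, hDM d.2⟩ from Subtype.ext hd.symm,
            hθ]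
          simp only [hLD]
        have h2 : extendByZero P.M θ (x⁻¹ * (g : G) * x) = lam d := by
          rw [extendByZero_mem P.M θ ((hcrit g).2 (mem_filter.1 hg).2)]
          rw [show (⟨x⁻¹ * (g : G) * x, (hcrit g).2 (mem_filter.1 hg).2⟩ : ↥P.M) =
            (⟨m2, hm2⟩⁻¹ : ↥P.M) * ⟨(cu d : G), hDM (cu d).2⟩ * ⟨m2, hm2⟩ from Subtype.ext (by
              show x⁻¹ * (g : G) * x = m2⁻¹ * (cu d : G) * m2
              rw [hcu, hd, hxeq]
              simp only [mul_inv_rev, CfsgLib.Invol.invol_inv hu, mul_assoc])]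
          have := hθc ⟨(cu d : G), hDM (cu d).2⟩ (⟨m2, hm2⟩⁻¹ : ↥P.M)
          rw [inv_inv] at this
          rw [this, hθ]
          simp only [hLD, hlamu]
        rw [h1, h2, conj_lin_mul lam d]
    have hval : ∀ g : ↥P.M, θ g * conj (indFun P.M θ g) =
        θ g * conj (θ g) + (Nat.card ↥P.M : ℂ)⁻¹ *
          ∑ x ∈ univ.filter (fun x : G => x ∉ P.M), θ g * conj (extendByZero P.M θ (x⁻¹ * (g : G) * x)) := by
      intro g
      rw [indFun, ← sum_filter_add_sum_filter_not _ (fun x => x ∈ P.M), map_mul, map_inv₀, map_natCast,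
        map_add, map_sum, map_sum, mul_add, mul_add, mul_sum, mul_sum, mul_sum, mul_sum]
      congr 1
      · rw [sum_congr rfl (g := fun _ => (Nat.card ↥P.M : ℂ)⁻¹ * (θ g * conj (θ g))) fun x hx => by
            have hxM := (mem_filter.1 hx).2
            rw [extendByZero_mem P.M θ (mul_mem (mul_mem (inv_mem hxM) g.2) hxM)]
            have := hθc g (⟨x, hxM⟩⁻¹ : ↥P.M)
            rw [inv_inv] at this
            rw [show (⟨x⁻¹ * (g : G) * x, mul_mem (mul_mem (inv_mem hxM) g.2) hxM⟩ : ↥P.M) =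
              ⟨x, hxM⟩⁻¹ * g * ⟨x, hxM⟩ from rfl, this]
            ring, sum_const, nsmul_eq_mul, ← Fintype.card_subtype, ← Nat.card_eq_fintype_card]
        field_simp [Nat.card_pos (α := ↥P.M) |>.ne']
      · rw [mul_sum]
        exact sum_congr rfl fun x _ => by ring
    simp only [classInner] at hθθ ⊢
    rw [sum_congr rfl fun g _ => hval g, sum_add_distrib, mul_add, hθθ, ← mul_sum, sum_comm,
      sum_congr rfl fun x hx => hkey x (mem_filter.1 hx).2, sum_const, nsmul_eq_mul]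
    have hcnt : ((univ.filter fun x : G => x ∉ P.M).card : ℂ) = (q : ℂ) * (Nat.card ↥P.M : ℂ) := by
      have h := card_filter_add_card_filter_not (s := (univ : Finset G)) (fun x => x ∈ P.M)
      rw [← Fintype.card_subtype, ← Nat.card_eq_fintype_card, card_univ, ← Nat.card_eq_fintype_card,
        ← P.M.card_mul_index, h1, ← hq, Nat.mul_succ] at h
      rw [← Nat.cast_mul, Nat.cast_inj, mul_comm]
      omega
    rw [hcnt]
    have hm : (Nat.card ↥D : ℂ) * (q : ℂ) = (Nat.card ↥P.M : ℂ) := by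
      rw [← Nat.cast_mul, hq, hDcard]
    have hM0 : (Nat.card ↥P.M : ℂ) ≠ 0 := Nat.cast_ne_zero.2 Nat.card_pos.ne'
    rw [← hm] at hM0 ⊢
    field_simp
    rw [div_self (Nat.cast_ne_zero.2 hqpos.ne')]
    norm_num
  -- the constituents
  letI := Fintype.ofFinite (IrrCharacter G)
  have hΘc : IsCharacter G Θ := hΘ ▸ isCharacter_indFun P.M (isCharacter_of_isIrr hθirr)
  choose N hN using fun ψ : IrrCharacter G => classInner_isCharacter hΘc (isCharacter_irr ψ)
  have hsum2 : ∑ ψ, N ψ * N ψ = 2 := by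
    have h := classInner_expand (f := Θ) (h := Θ) (isClassFunction_of_isCharacter hΘc)
    rw [hnorm] at h
    simp only [hN, Complex.conj_natCast] at h
    exact_mod_cast h.symm
  have hN1 : ∀ ψ, N ψ ≤ 1 := fun ψ => by
    have := single_le_sum (f := fun ψ => N ψ * N ψ) (fun _ _ => Nat.zero_le _) (mem_univ ψ)
    nlinarith
  have hsumN : ∑ ψ, N ψ = 2 := by
    rw [← hsum2]
    exact sum_congr rfl fun ψ _ => by have := hN1 ψ; rcases Nat.le_one_iff_eq_zero_or_eq_one.1 this with h | h <;> rw [h]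
  have hN0 : N (oneChar G) = 0 := by
    have h := hN (oneChar G)
    rw [hΘ, classInner_indFun P.M θ _ (isClassFunction_irr _)] at h
    have hne : (⟨θ, hθirr⟩ : IrrCharacter ↥P.M) ≠ oneChar ↥P.M := fun e => hlamx (Units.ext (by
      have := congrFun (congrArg Subtype.val e) ⟨x, hDM hxD⟩
      simp only [hθ] at this
      rw [show L ⟨x, hDM hxD⟩ = ⟨x, hxD⟩ from hLD ⟨x, hxD⟩] at this
      exact this))
    have h2 := classInner_irr (⟨θ, hθirr⟩ : IrrCharacter ↥P.M) (oneChar ↥P.M)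
    rw [if_neg hne] at h2
    exact_mod_cast (h2.symm.trans h).symm
  have hexp : ∀ g, Θ g = ∑ ψ, (N ψ : ℂ) * (ψ : G → ℂ) g := fun g => by
    conv_lhs => rw [classFun_expand (isClassFunction_of_isCharacter hΘc)]
    simp [hN]
  have hΘs : Θ s₀ = 1 := by
    rw [hΘ, indFun, sum_congr rfl (g := fun x => if x ∈ P.M then (1 : ℂ) else 0) fun x _ => ?_, ← sum_filter,
      sum_const, nsmul_one, ← Fintype.card_subtype, ← Nat.card_eq_fintype_card,
      inv_mul_cancel₀ (Nat.cast_ne_zero.2 Nat.card_pos.ne')]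
    split_ifs with hxM
    · have hm' : x⁻¹ * s₀ * x ∈ (P.S : Subgroup G) := by
        have := P.S_conj_mem hW (inv_mem hxM) hs₀S
        rwa [inv_inv] at this
      rw [extendByZero_mem P.M θ (P.S_le_M hm'), hθ]
      simp only [hLS hm', map_one, Units.val_one]
    · refine extendByZero_not_mem P.M θ fun h => hxM (inv_mem_iff.1 (P.mem_M_of_conj (P.S_le_M hs₀S) hs₀ ?_))
      rwa [inv_inv]
  choose A hA using fun ψ : IrrCharacter G => exists_int_at_involution ψ (v := s₀) (hs₀ ▸ pow_orderOf_eq_one s₀)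
  have htot : ∑ ψ, (N ψ : ℤ) * ((charDegree (ψ : G → ℂ) : ℤ) - A ψ) = q := by
    have e : ((∑ ψ, (N ψ : ℤ) * ((charDegree (ψ : G → ℂ) : ℤ) - A ψ) : ℤ) : ℂ) = Θ 1 - Θ s₀ := by
      rw [hexp 1, hexp s₀, ← sum_sub_distrib]
      push_cast
      refine sum_congr rfl fun ψ _ => ?_
      rw [(charDegree_eq ψ).1, (hA ψ).1]; ring
    rw [hΘs, hΘ, indFun_one, hθ] at e
    simp only [map_one, Units.val_one, h1, ← hq] at e
    have e' : ((∑ ψ, (N ψ : ℤ) * ((charDegree (ψ : G → ℂ) : ℤ) - A ψ) : ℤ) : ℂ) = ((q : ℤ) : ℂ) := by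
      rw [e]; push_cast; ring
    exact_mod_cast e'
  have hge : ∀ ψ : IrrCharacter G, (N ψ : ℤ) * q ≤ (N ψ : ℤ) * ((charDegree (ψ : G → ℂ) : ℤ) - A ψ) := by
    intro ψ
    rcases eq_or_ne ψ (oneChar G) with rfl | hne
    · rw [hN0]; simp
    refine mul_le_mul_of_nonneg_left ?_ (Int.natCast_nonneg _)
    obtain ⟨i, j, hj, haij, hf⟩ := P.exists_degree_split hs₀ hs₀S hne (a := A ψ) fun v hv hv1 => by
      rw [Char.classFun_isConj (Char.isClassFunction_irr ψ)
        (P.isConj_invol (orderOf_eq_prime (hp := ⟨Nat.prime_two⟩) (by rw [pow_two]; exact hel v hv) hv1) hs₀),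
        (hA ψ).1]
    rw [← hq] at hf
    have hj' : (1 : ℤ) ≤ j := by exact_mod_cast hj
    rw [hf, haij]; nlinarith
  have := sum_le_sum (s := univ) fun ψ _ => hge ψ
  rw [htot, ← sum_mul, ← Nat.cast_sum, hsumN] at this
  push_cast at this
  omega

end

/-- With `W = 1` and index at most `3q` the centralizers of involutions are 2-groups. -/
theorem isPGroup_centralizer (hFT : CfsgLib.OddConseq.OddSolvable.{u})
    (hel : ∀ s ∈ (P.S : Subgroup G), s * s = 1) (hW : P.W = ⊥)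
    (hn : P.M.index ≤ 3 * Nat.card ↥(P.S : Subgroup G)) {t : G} (ht : orderOf t = 2) :
    IsPGroup 2 ↥(Subgroup.centralizer ({t} : Set G)) := by
  haveI : Fact (Nat.Prime 2) := ⟨Nat.prime_two⟩
  obtain ⟨q, hq⟩ : ∃ q, q = Nat.card ↥(P.S : Subgroup G) := ⟨_, rfl⟩
  have hqpos : 0 < q := hq ▸ Nat.card_pos
  obtain ⟨l, hl⟩ := hq ▸ P.card_dvd_index_sub_one
  have hne := P.index_ne_one
  have hpos : 0 < P.M.index := Nat.pos_of_ne_zero Subgroup.index_ne_zero_of_finite
  rw [← hq] at hn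
  have hl1 : 1 ≤ l := by
    rcases Nat.eq_zero_or_pos l with h | h
    · subst h; omega
    · exact h
  have hl3 : l < 3 := by
    by_contra h
    have : q * 3 ≤ q * l := Nat.mul_le_mul_left q (by omega)
    omega
  obtain ⟨s, hs, hso⟩ := P.exists_invol
  have hle : Nat.card ↥(Subgroup.centralizer ({t} : Set G)) ≤ q := by
    rcases (show l = 1 ∨ l = 2 by omega) with rfl | rfl
    · exact hq ▸ P.card_centralizer_le_of_one_orbit hel hW (hq ▸ hn) hFT ht (by rw [← hq]; omega)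
    · exact (P.false_of_two_orbits hel hW (hq ▸ hn) ht (by rw [← hq]; omega)).elim
  obtain ⟨c, hc⟩ := isConj_iff.1 (P.isConj_invol hso ht)
  have hle' : ((P.S : Subgroup G).map (MulAut.conj c).toMonoidHom) ≤ Subgroup.centralizer ({t} : Set G) := by
    rintro _ ⟨v, hv, rfl⟩
    rw [← hc]
    exact Subgroup.mem_centralizer_singleton_iff.2
      ((show Commute v s from P.comm v hv s hs).map (MulAut.conj c).toMonoidHom).eq
  rw [← Subgroup.eq_of_le_of_card_ge hle' (by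
    rw [Subgroup.card_map_of_injective (MulAut.conj c).injective, ← hq]; exact hle)]
  exact P.S.isPGroup'.map _

/-- An elementary Sylow subgroup of small index gives the order `(q + 1) q (q - 1)`. -/
theorem card_group (hFT : CfsgLib.OddConseq.OddSolvable.{u})
    (hel : ∀ s ∈ (P.S : Subgroup G), s * s = 1) (hW : P.W = ⊥)
    (hn : P.M.index ≤ 3 * Nat.card ↥(P.S : Subgroup G)) :
    Nat.card G = (Nat.card ↥(P.S : Subgroup G) + 1) *
      (Nat.card ↥(P.S : Subgroup G) * (Nat.card ↥(P.S : Subgroup G) - 1)) := by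
  obtain ⟨q, hq⟩ : ∃ q, q = Nat.card ↥(P.S : Subgroup G) := ⟨_, rfl⟩
  obtain ⟨t, htS, ht⟩ := P.exists_invol
  have hCle : (P.S : Subgroup G) ≤ Subgroup.centralizer ({t} : Set G) := fun s hs =>
    Subgroup.mem_centralizer_singleton_iff.2 (P.comm s hs t htS)
  have hC : Subgroup.centralizer ({t} : Set G) = (P.S : Subgroup G) :=
    P.S.is_maximal' (P.isPGroup_centralizer hFT hel hW hn ht) hCle
  -- the index
  have hidx : P.M.index = q + 1 := by
    rw [← hq] at hn
    obtain ⟨l, hl⟩ := P.card_dvd_index_sub_one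
    rw [← hq] at hl
    have h1 := P.index_ne_one
    have h2 : 0 < P.M.index := Nat.pos_of_ne_zero Subgroup.index_ne_zero_of_finite
    have hl1 : 1 ≤ l := by
      rcases Nat.eq_zero_or_pos l with h | h
      · subst h; omega
      · exact h
    have hl3 : l < 3 := by
      by_contra h
      have : q * 3 ≤ q * l := Nat.mul_le_mul_left q (by omega)
      omega
    rcases (show l = 1 ∨ l = 2 by omega) with rfl | rfl
    · omega
    · exact (P.false_of_two_orbits hel hW (hq ▸ hn) ht (by rw [← hq]; omega)).elim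
  -- the involutions of `M`
  obtain ⟨J, hJ⟩ : ∃ J : Finset ↥P.M, J = univ.filter (fun v : ↥P.M => orderOf v = 2) := ⟨_, rfl⟩
  have hJcard : J.card + 1 = q := by
    rw [hq, ← card_insert_of_notMem (a := (1 : ↥P.M)) (s := J) (by simp [hJ]),
      ← Fintype.card_coe, ← Nat.card_eq_fintype_card]
    refine Nat.card_congr
      { toFun := fun v => ⟨((v : ↥P.M) : G), ?_⟩
        invFun := fun s => ⟨⟨(s : G), P.S_le_M s.2⟩, ?_⟩
        left_inv := fun v => rfl
        right_inv := fun s => rfl }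
    · rcases mem_insert.1 v.2 with e | e
      · rw [e]; exact one_mem _
      · have e2 : orderOf (v : ↥P.M) = 2 := by
          have := hJ.le e
          exact (mem_filter.1 this).2
        rw [← Subgroup.orderOf_coe] at e2
        exact P.invol_mem_S hW v.1.2 e2
    · by_cases h1 : (s : G) = 1
      · exact mem_insert.2 (Or.inl (Subtype.ext h1))
      · refine mem_insert_of_mem (hJ ▸ mem_filter.2 ⟨mem_univ _, ?_⟩)
        rw [← Subgroup.orderOf_coe]
        exact orderOf_eq_prime (hp := ⟨Nat.prime_two⟩) (by rw [pow_two]; exact hel _ s.2) h1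
  have hM : J.card * q = Nat.card ↥P.M := by
    have h := P.card_invol_M ht
    rw [hC, ← hq, ← hJ] at h
    exact_mod_cast h
  rw [← hq, ← P.M.card_mul_index, ← hM, hidx, show q - 1 = J.card by omega]
  ring

end Setup

end CfsgLib.AbelianSolv
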