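import Cfsg.Agent.Lib.OddConseq.AbelianSolv.Semi
import Cfsg.Agent.Lib.BSW.CharTools

/-!
# Linear characters of the Sylow 2-subgroup of `M / W`
-/

set_option autoImplicit false
set_option linter.unusedSectionVars false
set_option linter.style.haveILetI false

open Finset
open scoped ComplexConjugate

namespace CfsgLib.AbelianSolv

open Cfsg CfsgLib.Char

universe u

namespace Frame

variable {Γ : Type u} [Group Γ] [Finite Γ] (Φ : Frame Γ)

noncomputable instance commT : CommGroup ↥Φ.T :=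
  { (inferInstance : Group ↥Φ.T) with mul_comm := fun a b => Subtype.ext (Φ.comm _ a.2 _ b.2) }

/-- The linear characters of `T`. -/
abbrev Lin : Type u := ↥Φ.T →* ℂˣ

/-- Conjugation on `T`. -/
def cjT (g : Γ) : ↥Φ.T →* ↥Φ.T where
  toFun s := ⟨g * s * g⁻¹, Φ.normal.conj_mem _ s.2 g⟩
  map_one' := Subtype.ext (by simp)
  map_mul' s s' := Subtype.ext (by simp only [Subgroup.coe_mul]; group)

/-- The conjugate of a linear character. -/
def tw (g : Γ) (μ : Φ.Lin) : Φ.Lin := μ.comp (Φ.cjT g)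

theorem tw_apply (g : Γ) (μ : Φ.Lin) (s : ↥Φ.T) :
    Φ.tw g μ s = μ ⟨g * s * g⁻¹, Φ.normal.conj_mem _ s.2 g⟩ := rfl

theorem tw_tw (g h : Γ) (μ : Φ.Lin) : Φ.tw h (Φ.tw g μ) = Φ.tw (g * h) μ :=
  MonoidHom.ext fun s => congrArg μ (Subtype.ext (by
    show g * (h * s * h⁻¹) * g⁻¹ = g * h * s * (g * h)⁻¹
    group))

theorem tw_one (μ : Φ.Lin) : Φ.tw 1 μ = μ :=
  MonoidHom.ext fun s => congrArg μ (Subtype.ext (by show (1 : Γ) * s * 1⁻¹ = s; group))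

theorem tw_inv_tw (g : Γ) (μ : Φ.Lin) : Φ.tw g⁻¹ (Φ.tw g μ) = μ := by
  rw [tw_tw, mul_inv_cancel, tw_one]

theorem tw_mul (g : Γ) (μ ν : Φ.Lin) : Φ.tw g (μ * ν) = Φ.tw g μ * Φ.tw g ν := rfl

theorem tw_inv (g : Γ) (μ : Φ.Lin) : Φ.tw g μ⁻¹ = (Φ.tw g μ)⁻¹ := rfl

theorem tw_one_lin (g : Γ) : Φ.tw g (1 : Φ.Lin) = 1 := rfl

theorem tw_pow (g : Γ) (μ : Φ.Lin) (n : ℕ) : Φ.tw g (μ ^ n) = Φ.tw g μ ^ n :=
  MonoidHom.ext fun _ => rfl

/-- The stabilizer of a linear character. -/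
def stabL (μ : Φ.Lin) : Subgroup Γ where
  carrier := {g | Φ.tw g μ = μ}
  one_mem' := Φ.tw_one μ
  mul_mem' := fun {g h} hg hh => by
    show Φ.tw (g * h) μ = μ
    rw [← tw_tw, hg]; exact hh
  inv_mem' := fun {g} hg => by
    show Φ.tw g⁻¹ μ = μ
    nth_rewrite 1 [← hg]; exact Φ.tw_inv_tw g μ

theorem mem_stabL {μ : Φ.Lin} {g : Γ} : g ∈ Φ.stabL μ ↔ Φ.tw g μ = μ := Iff.rfl

theorem T_le_stabL (μ : Φ.Lin) : Φ.T ≤ Φ.stabL μ := fun t ht =>
  MonoidHom.ext fun s => congrArg μ (Subtype.ext (by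
    show t * (s : Γ) * t⁻¹ = s
    rw [Φ.comm t ht s s.2, mul_inv_cancel_right]))

theorem stabL_pow (μ : Φ.Lin) (n : ℕ) : Φ.stabL μ ≤ Φ.stabL (μ ^ n) := fun g hg => by
  rw [mem_stabL, tw_pow, hg]

theorem stabL_inv (μ : Φ.Lin) : Φ.stabL μ⁻¹ = Φ.stabL μ := by
  ext g
  rw [mem_stabL, mem_stabL, tw_inv]
  exact (inv_inj (a := Φ.tw g μ) (b := μ))

theorem stabL_one : Φ.stabL (1 : Φ.Lin) = ⊤ := top_unique fun g _ => Φ.tw_one_lin g

theorem val_mul_conj (μ : Φ.Lin) (s : ↥Φ.T) : (μ s : ℂ) * conj (μ s : ℂ) = 1 := by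
  letI := Fintype.ofFinite ↥Φ.T
  rw [CfsgLib.BSW.dual_conj, ← Units.val_mul, ← map_mul, mul_inv_cancel, map_one, Units.val_one]

/-- A character of order at least three is not conjugate to its inverse. -/
theorem tw_ne_inv {μ : Φ.Lin} (hμ : μ * μ ≠ 1) (g : Γ) : Φ.tw g μ ≠ μ⁻¹ := by
  intro h
  haveI := Φ.normal
  have h2 : g * g ∈ Φ.stabL μ := by
    rw [mem_stabL, ← tw_tw, h, tw_inv, h]
    exact inv_inv μ
  have hi : g ^ Φ.T.index ∈ Φ.stabL μ := Φ.T_le_stabL μ (Subgroup.pow_index_mem _ g)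
  obtain ⟨j, hj⟩ : Odd Φ.T.index := by
    rw [← Nat.not_even_iff_odd, even_iff_two_dvd]; exact Φ.odd_index
  have hg : g ∈ Φ.stabL μ := by
    have e : g = ((g * g) ^ j)⁻¹ * g ^ Φ.T.index := by
      rw [hj, pow_succ, pow_mul, pow_two, inv_mul_cancel_left]
    rw [e]
    exact mul_mem (inv_mem (pow_mem h2 j)) hi
  have e : μ = μ⁻¹ := hg.symm.trans h
  refine hμ ?_
  nth_rewrite 2 [e]
  exact mul_inv_cancel μ

/-- A non-elementary `T` is homocyclic: for some even `N` every involution is an `N`-th power and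
`2N` annihilates `T`. -/
theorem exists_height (hne : ∃ s ∈ Φ.T, s * s ≠ 1) :
    ∃ N : ℕ, 2 ∣ N ∧ (∀ s ∈ Φ.T, s ^ (2 * N) = 1) ∧ ∀ u : Γ, orderOf u = 2 → ∃ s ∈ Φ.T, s ^ N = u := by
  classical
  haveI : Fact (Nat.Prime 2) := ⟨Nat.prime_two⟩
  have hex : ∃ k : ℕ, ∀ s ∈ Φ.T, s ^ 2 ^ k = 1 := by
    obtain ⟨k, hk⟩ := IsPGroup.iff_card.1 Φ.two
    refine ⟨k, fun s hs => orderOf_dvd_iff_pow_eq_one.1 ?_⟩
    rw [← hk, ← Subgroup.orderOf_mk s hs]
    exact orderOf_dvd_natCard _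
  obtain ⟨k, hk⟩ : ∃ k, k = Nat.find hex := ⟨_, rfl⟩
  have hspec : ∀ s ∈ Φ.T, s ^ 2 ^ k = 1 := hk ▸ Nat.find_spec hex
  have hk2 : 2 ≤ k := by
    by_contra h
    obtain ⟨s, hs, hs1⟩ := hne
    refine hs1 ?_
    have := hspec s hs
    rcases Nat.eq_zero_or_pos k with h0 | h0
    · rw [h0, pow_zero, pow_one] at this; rw [this, one_mul]
    · rwa [show k = 1 by omega, pow_one, pow_two] at this
  obtain ⟨l, rfl⟩ : ∃ l, k = l + 2 := ⟨k - 2, by omega⟩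
  refine ⟨2 ^ (l + 1), Dvd.intro_left _ (pow_succ 2 l).symm, fun s hs => by
    rw [← pow_succ']; exact hspec s hs, fun u hu => ?_⟩
  obtain ⟨s, hs, hs1⟩ : ∃ s ∈ Φ.T, s ^ 2 ^ (l + 1) ≠ 1 := by
    by_contra h
    push Not at h
    exact Nat.find_min hex (show l + 1 < Nat.find hex by omega) h
  have hv : orderOf (s ^ 2 ^ (l + 1)) = 2 := orderOf_two_iff.2
    ⟨by rw [← pow_add, ← two_mul, ← pow_succ']; exact hspec s hs, hs1⟩
  obtain ⟨c, hc⟩ := isConj_iff.1 (Φ.trans _ u hv hu)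
  exact ⟨c * s * c⁻¹, Φ.normal.conj_mem _ hs c, by rw [conj_pow, hc]⟩

open scoped Classical in
include Φ in
/-- The square roots of an element of order at most two. -/
theorem card_roots {u : Γ} (hu : ∃ s ∈ Φ.T, s * s = u) (hu2 : u * u = 1) :
    Nat.card {s : Γ // s * s = u} = Nat.card ↥Φ.Om := by
  obtain ⟨w, hw, rfl⟩ := hu
  haveI := Φ.normal
  have hmem : ∀ s : Γ, s * s = w * w → s ∈ Φ.T := fun s hs =>
    mem_of_pow_two Φ.odd_index (k := 2) (by rw [show (2 : ℕ) ^ 2 = 2 * 2 from rfl, pow_mul, pow_two, pow_two, hs, hu2])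
  refine Nat.card_congr
    { toFun := fun s => ⟨(s : Γ) * w⁻¹, mul_mem (hmem s s.2) (inv_mem hw), ?_⟩
      invFun := fun v => ⟨(v : Γ) * w, ?_⟩
      left_inv := fun s => Subtype.ext (inv_mul_cancel_right _ _)
      right_inv := fun v => Subtype.ext (mul_inv_cancel_right _ _) }
  · calc (s : Γ) * w⁻¹ * ((s : Γ) * w⁻¹) = (s : Γ) * (w⁻¹ * s) * w⁻¹ := by group
      _ = (s : Γ) * s * w⁻¹ * w⁻¹ := by rw [Φ.comm w⁻¹ (inv_mem hw) s (hmem s s.2)]; group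
      _ = 1 := by rw [s.2]; group
  · calc (v : Γ) * w * ((v : Γ) * w) = (v : Γ) * (w * v) * w := by group
      _ = (v : Γ) * v * (w * w) := by rw [Φ.comm w hw v v.2.1]; group
      _ = w * w := by rw [v.2.2, one_mul]

open scoped Classical in
include Φ in
/-- `phiFun` vanishes at the involutions when these are squares. -/
theorem phiFun_invol_eq_zero {t : Γ} (ht : orderOf t = 2) (hsq : ∃ s ∈ Φ.T, s * s = t) :
    phiFun Γ t = 0 := by
  rw [phiFun, if_pos (by rw [ht]), Φ.card_roots hsq (orderOf_two_iff.1 ht).1, ← Φ.numInvol_add_one,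
    show commCount t = numInvol Γ from Nat.card_congr (Equiv.subtypeEquivRight fun v => and_iff_left_of_imp
      fun hv => Φ.comm v (Φ.mem_T_of_invol (orderOf_two_iff.1 hv).1) t
        (Φ.mem_T_of_invol (orderOf_two_iff.1 ht).1))]
  push_cast
  ring

/-- The data attached to an involution of a homocyclic `T`. -/
structure Seed (τ : Γ) where
  E : Stab Φ τ
  hτ : orderOf τ = 2
  commE : ∀ a b : ↥E.E, a * b = b * a
  μ₂ : Φ.Lin
  μ₄ : Φ.Lin
  sq₂ : μ₂ * μ₂ = 1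
  ne₂ : μ₂ ≠ 1
  sq₄ : μ₄ * μ₄ ≠ 1
  invol₂ : ∀ s : ↥Φ.T, s * s = 1 → μ₂ s = 1
  stab₂ : Φ.stabL μ₂ = Subgroup.centralizer ({τ} : Set Γ)
  stab₄ : Φ.stabL μ₄ = Subgroup.centralizer ({τ} : Set Γ)
  trans₂ : ∀ ν : Φ.Lin, ν * ν = 1 → ν ≠ 1 → ∃ g, Φ.tw g ν = μ₂
  tau₄ : ∀ h : τ ∈ Φ.T, (μ₄ ⟨τ, h⟩ : ℂ) = -1

open scoped Classical in
/-- The number of characters of `T` of order at most two. -/
theorem card_sq_one : Nat.card {ν : Φ.Lin // ν * ν = 1} = Nat.card ↥Φ.Om := by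
  obtain ⟨sq, hsq⟩ : ∃ sq : ↥Φ.T →* ↥Φ.T, sq = powMonoidHom 2 := ⟨_, rfl⟩
  have e1 : Nat.card {ν : Φ.Lin // ν * ν = 1} = Nat.card (↥Φ.T ⧸ sq.range →* ℂˣ) := by
    refine Nat.card_congr
      { toFun := fun ν => QuotientGroup.lift sq.range ν.1 ?_
        invFun := fun φ => ⟨φ.comp (QuotientGroup.mk' _), ?_⟩
        left_inv := fun ν => Subtype.ext (MonoidHom.ext fun s => rfl)
        right_inv := fun φ => QuotientGroup.monoidHom_ext _ (MonoidHom.ext fun s => rfl) }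
    · rintro _ ⟨s, rfl⟩
      rw [MonoidHom.mem_ker, hsq, powMonoidHom_apply, pow_two, map_mul]
      exact DFunLike.congr_fun ν.2 s
    · refine MonoidHom.ext fun s => ?_
      show φ (QuotientGroup.mk' _ s) * φ (QuotientGroup.mk' _ s) = 1
      rw [← map_mul, ← map_mul, show QuotientGroup.mk' sq.range (s * s) = 1 from
        (QuotientGroup.eq_one_iff (N := sq.range) (s * s)).2
          ⟨s, by rw [hsq, powMonoidHom_apply, pow_two]⟩, map_one]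
  letI := Fintype.ofFinite (↥Φ.T ⧸ sq.range)
  rw [e1, CfsgLib.BSW.card_dual]
  have h1 := Subgroup.card_eq_card_quotient_mul_card_subgroup sq.range
  have h2 := Subgroup.card_eq_card_quotient_mul_card_subgroup sq.ker
  rw [← Subgroup.index_eq_card, Subgroup.index_ker, h1, mul_comm] at h2
  rw [Nat.eq_of_mul_eq_mul_left Nat.card_pos h2]
  refine Nat.card_congr ((Equiv.subtypeEquivRight fun s => ?_).trans
    (Equiv.subtypeSubtypeEquivSubtypeInter (fun s : Γ => s ∈ Φ.T) (fun s : Γ => s * s = 1)))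
  rw [MonoidHom.mem_ker, hsq, powMonoidHom_apply, pow_two, Subtype.ext_iff]
  rfl

theorem sq_eq_one_iff {z : ℂˣ} : z * z = 1 ↔ (z : ℂ) = 1 ∨ (z : ℂ) = -1 := by
  rw [← mul_self_eq_one_iff, ← Units.val_mul, ← Units.val_eq_one]

open scoped Classical in
theorem exists_seed {τ : Γ} (hτ : orderOf τ = 2) (E : Stab Φ τ) (hE : ∀ a b : ↥E.E, a * b = b * a)
    (hne : ∃ s ∈ Φ.T, s * s ≠ 1) : Nonempty (Seed Φ τ) := by
  letI := Fintype.ofFinite Γ
  obtain ⟨N, hN2, hN, hroot⟩ := Φ.exists_height hne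
  have hτT : τ ∈ Φ.T := Φ.mem_T_of_invol (orderOf_two_iff.1 hτ).1
  obtain ⟨τ', hτ'⟩ : ∃ τ' : ↥Φ.T, τ' = ⟨τ, hτT⟩ := ⟨_, rfl⟩
  have hsqT : ∀ z : ↥Φ.T, (z : Γ) * z = 1 → z * z = 1 := fun z h => Subtype.ext h
  obtain ⟨μ₀, hμ₀⟩ := CommGroup.exists_apply_ne_one_of_hasEnoughRootsOfUnity ↥Φ.T ℂ (a := τ')
    (fun e => (orderOf_two_iff.1 hτ).2 (by rw [hτ'] at e; exact congrArg Subtype.val e))
  have hμ₀' : (μ₀ τ' : ℂ) = -1 := by
    have h : μ₀ τ' * μ₀ τ' = 1 := by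
      rw [← map_mul, hsqT τ' (by rw [hτ']; exact (orderOf_two_iff.1 hτ).1), map_one]
    exact (sq_eq_one_iff.1 h).resolve_left fun e => hμ₀ (Units.ext e)
  obtain ⟨μ₄, hμ₄⟩ : ∃ μ₄ : Φ.Lin, μ₄ = ∏ x : ↥E.E, Φ.tw x μ₀ := ⟨_, rfl⟩
  have happ : ∀ s, μ₄ s = ∏ x : ↥E.E, Φ.tw x μ₀ s := fun s => by
    rw [hμ₄, MonoidHom.finsetProd_apply]
  have hfixτ : ∀ g ∈ Subgroup.centralizer ({τ} : Set Γ),
      (⟨g * τ * g⁻¹, Φ.normal.conj_mem _ hτT g⟩ : ↥Φ.T) = τ' := fun g hg => by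
    rw [hτ']; exact Subtype.ext (by
      show g * τ * g⁻¹ = τ
      rw [Subgroup.mem_centralizer_singleton_iff.1 hg, mul_inv_cancel_right])
  have hμ₄τ : (μ₄ τ' : ℂ) = -1 := by
    have h : ∀ x : ↥E.E, Φ.tw x μ₀ τ' = μ₀ τ' := fun x => by
      rw [tw_apply]; congr 1; rw [hτ']; exact (hfixτ x (E.le x.2)).trans hτ'
    rw [happ, Finset.prod_congr rfl fun x _ => h x, Finset.prod_const, card_univ,
      ← Nat.card_eq_fintype_card, Units.val_pow_eq_pow_val, hμ₀']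
    exact (Nat.not_even_iff_odd.1 fun h => E.odd_card (even_iff_two_dvd.1 h)).neg_one_pow
  have hstab4 : Subgroup.centralizer ({τ} : Set Γ) ≤ Φ.stabL μ₄ := by
    intro g hg
    obtain ⟨s, hs, y, hy, rfl⟩ := E.split g hg
    refine mul_mem (Φ.T_le_stabL _ hs) ?_
    refine Φ.mem_stabL.2 (MonoidHom.ext fun z => ?_)
    rw [tw_apply, happ, happ]
    refine Fintype.prod_equiv (Equiv.mulRight (⟨y, hy⟩ : ↥E.E)) _ _ fun x => ?_
    rw [← tw_apply, tw_tw]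
    rfl
  obtain ⟨μ₂, hμ₂⟩ : ∃ μ₂ : Φ.Lin, μ₂ = μ₄ ^ N := ⟨_, rfl⟩
  have hμ₂app : ∀ s, μ₂ s = μ₄ (s ^ N) := fun s => by rw [hμ₂, MonoidHom.pow_apply, map_pow]
  obtain ⟨w, hwT, hw⟩ := hroot τ hτ
  have hwN : μ₂ ⟨w, hwT⟩ = μ₄ τ' := by
    rw [hμ₂app]; congr 1; rw [hτ']; exact Subtype.ext hw
  have hsq2 : μ₂ * μ₂ = 1 := MonoidHom.ext fun s => by
    rw [MonoidHom.mul_apply, hμ₂app, ← map_mul, ← pow_add, ← two_mul,
      show s ^ (2 * N) = 1 from Subtype.ext (by rw [SubgroupClass.coe_pow]; exact hN s s.2), map_one]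
    rfl
  have hne2 : μ₂ ≠ 1 := fun e => by
    have h := congrArg Units.val hwN
    rw [hμ₄τ, e] at h
    simp at h
    norm_num at h
  have hle : Φ.stabL μ₄ ≤ Φ.stabL μ₂ := hμ₂ ▸ Φ.stabL_pow μ₄ N
  have heq : Φ.stabL μ₂ = Subgroup.centralizer ({τ} : Set Γ) := by
    -- an involution fixed by the stabilizer
    obtain ⟨A, hA⟩ := Φ.exists_complement
    obtain ⟨L, hL⟩ : ∃ L : Subgroup Γ, L = A ⊓ Φ.stabL μ₂ := ⟨_, rfl⟩
    obtain ⟨b, hb⟩ : ∃ b : ↥Φ.T, b = ∏ a : ↥L, Φ.cjT a ⟨w, hwT⟩ := ⟨_, rfl⟩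
    have hLodd : Odd (Nat.card ↥L) := by
      refine Nat.not_even_iff_odd.1 fun h => ?_
      haveI : Fact (Nat.Prime 2) := ⟨Nat.prime_two⟩
      obtain ⟨x, hx⟩ := exists_prime_orderOf_dvd_card' (G := ↥L) 2 (even_iff_two_dvd.1 h)
      rw [← Subgroup.orderOf_coe] at hx
      have h1 : (x : Γ) = 1 := Subgroup.mem_bot.1 (hA.disjoint.le_bot
        ⟨Φ.mem_T_of_invol (orderOf_two_iff.1 hx).1, (Subgroup.mem_inf.1 (hL.le x.2)).1⟩)
      exact (orderOf_two_iff.1 hx).2 h1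
    have hb2 : (μ₂ b : ℂ) = -1 := by
      have h : ∀ a : ↥L, μ₂ (Φ.cjT a ⟨w, hwT⟩) = μ₂ ⟨w, hwT⟩ := fun a =>
        DFunLike.congr_fun (Φ.mem_stabL.1 (Subgroup.mem_inf.1 (hL.le a.2)).2) _
      rw [hb, map_prod, Finset.prod_congr rfl fun a _ => h a, Finset.prod_const, card_univ,
        ← Nat.card_eq_fintype_card, Units.val_pow_eq_pow_val, hwN, hμ₄τ]
      exact hLodd.neg_one_pow
    have hbN : ((b ^ N : ↥Φ.T) : Γ) * (b ^ N : ↥Φ.T) = 1 := by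
      rw [SubgroupClass.coe_pow, ← pow_add, ← two_mul]; exact hN _ b.2
    have hu : orderOf ((b ^ N : ↥Φ.T) : Γ) = 2 := orderOf_two_iff.2 ⟨hbN, fun e => by
      rw [hμ₂app, show b ^ N = 1 from Subtype.ext e, map_one, Units.val_one] at hb2
      norm_num at hb2⟩
    have hLfix : ∀ a : ↥L, Φ.cjT a b = b := fun a => by
      rw [hb, map_prod]
      refine Fintype.prod_equiv (Equiv.mulLeft a) _ _ fun x => Subtype.ext ?_
      show (a : Γ) * ((x : Γ) * w * (x : Γ)⁻¹) * (a : Γ)⁻¹ = ((a * x : ↥L) : Γ) * w * ((a * x : ↥L) : Γ)⁻¹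
      rw [Subgroup.coe_mul]; group
    have hsub : Φ.stabL μ₂ ≤ Subgroup.centralizer ({((b ^ N : ↥Φ.T) : Γ)} : Set Γ) := by
      intro g hg
      obtain ⟨⟨⟨s, hs⟩, ⟨a, ha⟩⟩, rfl⟩ := hA.2 g
      refine mul_mem (Φ.T_le_centralizer hu hs) ?_
      have haL : a ∈ L := by
        rw [hL]
        refine Subgroup.mem_inf.2 ⟨ha, ?_⟩
        have := mul_mem (inv_mem (Φ.T_le_stabL μ₂ hs)) hg
        rwa [inv_mul_cancel_left] at this
      have h := congrArg Subtype.val (congrArg (· ^ N) (hLfix ⟨a, haL⟩))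
      rw [← map_pow] at h
      exact Subgroup.mem_centralizer_singleton_iff.2 (mul_inv_eq_iff_eq_mul.1 h)
    refine (Subgroup.eq_of_le_of_card_ge (hstab4.trans hle) ?_).symm
    refine (Subgroup.card_le_of_le hsub).trans (le_of_eq ?_)
    exact Nat.eq_of_mul_eq_mul_left (show 0 < numInvol Γ by have := Φ.seven_le_numInvol; omega)
      ((Φ.card_centralizer_mul hu).trans (Φ.card_centralizer_mul hτ).symm)
  refine ⟨⟨E, hτ, hE, μ₂, μ₄, hsq2, hne2, fun e => ?_, fun s hs => ?_, heq,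
    le_antisymm (heq ▸ hle) hstab4, fun ν hν hν1 => ?_, fun h => ?_⟩⟩
  · obtain ⟨m, rfl⟩ := hN2
    refine hne2 (hμ₂.trans (MonoidHom.ext fun s => ?_))
    rw [MonoidHom.pow_apply, pow_mul, pow_two, ← MonoidHom.mul_apply, e, MonoidHom.one_apply, one_pow]
  · obtain ⟨m, hm⟩ := hN2
    rw [hμ₂app, hm, pow_mul, pow_two, hs, one_pow, map_one]
  · -- the conjugates of `μ₂` are all the characters of order two
    have hc : ∀ u : {u : Γ // orderOf u = 2}, ∃ c, c⁻¹ * τ * c = (u : Γ) := fun u => by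
      obtain ⟨c, hc⟩ := isConj_iff.1 (Φ.trans τ u hτ u.2)
      exact ⟨c⁻¹, by rw [inv_inv]; exact hc⟩
    choose c hc using hc
    let f : {u : Γ // orderOf u = 2} → {ν : Φ.Lin // ν * ν = 1 ∧ ν ≠ 1} := fun u =>
      ⟨Φ.tw (c u) μ₂, by rw [← tw_mul, hsq2, tw_one_lin], fun e => hne2 (by
        rw [← Φ.tw_inv_tw (c u) μ₂, e, tw_one_lin])⟩
    have hinj : Function.Injective f := by
      intro a b e
      have e' : Φ.tw (c a) μ₂ = Φ.tw (c b) μ₂ := congrArg Subtype.val e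
      have hmem : c b * (c a)⁻¹ ∈ Φ.stabL μ₂ := by
        rw [mem_stabL, ← tw_tw, ← e', tw_inv_tw]
      rw [heq, Subgroup.mem_centralizer_singleton_iff] at hmem
      refine Subtype.ext ?_
      rw [← hc a, ← hc b]
      calc (c a)⁻¹ * τ * c a = (c b)⁻¹ * (c b * (c a)⁻¹ * τ) * c a := by group
        _ = (c b)⁻¹ * τ * c b := by rw [hmem]; group
    have hcard : Nat.card {ν : Φ.Lin // ν * ν = 1 ∧ ν ≠ 1} + 1 = Nat.card ↥Φ.Om := by
      rw [← Φ.card_sq_one, Nat.card_eq_fintype_card, Nat.card_eq_fintype_card, Fintype.card_subtype,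
        Fintype.card_subtype, ← card_insert_of_notMem (a := (1 : Φ.Lin)) (by simp)]
      congr 1
      ext μ
      by_cases h : μ = 1
      · subst h; simp
        exact MonoidHom.ext fun _ => one_mul _
      · simp [h]
    have hbij : Function.Bijective f := (Nat.bijective_iff_injective_and_card f).2 ⟨hinj, by
      have := Φ.numInvol_add_one
      rw [numInvol] at this
      omega⟩
    obtain ⟨u, hu⟩ := hbij.2 ⟨ν, hν, hν1⟩
    exact ⟨(c u)⁻¹, by rw [← show Φ.tw (c u) μ₂ = ν from congrArg Subtype.val hu, tw_inv_tw]⟩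
  · rw [show (⟨τ, h⟩ : ↥Φ.T) = τ' from hτ'.symm, hμ₄τ]

end Frame

end CfsgLib.AbelianSolv
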